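import Groth.Prelude.Def_AlgSpRep
import Mathlib.AlgebraicGeometry.Sites.Fpqc
import Mathlib.AlgebraicGeometry.Morphisms.UniversallyOpen
import Mathlib.AlgebraicGeometry.Morphisms.Flat
import Mathlib.AlgebraicGeometry.Morphisms.FinitePresentation

/-!
# helper50: working with covering sieves of the big fppf (and Zariski) site over `S`

* `exists_fppf_of_mem_J`: a covering sieve of `AlgSp.J S` contains, through every point, a flat
  morphism locally of finite presentation;
* `mem_over_of_family`, `mem_J_of_fppf_family`, `mem_zariski_of_family`: a sieve containing a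
  jointly surjective family of `P`-morphisms is covering;
* `exists_open_image`: a flat, locally finitely presented morphism factors as a surjective such
  morphism followed by an open immersion.
-/

set_option autoImplicit false
universe u
open CategoryTheory CategoryTheory.Limits AlgebraicGeometry Opposite

namespace Groth.Agent.H50

open AlgSp

variable {S : Scheme.{u}}

/-- A covering sieve for the fppf topology over `S` contains, through every point of the base, a
flat morphism locally of finite presentation. -/
theorem exists_fppf_of_mem_J {T : Over S} {R : Sieve T} (hR : R ∈ J S T) (τ : T.left) :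
    ∃ (T' : Over S) (g : T' ⟶ T), R g ∧ Flat g.left ∧ LocallyOfFinitePresentation g.left ∧
      ∃ t' : T'.left, g.left t' = τ := by
  have : Scheme.fppfPrecoverage.{u}.HasIsos := by
    unfold Scheme.fppfPrecoverage
    have h1 : (@Flat ⊓ @LocallyOfFinitePresentation : MorphismProperty Scheme.{u}).ContainsIdentities :=
      ⟨fun X => ⟨inferInstance, inferInstance⟩⟩
    have h2 : (@Flat ⊓ @LocallyOfFinitePresentation : MorphismProperty Scheme.{u}).RespectsIso :=
      inferInstance
    infer_instance
  rw [J_eq, GrothendieckTopology.mem_over_iff,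
    Precoverage.mem_toGrothendieck_iff_of_isStableUnderComposition] at hR
  obtain ⟨R', hR', hle⟩ := hR
  have h1 : R' ∈ Scheme.jointlySurjectivePrecoverage T.left := hR'.1
  have h2 : R' ∈ (@Flat ⊓ @LocallyOfFinitePresentation :
      MorphismProperty Scheme.{u}).precoverage T.left := hR'.2
  rw [Presieve.mem_comap_jointlySurjectivePrecoverage_iff] at h1
  obtain ⟨Y, f, hf, t', ht'⟩ := h1 τ
  have hPf := h2 hf
  have hRf := hle _ _ hf
  rw [Sieve.overEquiv_iff] at hRf
  exact ⟨Over.mk (f ≫ T.hom), Over.homMk f rfl, hRf, hPf.1, hPf.2, t', ht'⟩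

/-- A sieve on `T` (over `S`) containing a jointly surjective family of `P`-morphisms is covering
for the topology over `S` generated by `Scheme.precoverage P`. -/
theorem mem_over_of_family (P : MorphismProperty Scheme.{u}) {T : Over S} {A : Type*}
    (W : A → Over S) (g : ∀ a, W a ⟶ T)
    (hsurj : ∀ τ : T.left, ∃ (a : A) (y : (W a).left), (g a).left y = τ)
    (hP : ∀ a, P (g a).left) (Z : Sieve T) (hZ : ∀ a, Z (g a)) :
    Z ∈ QuotSh.J (Scheme.precoverage P) S T := by
  rw [GrothendieckTopology.mem_over_iff]
  have hmem : Presieve.ofArrows (fun a => (W a).left) (fun a => (g a).left) ∈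
      Scheme.precoverage P T.left := by
    rw [Scheme.ofArrows_mem_precoverage_iff]
    exact ⟨fun τ => by obtain ⟨a, y, hy⟩ := hsurj τ; exact ⟨a, y, hy⟩, hP⟩
  refine (Scheme.precoverage P).toGrothendieck.superset_covering ?_
    (Precoverage.generate_mem_toGrothendieck hmem)
  rw [Sieve.generate_le_iff]
  rintro _ _ ⟨a⟩
  rw [Sieve.overEquiv_iff]
  have e : (Over.homMk (g a).left : Over.mk ((g a).left ≫ T.hom) ⟶ T) =
      (Over.homMk (𝟙 _) (by simp) : Over.mk ((g a).left ≫ T.hom) ⟶ W a) ≫ g a := by
    ext
    simp
  rw [e]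
  exact Z.downward_closed (hZ a) _

/-- A sieve containing a jointly surjective family of flat morphisms locally of finite
presentation is covering for the fppf topology over `S`. -/
theorem mem_J_of_fppf_family {T : Over S} {A : Type*} (Y : A → Over S) (g : ∀ a, Y a ⟶ T)
    (hsurj : ∀ τ : T.left, ∃ (a : A) (y : (Y a).left), (g a).left y = τ)
    (hfl : ∀ a, Flat (g a).left) (hfp : ∀ a, LocallyOfFinitePresentation (g a).left)
    (Z : Sieve T) (hZ : ∀ a, Z (g a)) : Z ∈ J S T :=
  mem_over_of_family (@Flat ⊓ @LocallyOfFinitePresentation) Y g hsurj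
    (fun a => ⟨hfl a, hfp a⟩) Z hZ

/-- A sieve containing a jointly surjective family of open immersions is covering for the Zariski
topology over `S`. -/
theorem mem_zariski_of_family {T : Over S} {A : Type*} (Y : A → Over S) (g : ∀ a, Y a ⟶ T)
    (hsurj : ∀ τ : T.left, ∃ (a : A) (y : (Y a).left), (g a).left y = τ)
    (hP : ∀ a, IsOpenImmersion (g a).left)
    (Z : Sieve T) (hZ : ∀ a, Z (g a)) : Z ∈ QuotSh.J Scheme.zariskiPrecoverage S T :=
  mem_over_of_family @IsOpenImmersion Y g hsurj hP Z hZ

/-- A flat morphism locally of finite presentation (over `S`) factors as a surjective flat morphism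
locally of finite presentation followed by an open immersion. -/
theorem exists_open_image {T' T : Over S} (g : T' ⟶ T) [Flat g.left]
    [LocallyOfFinitePresentation g.left] :
    ∃ (U : Over S) (ι : U ⟶ T) (g' : T' ⟶ U), g' ≫ ι = g ∧ IsOpenImmersion ι.left ∧
      Flat g'.left ∧ LocallyOfFinitePresentation g'.left ∧ Surjective g'.left := by
  let V : T.left.Opens := ⟨Set.range g.left, g.left.isOpenMap.isOpen_range⟩
  have hsub : Set.range g.left ⊆ Set.range V.ι := by
    rw [Scheme.Opens.range_ι]
    exact subset_rfl
  have hl : IsOpenImmersion.lift V.ι g.left hsub ≫ V.ι = g.left :=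
    IsOpenImmersion.lift_fac _ _ _
  have hw : IsOpenImmersion.lift V.ι g.left hsub ≫ (Over.mk (V.ι ≫ T.hom)).hom = T'.hom := by
    change IsOpenImmersion.lift V.ι g.left hsub ≫ (V.ι ≫ T.hom) = T'.hom
    rw [← Category.assoc, hl, Over.w]
  refine ⟨Over.mk (V.ι ≫ T.hom), Over.homMk V.ι rfl,
    Over.homMk (IsOpenImmersion.lift V.ι g.left hsub) hw, ?_, ?_, ?_, ?_, ?_⟩
  · ext
    simp [hl]
  · change IsOpenImmersion V.ι
    infer_instance
  · change Flat (IsOpenImmersion.lift V.ι g.left hsub)
    refine MorphismProperty.of_postcomp (W := @Flat) (W' := @IsOpenImmersion) _ V.ι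
      inferInstance ?_
    rw [hl]
    infer_instance
  · change LocallyOfFinitePresentation (IsOpenImmersion.lift V.ι g.left hsub)
    refine MorphismProperty.of_postcomp (W := @LocallyOfFinitePresentation)
      (W' := @IsOpenImmersion) _ V.ι inferInstance ?_
    rw [hl]
    infer_instance
  · change Surjective (IsOpenImmersion.lift V.ι g.left hsub)
    refine ⟨fun u => ?_⟩
    have hu : V.ι u ∈ Set.range g.left := by
      have : V.ι u ∈ Set.range V.ι := ⟨u, rfl⟩
      rw [Scheme.Opens.range_ι] at this
      exact this
    obtain ⟨t', ht'⟩ := hu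
    refine ⟨t', V.ι.isOpenEmbedding.injective ?_⟩
    rw [← Scheme.Hom.comp_apply, hl, ht']

end Groth.Agent.H50
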