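import Groth.Agent.H50.ImmDesc
import Groth.Agent.H50.Fppf
import Mathlib.AlgebraicGeometry.Limits

/-!
# helper50: coproducts of schemes as charts; Zariski gluing of representable immersions
-/

set_option autoImplicit false
universe u
open CategoryTheory CategoryTheory.Limits AlgebraicGeometry Opposite

namespace Groth.Agent.H50

open AlgSp Groth.Agent.H52

variable {S : Scheme.{u}}

/-- The coproduct of a family of schemes over `S`. -/
noncomputable abbrev sigmaOver {ι : Type u} (T : ι → Over S) : Over S :=
  Over.mk (Sigma.desc fun k => (T k).hom)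

/-- The coprojections of the coproduct of a family of schemes over `S`. -/
noncomputable abbrev sigmaOverι {ι : Type u} (T : ι → Over S) (k : ι) : T k ⟶ sigmaOver T :=
  Over.homMk (Sigma.ι (fun k => (T k).left) k) (by simp)

instance isOpenImmersion_sigmaOverι {ι : Type u} (T : ι → Over S) (k : ι) :
    IsOpenImmersion (sigmaOverι T k).left :=
  inferInstanceAs (IsOpenImmersion (Sigma.ι (fun k => (T k).left) k))

instance mono_sigmaOverι {ι : Type u} (T : ι → Over S) (k : ι) : Mono (sigmaOverι T k) := by
  have h1 : Mono (sigmaOverι T k).left := inferInstance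
  exact (Over.forget S).mono_of_mono_map h1

/-- Every point of the coproduct lies in a component. -/
theorem exists_sigmaOverι_eq {ι : Type u} (T : ι → Over S) (x : ↥(sigmaOver T).left) :
    ∃ (k : ι) (y : ↥(T k).left), (sigmaOverι T k).left y = x :=
  (sigmaOpenCover fun k => (T k).left).exists_eq x

/-- Morphisms from the empty scheme to a sheaf are equal. -/
theorem hom_ext_of_isEmpty {F : Sp S} {T : Over S} [IsEmpty ↥T.left] (a b : (yon S).obj T ⟶ F) :
    a = b := by
  refine hom_ext_of_local a b (Sg := ⊥) ?_ ?_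
  · exact mem_J_of_fppf_family (A := PEmpty.{1}) (fun e => e.elim) (fun e => e.elim)
      (fun τ => (IsEmpty.false τ).elim) (fun e => e.elim) (fun e => e.elim) ⊥ (fun e => e.elim)
  · intro T' f hf
    exact hf.elim

/-- A morphism to a coproduct of schemes factors, locally for the fppf (even Zariski) topology, through the
components. -/
theorem exists_sieve_sigmaOver {ι : Type u} (V : ι → Over S) {T : Over S} (β : T ⟶ sigmaOver V) :
    ∃ Sg ∈ J S T, ∀ ⦃T₃ : Over S⦄ (f : T₃ ⟶ T), Sg f →
      ∃ (k : ι) (βk : T₃ ⟶ V k), βk ≫ sigmaOverι V k = f ≫ β := by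
  let Sg : Sieve T :=
    { arrows := fun T₃ f => ∃ (k : ι) (βk : T₃ ⟶ V k), βk ≫ sigmaOverι V k = f ≫ β
      downward_closed := by
        rintro T₃ T₄ f ⟨k, βk, h⟩ g
        exact ⟨k, g ≫ βk, by rw [Category.assoc, h, Category.assoc]⟩ }
  refine ⟨Sg, ?_, fun T₃ f hf => hf⟩
  let O : ι → T.left.Opens := fun k => β.left ⁻¹ᵁ (sigmaOverι V k).left.opensRange
  refine mem_J_of_fppf_family (fun k => opensOver T (O k)) (fun k => opensOverι T (O k)) ?_
    (fun k => inferInstanceAs (Flat (O k).ι))
    (fun k => inferInstanceAs (LocallyOfFinitePresentation (O k).ι)) Sg ?_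
  · intro τ
    obtain ⟨k, y, hy⟩ := exists_sigmaOverι_eq V (β.left τ)
    exact ⟨k, ⟨τ, ⟨y, hy⟩⟩, rfl⟩
  · intro k
    have hsub : Set.range ((O k).ι ≫ β.left) ⊆ Set.range (sigmaOverι V k).left := by
      rintro _ ⟨t, rfl⟩
      exact t.2
    have h1 := IsOpenImmersion.lift_fac (sigmaOverι V k).left ((O k).ι ≫ β.left) hsub
    refine ⟨k, Over.homMk (IsOpenImmersion.lift (sigmaOverι V k).left ((O k).ι ≫ β.left) hsub) ?_, ?_⟩
    · calc IsOpenImmersion.lift (sigmaOverι V k).left ((O k).ι ≫ β.left) hsub ≫ (V k).hom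
          = IsOpenImmersion.lift (sigmaOverι V k).left ((O k).ι ≫ β.left) hsub ≫
              ((sigmaOverι V k).left ≫ (sigmaOver V).hom) := by rw [Over.w]
        _ = ((O k).ι ≫ β.left) ≫ (sigmaOver V).hom := by rw [← Category.assoc, h1]
        _ = (O k).ι ≫ T.hom := by rw [Category.assoc, Over.w]
    · apply Over.OverMorphism.ext
      exact h1

/-- Morphisms from a coproduct of schemes to a sheaf are determined by their components. -/
theorem hom_ext_sigmaOver {ι : Type u} (T : ι → Over S) {F : Sp S}
    (a b : (yon S).obj (sigmaOver T) ⟶ F)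
    (h : ∀ k, (yon S).map (sigmaOverι T k) ≫ a = (yon S).map (sigmaOverι T k) ≫ b) : a = b := by
  obtain ⟨Sg, hSg, hl⟩ := exists_sieve_sigmaOver T (𝟙 (sigmaOver T))
  refine hom_ext_of_local a b hSg (fun T₃ f hf => ?_)
  obtain ⟨k, βk, hβ⟩ := hl f hf
  rw [Category.comp_id] at hβ
  rw [← hβ, Functor.map_comp, Category.assoc, Category.assoc, h k]

/-- Morphisms from a coproduct of schemes to a sheaf can be defined componentwise. -/
theorem exists_desc_sigmaOver {ι : Type u} (T : ι → Over S) {F : Sp S}
    (x : ∀ k, (yon S).obj (T k) ⟶ F) :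
    ∃ x' : (yon S).obj (sigmaOver T) ⟶ F, ∀ k, (yon S).map (sigmaOverι T k) ≫ x' = x k := by
  have hF : Presieve.IsSheaf (J S) F.obj := (isSheaf_iff_isSheaf_of_type _ _).1 F.property
  have hmem : Sieve.generate (Presieve.ofArrows T (sigmaOverι T)) ∈ J S (sigmaOver T) :=
    mem_J_of_fppf_family T (sigmaOverι T) (fun τ => exists_sigmaOverι_eq T τ)
      (fun k => inferInstance) (fun k => inferInstance) _
      (fun k => ⟨_, 𝟙 _, sigmaOverι T k, Presieve.ofArrows.mk k, Category.id_comp _⟩)
  have hsf := hF.isSheafFor (Presieve.ofArrows T (sigmaOverι T)) hmem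
  rw [Presieve.isSheafFor_arrows_iff] at hsf
  have hcompat : Presieve.Arrows.Compatible F.obj (sigmaOverι T) (fun k => yonEquiv (x k)) := by
    intro i j Z gi gj hcomm
    apply (yonEquiv (S := S) (F := F) (T := Z)).symm.injective
    rw [← yon_map_comp_yonEquiv_symm, ← yon_map_comp_yonEquiv_symm]
    by_cases hij : i = j
    · subst hij
      rw [(cancel_mono (sigmaOverι T i)).1 hcomm]
    · have hl : gi.left ≫ Sigma.ι (fun k => (T k).left) i = gj.left ≫ Sigma.ι (fun k => (T k).left) j :=
        congrArg CommaMorphism.left hcomm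
      haveI : IsEmpty ↥Z.left := isEmpty_of_commSq_sigmaι_of_ne ⟨hl⟩ hij
      exact hom_ext_of_isEmpty _ _
  obtain ⟨t, ht, -⟩ := hsf (fun k => yonEquiv (x k)) hcompat
  refine ⟨yonEquiv.symm t, fun k => ?_⟩
  rw [yon_map_comp_yonEquiv_symm, ht k, Equiv.symm_apply_apply]

/-- A coproduct of morphisms with a property local on the target has the property. -/
theorem sigmaMap_of_isZariskiLocalAtTarget (P : MorphismProperty Scheme.{u}) [IsZariskiLocalAtTarget P]
    {ι : Type u} (W V : ι → Scheme.{u}) (w : ∀ k, W k ⟶ V k) (hw : ∀ k, P (w k)) :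
    P (Limits.Sigma.map w) := by
  refine IsZariskiLocalAtTarget.of_openCover (sigmaOpenCover V) (fun k => ?_)
  have hcomm : Sigma.ι W k ≫ Limits.Sigma.map w = w k ≫ Sigma.ι V k := Sigma.ι_map _ _
  have hpt : ∀ (l : ι) (z' : ↥(W l)), Limits.Sigma.map w (Sigma.ι W l z') = Sigma.ι V l (w l z') := by
    intro l z'
    rw [← Scheme.Hom.comp_apply, ← Scheme.Hom.comp_apply, Sigma.ι_map]
  have hpre : Limits.Sigma.map w ⁻¹ᵁ (Sigma.ι V k).opensRange = (Sigma.ι W k).opensRange := by
    ext z
    constructor
    · intro hz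
      obtain ⟨l, z', rfl⟩ := (sigmaOpenCover W).exists_eq z
      obtain ⟨y, hy⟩ := hz
      have hy' : Sigma.ι V k y = Sigma.ι V l (w l z') := hy.trans (hpt l z')
      have h2 := (sigmaι_eq_iff V k l y (w l z')).1 hy'
      obtain rfl : k = l := congrArg Sigma.fst h2
      exact ⟨z', rfl⟩
    · rintro ⟨z', rfl⟩
      exact ⟨w k z', (hpt k z').symm⟩
  have sq : IsPullback (w k) (Sigma.ι W k) (Sigma.ι V k) (Limits.Sigma.map w) :=
    IsOpenImmersion.isPullback (w k) (Sigma.ι W k) (Sigma.ι V k) (Limits.Sigma.map w) hcomm hpre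
  change P (pullback.snd (Limits.Sigma.map w) (Sigma.ι V k))
  rw [← sq.flip.isoPullback_inv_snd]
  exact (P.cancel_left_of_respectsIso _ _).2 (hw k)

/-- Being representable by closed immersions, open immersions or immersions descends along an etale surjective
chart of the target (for arbitrary sheaves). -/
theorem repWith_immersion_of_isPullback_chart (P : MorphismProperty Scheme.{u})
    (hP : P = @IsClosedImmersion ∨ P = @IsOpenImmersion ∨ P = @IsImmersion) {X Y : Sp S} (f : X ⟶ Y)
    {V W' : Over S} (p : (yon S).obj V ⟶ Y) (hp : RepWith @Etale p) (hps : RepWith @Surjective p)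
    (j : W' ⟶ V) (hj : P j.left) (q : (yon S).obj W' ⟶ X) (sq : IsPullback q ((yon S).map j) f p) :
    RepWith P f := by
  haveI : Epi p := epi_of_etale_surjective p hp hps
  have hmonoP : ∀ ⦃A B : Scheme.{u}⦄ (g : A ⟶ B), P g → Mono g := by
    intro A B g hg
    rcases hP with rfl | rfl | rfl
    · have : IsClosedImmersion g := hg
      infer_instance
    · have : IsOpenImmersion g := hg
      infer_instance
    · have : IsImmersion g := hg
      infer_instance
  haveI hml : Mono j.left := hmonoP _ hj
  haveI : Mono ((yon S).map j) := mono_yon_map _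
  haveI : Mono f := mono_of_isPullback_of_epi sq
  have hθ : (Over.isoMk (Iso.refl _) (by simp) : Over.mk (j.left ≫ V.hom) ≅ W').hom ≫ j =
      (Over.homMk j.left rfl : Over.mk (j.left ≫ V.hom) ⟶ V) := by
    apply Over.OverMorphism.ext
    simp
  have sqM := isPullback_of_over_iso sq _ _ hθ
  rcases hP with rfl | rfl | rfl
  · haveI : IsClosedImmersion j.left := hj
    exact repWith_isClosedImmersion_of_isPullback p hp hps j.left f _ sqM
  · haveI : IsOpenImmersion j.left := hj
    exact repWith_isOpenImmersion_of_isPullback p hp hps j.left f _ sqM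
  · haveI : IsImmersion j.left := hj
    exact repWith_isImmersion_of_isPullback p hp hps j.left f _ sqM

/-- A morphism of sheaves to a scheme which is representable by (closed, open) immersions over the members of
a Zariski covering of the scheme is representable by (closed, open) immersions. -/
theorem repWith_of_zariski_family {U : Over S} {F : Sp S} (φ : F ⟶ (yon S).obj U)
    (P : MorphismProperty Scheme.{u})
    (hP : P = @IsClosedImmersion ∨ P = @IsOpenImmersion ∨ P = @IsImmersion)
    {ι : Type u} (V : ι → Over S) (e : ∀ k, V k ⟶ U) (he : ∀ k, IsOpenImmersion (e k).left)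
    (hsurj : ∀ u : ↥U.left, ∃ (k : ι) (v : ↥(V k).left), (e k).left v = u)
    (W : ι → Over S) (w : ∀ k, W k ⟶ V k) (x : ∀ k, (yon S).obj (W k) ⟶ F)
    (sq : ∀ k, IsPullback (x k) ((yon S).map (w k)) φ ((yon S).map (e k)))
    (hw : ∀ k, P (w k).left) : RepWith P φ := by
  have hPloc : IsZariskiLocalAtTarget P := by
    rcases hP with rfl | rfl | rfl <;> infer_instance
  have hc0 : Sigma.desc (fun k => (e k).left) ≫ U.hom = (sigmaOver V).hom := by
    apply Sigma.hom_ext
    intro k
    simp
  let c : sigmaOver V ⟶ U := Over.homMk (Sigma.desc fun k => (e k).left) hc0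
  have hσ0 : Limits.Sigma.map (fun k => (w k).left) ≫ (sigmaOver V).hom = (sigmaOver W).hom := by
    apply Sigma.hom_ext
    intro k
    simp
  let σ : sigmaOver W ⟶ sigmaOver V := Over.homMk (Limits.Sigma.map fun k => (w k).left) hσ0
  have hF1 : ∀ k, sigmaOverι V k ≫ c = e k := by
    intro k
    apply Over.OverMorphism.ext
    change Sigma.ι (fun k => (V k).left) k ≫ Sigma.desc (fun k => (e k).left) = (e k).left
    exact Sigma.ι_desc _ _
  have hF2 : ∀ k, sigmaOverι W k ≫ σ = w k ≫ sigmaOverι V k := by
    intro k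
    apply Over.OverMorphism.ext
    change Sigma.ι (fun k => (W k).left) k ≫ Limits.Sigma.map (fun k => (w k).left) =
      (w k).left ≫ Sigma.ι (fun k => (V k).left) k
    exact Sigma.ι_map _ _
  have hce : Etale c.left := by
    haveI : ∀ k, Etale (e k).left := fun k => by
      haveI := he k
      infer_instance
    exact IsZariskiLocalAtSource.sigmaDesc (P := @Etale) (fun k => inferInstance)
  have hcs : Surjective c.left := by
    apply Surjective.sigmaDesc_of_union_range_eq_univ
    rw [Set.eq_univ_iff_forall]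
    intro u
    obtain ⟨k, v, hv⟩ := hsurj u
    exact Set.mem_iUnion.2 ⟨k, v, hv⟩
  have hpe : RepWith @Etale ((yon S).map c) := (repWith_yon_map_iff _ c).2 hce
  have hps : RepWith @Surjective ((yon S).map c) := (repWith_yon_map_iff _ c).2 hcs
  have hPσ : P σ.left := sigmaMap_of_isZariskiLocalAtTarget P _ _ _ hw
  obtain ⟨x', hx'⟩ := exists_desc_sigmaOver W x
  have hcomm : x' ≫ φ = (yon S).map σ ≫ (yon S).map c := by
    apply hom_ext_sigmaOver
    intro k
    calc (yon S).map (sigmaOverι W k) ≫ x' ≫ φ
        = (yon S).map (w k) ≫ (yon S).map (e k) := by rw [← Category.assoc, hx' k, (sq k).w]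
      _ = (yon S).map ((w k ≫ sigmaOverι V k) ≫ c) := by
          rw [Category.assoc, hF1 k, Functor.map_comp]
      _ = (yon S).map (sigmaOverι W k) ≫ (yon S).map σ ≫ (yon S).map c := by
          rw [← hF2 k, Category.assoc, Functor.map_comp, Functor.map_comp]
  haveI hmσ : Mono σ.left := by
    rcases hP with rfl | rfl | rfl
    · have : IsClosedImmersion σ.left := hPσ
      infer_instance
    · have : IsOpenImmersion σ.left := hPσ
      infer_instance
    · have : IsImmersion σ.left := hPσ
      infer_instance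
  haveI : Mono ((yon S).map σ) := mono_yon_map _
  have hmono : Mono (pullback.lift x' ((yon S).map σ) hcomm) := by
    have : Mono (pullback.lift x' ((yon S).map σ) hcomm ≫ pullback.snd φ ((yon S).map c)) := by
      rw [pullback.lift_snd]
      infer_instance
    exact mono_of_mono _ (pullback.snd _ _)
  have hepi : Epi (pullback.lift x' ((yon S).map σ) hcomm) := by
    apply epi_of_local_lift
    intro T y
    obtain ⟨β, hβ⟩ := (yon S).map_surjective (y ≫ pullback.snd φ ((yon S).map c))
    obtain ⟨Sg, hSg, hl⟩ := exists_sieve_sigmaOver V β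
    refine ⟨Sg, hSg, fun T₃ f hf => ?_⟩
    obtain ⟨k, βk, hβk⟩ := hl f hf
    have h1 : ((yon S).map f ≫ y ≫ pullback.fst φ ((yon S).map c)) ≫ φ =
        (yon S).map βk ≫ (yon S).map (e k) := by
      calc ((yon S).map f ≫ y ≫ pullback.fst φ ((yon S).map c)) ≫ φ
          = (yon S).map f ≫ (y ≫ pullback.snd φ ((yon S).map c)) ≫ (yon S).map c := by
            simp only [Category.assoc]
            rw [pullback.condition]
        _ = (yon S).map (f ≫ β) ≫ (yon S).map c := by
            rw [← hβ, Functor.map_comp, Category.assoc]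
        _ = (yon S).map βk ≫ (yon S).map (e k) := by
            rw [← hβk, Functor.map_comp, Category.assoc, ← Functor.map_comp, hF1 k]
    obtain ⟨l, hl1, hl2⟩ := (sq k).exists_lift _ _ h1
    refine ⟨l ≫ (yon S).map (sigmaOverι W k), ?_⟩
    apply pullback.hom_ext
    · rw [Category.assoc, Category.assoc, pullback.lift_fst, hx' k, hl1]
      simp only [Category.assoc]
    · rw [Category.assoc, Category.assoc, pullback.lift_snd, ← Functor.map_comp, hF2 k,
        Functor.map_comp, ← Category.assoc, hl2, ← Functor.map_comp, hβk, Functor.map_comp, hβ]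
      simp only [Category.assoc]
  haveI := isIso_of_mono_of_epi (pullback.lift x' ((yon S).map σ) hcomm)
  have sqM : IsPullback x' ((yon S).map σ) φ ((yon S).map c) :=
    IsPullback.of_iso_pullback ⟨hcomm⟩ (asIso (pullback.lift _ _ hcomm)) (pullback.lift_fst _ _ _)
      (pullback.lift_snd _ _ _)
  exact repWith_immersion_of_isPullback_chart P hP φ ((yon S).map c) hpe hps σ hPσ x' sqM

end Groth.Agent.H50
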