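import Groth.Agent.H50.SchImage2
import Groth.Agent.H50.SigmaChart
import Groth.Agent.H52.QC

/-!
# helper50: quasi-compact charts of quasi-compact morphisms of algebraic spaces; the scheme theoretic image of a
quasi-compact morphism commutes with flat base change
-/

set_option autoImplicit false
set_option linter.style.haveILetI false
universe u
open CategoryTheory CategoryTheory.Limits AlgebraicGeometry Opposite

namespace Groth.Agent.H50

open AlgSp Groth.Agent.H52

variable {S : Scheme.{u}}

section Sigma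

/-- The coproduct of a family of morphisms of schemes over `S`. -/
noncomputable def sigmaOverMap {ι : Type u} {M T : ι → Over S} (w : ∀ k, M k ⟶ T k) :
    sigmaOver M ⟶ sigmaOver T :=
  Over.homMk (Limits.Sigma.map fun k => (w k).left) (by
    show Limits.Sigma.map (fun k => (w k).left) ≫ Sigma.desc (fun k => (T k).hom) =
      Sigma.desc (fun k => (M k).hom)
    apply Sigma.hom_ext
    intro k
    simp)

theorem sigmaOverι_map {ι : Type u} {M T : ι → Over S} (w : ∀ k, M k ⟶ T k) (k : ι) :
    sigmaOverι M k ≫ sigmaOverMap w = w k ≫ sigmaOverι T k := by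
  apply Over.OverMorphism.ext
  exact Sigma.ι_map (f := fun k => (M k).left) (g := fun k => (T k).left) (fun k => (w k).left) k

/-- The morphism from a coproduct of schemes over `S` defined on the components. -/
noncomputable def sigmaOverDesc {ι : Type u} {T : ι → Over S} {U₀ : Over S} (e : ∀ k, T k ⟶ U₀) :
    sigmaOver T ⟶ U₀ :=
  Over.homMk (Sigma.desc fun k => (e k).left) (by
    show Sigma.desc (fun k => (e k).left) ≫ U₀.hom = Sigma.desc (fun k => (T k).hom)
    apply Sigma.hom_ext
    intro k
    simp)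

theorem sigmaOverι_desc {ι : Type u} {T : ι → Over S} {U₀ : Over S} (e : ∀ k, T k ⟶ U₀) (k : ι) :
    sigmaOverι T k ≫ sigmaOverDesc e = e k := by
  apply Over.OverMorphism.ext
  exact Sigma.ι_desc (f := fun k => (T k).left) (fun k => (e k).left) k

/-- A morphism from a coproduct has a property local on the source as soon as its components do. -/
theorem sigmaDesc_of_isZariskiLocalAtSource (P : MorphismProperty Scheme.{u}) [IsZariskiLocalAtSource P]
    {ι : Type u} (W : ι → Scheme.{u}) {V : Scheme.{u}} (w : ∀ k, W k ⟶ V) (hw : ∀ k, P (w k)) :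
    P (Sigma.desc w) := by
  refine IsZariskiLocalAtSource.of_openCover (sigmaOpenCover W) (fun k => ?_)
  show P (Sigma.ι W k ≫ Sigma.desc w)
  rw [Sigma.ι_desc]
  exact hw k

theorem etale_sigmaOverDesc {ι : Type u} {T : ι → Over S} {U₀ : Over S} (e : ∀ k, T k ⟶ U₀)
    (he : ∀ k, Etale (e k).left) : Etale (sigmaOverDesc e).left :=
  sigmaDesc_of_isZariskiLocalAtSource @Etale (fun k => (T k).left) (fun k => (e k).left) he

theorem surjective_sigmaOverDesc {ι : Type u} {T : ι → Over S} {U₀ : Over S} (e : ∀ k, T k ⟶ U₀)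
    (he : ∀ u : ↥U₀.left, ∃ (k : ι) (y : ↥(T k).left), (e k).left y = u) :
    Surjective (sigmaOverDesc e).left := by
  refine ⟨fun u => ?_⟩
  obtain ⟨k, y, hy⟩ := he u
  refine ⟨(sigmaOverι T k).left y, ?_⟩
  rw [← Scheme.Hom.comp_apply, ← Over.comp_left, sigmaOverι_desc]
  exact hy

end Sigma

/-- A quasi-compact morphism to an algebraic space has, over a chart which is a coproduct of affine schemes, an
epimorphic chart which is quasi-compact over the chart of the target. -/
theorem exists_qc_chart_of_family {X Y : Sp S} (f : X ⟶ Y) (hq : IsQuasiCompactMor f) {ι : Type u}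
    (T : ι → Over S) (hT : ∀ k, IsAffine (T k).left) {U₀ : Over S} (e : ∀ k, T k ⟶ U₀)
    (a₀ : (yon S).obj U₀ ⟶ Y) :
    ∃ (M : Over S) (x : (yon S).obj M ⟶ X) (m : M ⟶ sigmaOver T)
      (hcomm : x ≫ f = (yon S).map m ≫ (yon S).map (sigmaOverDesc e) ≫ a₀),
      QuasiCompact m.left ∧ Epi (pullback.lift x ((yon S).map m) hcomm) := by
  have hP : ∀ k, IsQuasiCompactSp (pullback f ((yon S).map (e k) ≫ a₀)) := fun k => by
    haveI := hT k
    exact hq (IsAlgSpace.yon_obj _) (isQuasiCompactSp_yon (T k)) _ _ _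
      (IsPullback.of_hasPullback f _)
  choose M p hpe hps hMc using hP
  have hmk : ∀ k, ∃ mk : M k ⟶ T k,
      (yon S).map mk = p k ≫ pullback.snd f ((yon S).map (e k) ≫ a₀) :=
    fun k => (yon S).map_surjective _
  choose mk hmk using hmk
  have hqk : ∀ k, QuasiCompact (mk k).left := fun k => by
    haveI := hT k
    haveI : CompactSpace ↥(M k).left := hMc k
    infer_instance
  obtain ⟨x, hx⟩ := exists_desc_sigmaOver M
    (fun k => p k ≫ pullback.fst f ((yon S).map (e k) ≫ a₀))
  have hcomm : x ≫ f = (yon S).map (sigmaOverMap mk) ≫ (yon S).map (sigmaOverDesc e) ≫ a₀ := by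
    apply hom_ext_sigmaOver M
    intro k
    have hL : (yon S).map (sigmaOverι M k) ≫ x ≫ f = (yon S).map (mk k ≫ e k) ≫ a₀ := by
      rw [← Category.assoc, hx k, Category.assoc, pullback.condition, ← Category.assoc, ← hmk k,
        Functor.map_comp, Category.assoc]
    have hR : (yon S).map (sigmaOverι M k) ≫ (yon S).map (sigmaOverMap mk) ≫
        (yon S).map (sigmaOverDesc e) ≫ a₀ = (yon S).map (mk k ≫ e k) ≫ a₀ := by
      rw [← Category.assoc, ← Category.assoc, ← Functor.map_comp, ← Functor.map_comp,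
        sigmaOverι_map, Category.assoc, sigmaOverι_desc]
    rw [hL, hR]
  refine ⟨sigmaOver M, x, sigmaOverMap mk, hcomm, ?_, ?_⟩
  · exact sigmaMap_of_isZariskiLocalAtTarget @QuasiCompact _ _ (fun k => (mk k).left) hqk
  · apply epi_of_local_lift
    intro T' y
    obtain ⟨β, hβ⟩ := (yon S).map_surjective
      (y ≫ pullback.snd f ((yon S).map (sigmaOverDesc e) ≫ a₀))
    obtain ⟨Sg₁, hSg₁, hl₁⟩ := exists_sieve_sigmaOver T β
    let Sg : Sieve T' :=
      { arrows := fun T₄ h => ∃ l : (yon S).obj T₄ ⟶ (yon S).obj (sigmaOver M),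
          l ≫ pullback.lift x ((yon S).map (sigmaOverMap mk)) hcomm = (yon S).map h ≫ y
        downward_closed := by
          rintro T₄ T₅ h ⟨l, hl⟩ g
          exact ⟨(yon S).map g ≫ l, by
            rw [Category.assoc, hl, Functor.map_comp, Category.assoc]⟩ }
    refine ⟨Sg, ?_, fun T₄ h hh => hh⟩
    refine (J S).transitive hSg₁ Sg ?_
    intro T₃ f₃ hf₃
    obtain ⟨k, βk, hβk⟩ := hl₁ f₃ hf₃
    have he : (yon S).map (sigmaOverι T k) ≫ (yon S).map (sigmaOverDesc e) = (yon S).map (e k) := by
      rw [← Functor.map_comp, sigmaOverι_desc]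
    have hγw : ((yon S).map f₃ ≫ y ≫ pullback.fst f ((yon S).map (sigmaOverDesc e) ≫ a₀)) ≫ f =
        (yon S).map βk ≫ (yon S).map (e k) ≫ a₀ := by
      calc ((yon S).map f₃ ≫ y ≫ pullback.fst f ((yon S).map (sigmaOverDesc e) ≫ a₀)) ≫ f
          = (yon S).map f₃ ≫ (y ≫ pullback.snd f ((yon S).map (sigmaOverDesc e) ≫ a₀)) ≫
              (yon S).map (sigmaOverDesc e) ≫ a₀ := by
            simp only [Category.assoc, pullback.condition]
        _ = (yon S).map (f₃ ≫ β) ≫ (yon S).map (sigmaOverDesc e) ≫ a₀ := by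
            rw [← hβ, Functor.map_comp, Category.assoc]
        _ = (yon S).map βk ≫ (yon S).map (e k) ≫ a₀ := by
            rw [← hβk, Functor.map_comp, Category.assoc,
              ← Category.assoc ((yon S).map (sigmaOverι T k)), he]
    haveI : Epi (p k) := epi_of_etale_surjective (p k) (hpe k) (hps k)
    obtain ⟨Sg₂, hSg₂, hl₂⟩ := exists_local_lift (p k) (pullback.lift _ _ hγw)
    refine (J S).superset_covering ?_ hSg₂
    intro T₄ f₄ hf₄
    obtain ⟨l, hl⟩ := hl₂ f₄ hf₄
    have hl_fst : l ≫ p k ≫ pullback.fst f ((yon S).map (e k) ≫ a₀) =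
        (yon S).map f₄ ≫ (yon S).map f₃ ≫ y ≫
          pullback.fst f ((yon S).map (sigmaOverDesc e) ≫ a₀) := by
      rw [← Category.assoc, hl, Category.assoc, pullback.lift_fst]
    have hl_snd : l ≫ p k ≫ pullback.snd f ((yon S).map (e k) ≫ a₀) =
        (yon S).map f₄ ≫ (yon S).map βk := by
      rw [← Category.assoc, hl, Category.assoc, pullback.lift_snd]
    show ∃ l : (yon S).obj T₄ ⟶ (yon S).obj (sigmaOver M),
      l ≫ pullback.lift x ((yon S).map (sigmaOverMap mk)) hcomm = (yon S).map (f₄ ≫ f₃) ≫ y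
    refine ⟨l ≫ (yon S).map (sigmaOverι M k), ?_⟩
    apply pullback.hom_ext
    · calc ((l ≫ (yon S).map (sigmaOverι M k)) ≫
            pullback.lift x ((yon S).map (sigmaOverMap mk)) hcomm) ≫
            pullback.fst f ((yon S).map (sigmaOverDesc e) ≫ a₀)
          = l ≫ (yon S).map (sigmaOverι M k) ≫ x := by
            simp only [Category.assoc, pullback.lift_fst]
        _ = l ≫ p k ≫ pullback.fst f ((yon S).map (e k) ≫ a₀) := by rw [hx k]
        _ = (yon S).map f₄ ≫ (yon S).map f₃ ≫ y ≫
              pullback.fst f ((yon S).map (sigmaOverDesc e) ≫ a₀) := hl_fst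
        _ = ((yon S).map (f₄ ≫ f₃) ≫ y) ≫
              pullback.fst f ((yon S).map (sigmaOverDesc e) ≫ a₀) := by
            rw [Functor.map_comp]
            simp only [Category.assoc]
    · calc ((l ≫ (yon S).map (sigmaOverι M k)) ≫
            pullback.lift x ((yon S).map (sigmaOverMap mk)) hcomm) ≫
            pullback.snd f ((yon S).map (sigmaOverDesc e) ≫ a₀)
          = l ≫ (yon S).map (sigmaOverι M k ≫ sigmaOverMap mk) := by
            simp only [Category.assoc, pullback.lift_snd, Functor.map_comp]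
        _ = l ≫ (yon S).map (mk k) ≫ (yon S).map (sigmaOverι T k) := by
            rw [sigmaOverι_map, Functor.map_comp]
        _ = (l ≫ p k ≫ pullback.snd f ((yon S).map (e k) ≫ a₀)) ≫
              (yon S).map (sigmaOverι T k) := by
            rw [hmk k]
            simp only [Category.assoc]
        _ = (yon S).map f₄ ≫ (yon S).map (βk ≫ sigmaOverι T k) := by
            rw [hl_snd, Functor.map_comp]
            simp only [Category.assoc]
        _ = (yon S).map f₄ ≫ (yon S).map f₃ ≫ (yon S).map β := by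
            rw [hβk, Functor.map_comp]
        _ = ((yon S).map (f₄ ≫ f₃) ≫ y) ≫
              pullback.snd f ((yon S).map (sigmaOverDesc e) ≫ a₀) := by
            rw [hβ, Functor.map_comp]
            simp only [Category.assoc]

/-- A quasi-compact morphism to an algebraic space has an epimorphic chart which is quasi-compact over a suitable
etale surjective chart of the target. -/
theorem exists_qc_chart {X Y : Sp S} (hY : IsAlgSpace Y) (f : X ⟶ Y) (hq : IsQuasiCompactMor f) :
    ∃ (U M : Over S) (a : (yon S).obj U ⟶ Y) (x : (yon S).obj M ⟶ X) (m : M ⟶ U)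
      (hcomm : x ≫ f = (yon S).map m ≫ a),
      RepWith @Etale a ∧ RepWith @Surjective a ∧ QuasiCompact m.left ∧
        Epi (pullback.lift x ((yon S).map m) hcomm) := by
  obtain ⟨U₀, a₀, ha₀e, ha₀s⟩ := hY.atlas
  obtain ⟨M, x, m, hcomm, hmq, hξ⟩ := exists_qc_chart_of_family f hq
    (fun k : U₀.left.affineCover.I₀ => Over.mk (U₀.left.affineCover.f k ≫ U₀.hom))
    (fun k => inferInstanceAs (IsAffine (U₀.left.affineCover.X k)))
    (fun k => Over.homMk (U₀.left.affineCover.f k) rfl) a₀
  refine ⟨_, M, _, x, m, hcomm, ?_, ?_, hmq, hξ⟩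
  · refine repWith_yon_map_comp @Etale _ (etale_sigmaOverDesc _ (fun k => ?_)) a₀ ha₀e
    exact inferInstanceAs (Etale (U₀.left.affineCover.f k))
  · refine repWith_yon_map_comp @Surjective _ (surjective_sigmaOverDesc _ (fun u => ?_)) a₀ ha₀s
    obtain ⟨k, y, hy⟩ := U₀.left.affineCover.exists_eq u
    exact ⟨k, y, hy⟩

/-- The kernel of a chart of a sheaf over a scheme depends only on the sheaf: an epimorphic chart has the smallest
kernel. -/
theorem ker_le_ker_of_charts {F : Sp S} {R M₁ M₂ : Over S} (φ : F ⟶ (yon S).obj R)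
    (x₁ : (yon S).obj M₁ ⟶ F) [Epi x₁] (m₁ : M₁ ⟶ R) (h₁ : x₁ ≫ φ = (yon S).map m₁)
    (x₂ : (yon S).obj M₂ ⟶ F) (m₂ : M₂ ⟶ R) (h₂ : x₂ ≫ φ = (yon S).map m₂) :
    m₁.left.ker ≤ m₂.left.ker := by
  obtain ⟨δ, hδ⟩ := exists_lift_vOver m₁.left.ker m₁ le_rfl
  obtain ⟨k, hk, -⟩ := factor_of_epi_mono x₁ ((yon S).map (vOverι R m₁.left.ker))
    ((yon S).map δ) φ (by rw [h₁, ← Functor.map_comp, hδ])
  obtain ⟨l, hl⟩ := (yon S).map_surjective (x₂ ≫ k)
  exact le_ker_of_factors m₁.left.ker m₂ l ((yon S).map_injective (by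
    rw [Functor.map_comp, hl, Category.assoc, hk, h₂]))

/-- Flat base change of a quasi-compact epimorphic chart of a sheaf over a scheme: the base change has an
epimorphic quasi-compact chart whose kernel is the pullback of the kernel. -/
theorem exists_chart_of_flat_baseChange {F F' : Sp S} {U R M : Over S} (φ : F ⟶ (yon S).obj U)
    (x : (yon S).obj M ⟶ F) [Epi x] (m : M ⟶ U) (hm : x ≫ φ = (yon S).map m)
    [QuasiCompact m.left] (r : R ⟶ U) [Flat r.left] (p : F' ⟶ F) (φ' : F' ⟶ (yon S).obj R)
    (sq : IsPullback p φ' φ ((yon S).map r)) :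
    ∃ (M' : Over S) (x' : (yon S).obj M' ⟶ F') (m' : M' ⟶ R), Epi x' ∧
      x' ≫ φ' = (yon S).map m' ∧ QuasiCompact m'.left ∧
      m'.left.ker = m.left.ker.comap r.left := by
  have sqO : IsPullback (pullback.fst m r) (pullback.snd m r) m r := IsPullback.of_hasPullback m r
  have sqY := sqO.map (yon S)
  have sqS := sqO.map (Over.forget S)
  have hw : ((yon S).map (pullback.fst m r) ≫ x) ≫ φ =
      (yon S).map (pullback.snd m r) ≫ (yon S).map r := by
    rw [Category.assoc, hm, sqY.w]
  have h1 : sq.lift _ _ hw ≫ p = (yon S).map (pullback.fst m r) ≫ x := sq.lift_fst _ _ _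
  have h2 : sq.lift _ _ hw ≫ φ' = (yon S).map (pullback.snd m r) := sq.lift_snd _ _ _
  have sqT : IsPullback ((yon S).map (pullback.fst m r)) (sq.lift _ _ hw) x p := by
    refine IsPullback.of_bot ?_ h1.symm sq
    rw [h2, hm]
    exact sqY
  refine ⟨pullback m r, sq.lift _ _ hw, pullback.snd m r, epi_snd_of_isPullback sqT, h2, ?_, ?_⟩
  · exact MorphismProperty.of_isPullback (P := @QuasiCompact) sqS
      (inferInstance : QuasiCompact m.left)
  · exact ker_eq_comap_of_isPullback sqS

/-- Flat base change of a quasi-compact epimorphic chart of a sheaf over a scheme: every epimorphic chart of the base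
change has kernel the pullback of the kernel. -/
theorem ker_eq_comap_of_flat_baseChange {F F' : Sp S} {U R M M'' : Over S}
    (φ : F ⟶ (yon S).obj U) (x : (yon S).obj M ⟶ F) [Epi x] (m : M ⟶ U)
    (hm : x ≫ φ = (yon S).map m) [QuasiCompact m.left] (r : R ⟶ U) [Flat r.left] (p : F' ⟶ F)
    (φ' : F' ⟶ (yon S).obj R) (sq : IsPullback p φ' φ ((yon S).map r))
    (x'' : (yon S).obj M'' ⟶ F') [Epi x''] (m'' : M'' ⟶ R) (hm'' : x'' ≫ φ' = (yon S).map m'') :
    m''.left.ker = m.left.ker.comap r.left := by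
  obtain ⟨M', x', m', hx'e, hx'm, -, hker⟩ := exists_chart_of_flat_baseChange φ x m hm r p φ' sq
  haveI := hx'e
  rw [← hker]
  exact le_antisymm (ker_le_ker_of_charts φ' x'' m'' hm'' x' m' hx'm)
    (ker_le_ker_of_charts φ' x' m' hx'm x'' m'' hm'')

/-- The kernel of a quasi-compact epimorphic chart of the pullback of a morphism to an etale chart of its target is
invariant under the equivalence relation of the chart. -/
theorem invariant_ker_of_chart {X F G : Sp S} {U M : Over S} (a : (yon S).obj U ⟶ X)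
    (ha : RepWith @Etale a) (g : F ⟶ X) (pF : G ⟶ F) (φ : G ⟶ (yon S).obj U)
    (sqG : IsPullback pF φ g a) (x : (yon S).obj M ⟶ G) [Epi x] (m : M ⟶ U)
    (hm : x ≫ φ = (yon S).map m) [QuasiCompact m.left] : Invariant a m.left.ker := by
  have hrepa : Representable a := ha.rep
  obtain ⟨s, hs⟩ := (yon S).map_surjective (hrepa.fst a)
  have hR : IsPullback ((yon S).map s) ((yon S).map (hrepa.snd a)) a a := by
    rw [hs]
    exact hrepa.isPullback a
  haveI hEs : Etale s.left := ha.property a _ s hR.flip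
  haveI hEt : Etale (hrepa.snd a).left := ha.property_snd a
  refine invariant_of_comap_eq s (hrepa.snd a) hR ?_
  have sqR := IsPullback.of_hasPullback g ((yon S).map s ≫ a)
  have key : ∀ (r : hrepa.pullback a ⟶ U), (yon S).map r ≫ a = (yon S).map s ≫ a →
      ∃ p : pullback g ((yon S).map s ≫ a) ⟶ G,
        IsPullback p (pullback.snd g ((yon S).map s ≫ a)) φ ((yon S).map r) := by
    intro r hr
    have sqR' : IsPullback (pullback.fst g ((yon S).map s ≫ a))
        (pullback.snd g ((yon S).map s ≫ a)) g ((yon S).map r ≫ a) := by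
      rw [hr]
      exact sqR
    obtain ⟨l, hl1, hl2⟩ := sqG.exists_lift (pullback.fst g ((yon S).map s ≫ a))
      (pullback.snd g ((yon S).map s ≫ a) ≫ (yon S).map r) (by
        rw [sqR'.w, Category.assoc])
    exact ⟨l, IsPullback.of_right (by rw [hl1]; exact sqR') hl2 sqG⟩
  obtain ⟨ps, sqs⟩ := key s rfl
  obtain ⟨pt, sqt⟩ := key (hrepa.snd a) hR.w.symm
  obtain ⟨M', x', m', hx'e, hx'm, -, hker⟩ :=
    exists_chart_of_flat_baseChange φ x m hm s ps _ sqs
  haveI := hx'e
  rw [← hker]
  exact ker_eq_comap_of_flat_baseChange φ x m hm (hrepa.snd a) pt _ sqt x' m' hx'm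

/-- The scheme theoretic image of a quasi-compact morphism of algebraic spaces is cut out, on a suitable chart, by the
kernel of a quasi-compact chart of the morphism. -/
theorem exists_qc_chart_isSchImage {V Y Z : Sp S} (hY : IsAlgSpace Y) (hZ : IsAlgSpace Z)
    (g : V ⟶ Y) (hg : IsQuasiCompactMor g) (i : Z ⟶ Y) (hZi : IsSchImage g i) :
    ∃ (U M : Over S) (a : (yon S).obj U ⟶ Y) (x : (yon S).obj M ⟶ V) (m : M ⟶ U)
      (hcomm : x ≫ g = (yon S).map m ≫ a),
      RepWith @Etale a ∧ RepWith @Surjective a ∧ QuasiCompact m.left ∧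
        Epi (pullback.lift x ((yon S).map m) hcomm) ∧ Invariant a m.left.ker ∧
        ∃ ε : Z ≅ closedSub a m.left.ker, ε.hom ≫ closedSubι a m.left.ker = i := by
  obtain ⟨U, M, a, x, m, hcomm, hae, has, hmq, hξ⟩ := exists_qc_chart hY g hg
  haveI := hmq
  haveI := hξ
  haveI : Epi a := epi_of_etale_surjective a hae has
  have hI : Invariant a m.left.ker := invariant_ker_of_chart a hae g (pullback.fst g a)
    (pullback.snd g a) (IsPullback.of_hasPullback g a) (pullback.lift x ((yon S).map m) hcomm) m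
    (pullback.lift_snd _ _ _)
  haveI : Epi (pullback.fst g a) := epi_fst_of_isPullback (IsPullback.of_hasPullback g a)
  haveI : Epi x := by
    have h := epi_comp (pullback.lift x ((yon S).map m) hcomm) (pullback.fst g a)
    rwa [pullback.lift_fst] at h
  have hS := isSchImage_closedSubι_of_chart a hae has g x m hcomm hI
  obtain ⟨ε, hε⟩ := exists_iso_of_isSchImage hZ (isAlgSpace_closedSub hae has hI hY) hZi hS
  exact ⟨U, M, a, x, m, hcomm, hae, has, hmq, hξ, hI, ε, hε⟩

/-- The closed subscheme cut out by the pullback of an ideal sheaf is the pullback of the closed subscheme. -/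
theorem isPullback_comap_subschemeι {X Y : Scheme.{u}} (I : Y.IdealSheafData) (f : X ⟶ Y) :
    IsPullback ((I.comapIso f).hom ≫ pullback.snd f I.subschemeι) (I.comap f).subschemeι
      I.subschemeι f := by
  refine IsPullback.of_iso (IsPullback.of_hasPullback f I.subschemeι).flip (I.comapIso f).symm
    (Iso.refl _) (Iso.refl _) (Iso.refl _) ?_ ?_ ?_ ?_
  · rw [Iso.refl_hom, Category.comp_id, Iso.symm_hom, Iso.inv_hom_id_assoc]
  · simp
  · simp
  · simp

theorem exists_isPullback_vOver_comap {T U : Over S} (I : U.left.IdealSheafData) (h : T ⟶ U) :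
    ∃ τ : vOver T (I.comap h.left) ⟶ vOver U I,
      IsPullback τ (vOverι T (I.comap h.left)) (vOverι U I) h := by
  have sq0 := isPullback_comap_subschemeι I h.left
  have hw : ((I.comapIso h.left).hom ≫ pullback.snd h.left I.subschemeι) ≫ (vOver U I).hom =
      (vOver T (I.comap h.left)).hom := by
    show ((I.comapIso h.left).hom ≫ pullback.snd h.left I.subschemeι) ≫ I.subschemeι ≫ U.hom =
      (I.comap h.left).subschemeι ≫ T.hom
    rw [← Category.assoc, sq0.w, Category.assoc, Over.w]
  refine ⟨Over.homMk _ hw, ?_⟩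
  refine IsPullback.of_map (Over.forget S) ?_ sq0
  apply Over.OverMorphism.ext
  exact sq0.w

/-- The scheme theoretic image of a quasi-compact morphism of algebraic spaces commutes with flat base change. -/
theorem isSchImage_flat_baseChange {X Y V Z VX ZX : Sp S} (hX : IsAlgSpace X) (hY : IsAlgSpace Y)
    (hZ : IsAlgSpace Z) (f : X ⟶ Y) (hf : LocP @Flat f) (g : V ⟶ Y) (hg : IsQuasiCompactMor g)
    (i : Z ⟶ Y) (hZi : IsSchImage g i) (g₁ : VX ⟶ V) (gX : VX ⟶ X)
    (sqV : IsPullback g₁ gX g f) (i₁ : ZX ⟶ Z) (iX : ZX ⟶ X) (sqZ : IsPullback i₁ iX i f) :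
    IsSchImage gX iX := by
  obtain ⟨U, M, a, x, m, hcomm, hae, has, hmq, hξ, hI, ε, hε⟩ :=
    exists_qc_chart_isSchImage hY hZ g hg i hZi
  haveI := hmq
  haveI := hξ
  haveI : Epi a := epi_of_etale_surjective a hae has
  have sqZU : IsPullback (closedSubπ a m.left.ker ≫ ε.inv) ((yon S).map (vOverι U m.left.ker))
      i a := by
    refine (isPullback_closedSub hI).of_iso (Iso.refl _) ε.symm (Iso.refl _) (Iso.refl _)
      ?_ ?_ ?_ ?_
    · simp
    · simp
    · rw [Iso.refl_hom, Category.comp_id, Iso.symm_hom, ← hε, Iso.inv_hom_id_assoc]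
    · simp
  -- an atlas of `X` over the chart of `Y`
  have hXU : IsAlgSpace (pullback f a) :=
    isAlgSpace_of_isPullback (IsPullback.of_hasPullback f a) hY.diag hX (IsAlgSpace.yon_obj U)
  obtain ⟨T, c, hce, hcs⟩ := hXU.atlas
  have hm1 := AlgSp.repWith_isMultiplicative (S := S) @Etale
  have hm2 := AlgSp.repWith_isMultiplicative (S := S) @Surjective
  have haXe : RepWith @Etale (c ≫ pullback.fst f a) := (RepWith @Etale).comp_mem _ _ hce
    (repWith_fst_of_isPullback (IsPullback.of_hasPullback f a) hae)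
  have haXs : RepWith @Surjective (c ≫ pullback.fst f a) := (RepWith @Surjective).comp_mem _ _ hcs
    (repWith_fst_of_isPullback (IsPullback.of_hasPullback f a) has)
  obtain ⟨h, hh⟩ := (yon S).map_surjective (c ≫ pullback.snd f a)
  have hcommh : (c ≫ pullback.fst f a) ≫ f = (yon S).map h ≫ a := by
    rw [Category.assoc, pullback.condition, ← Category.assoc, hh]
  haveI hflat : Flat h.left := hf (c ≫ pullback.fst f a) a h haXe hae hcommh
  generalize c ≫ pullback.fst f a = aX at haXe haXs hcommh
  haveI : Epi aX := epi_of_etale_surjective aX haXe haXs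
  -- the chart of the base change
  have sqF' := IsPullback.of_hasPullback gX aX
  have sqO : IsPullback (pullback.fst gX aX ≫ g₁) (pullback.snd gX aX) g
      ((yon S).map h ≫ a) := by
    rw [← hcommh]
    exact sqF'.paste_horiz sqV
  obtain ⟨pF, hp1, hp2⟩ := (IsPullback.of_hasPullback g a).exists_lift (pullback.fst gX aX ≫ g₁)
    (pullback.snd gX aX ≫ (yon S).map h) (by rw [sqO.w, Category.assoc])
  have sqP : IsPullback pF (pullback.snd gX aX) (pullback.snd g a) ((yon S).map h) :=
    IsPullback.of_right (by rw [hp1]; exact sqO) hp2 (IsPullback.of_hasPullback g a)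
  obtain ⟨M', x', m', hx'e, hx'm, hm'q, hker⟩ := exists_chart_of_flat_baseChange
    (pullback.snd g a) (pullback.lift x ((yon S).map m) hcomm) m (pullback.lift_snd _ _ _) h pF
    (pullback.snd gX aX) sqP
  haveI := hx'e
  haveI : Epi (pullback.fst gX aX) := epi_fst_of_isPullback sqF'
  have hcomm' : (x' ≫ pullback.fst gX aX) ≫ gX = (yon S).map m' ≫ aX := by
    rw [Category.assoc, pullback.condition, ← Category.assoc, hx'm]
  -- the closed subscheme of the chart of `X`
  obtain ⟨τ, hτ⟩ := exists_isPullback_vOver_comap m.left.ker h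
  have sqτ := hτ.map (yon S)
  have sqOut : IsPullback ((yon S).map τ ≫ closedSubπ a m.left.ker ≫ ε.inv)
      ((yon S).map (vOverι T (m.left.ker.comap h.left))) i (aX ≫ f) := by
    rw [hcommh]
    exact sqτ.paste_horiz sqZU
  obtain ⟨b', hb1, hb2⟩ := sqZ.exists_lift ((yon S).map τ ≫ closedSubπ a m.left.ker ≫ ε.inv)
    ((yon S).map (vOverι T (m.left.ker.comap h.left)) ≫ aX) (by rw [sqOut.w, Category.assoc])
  have sq' : IsPullback b' ((yon S).map (vOverι T (m.left.ker.comap h.left))) iX aX :=
    IsPullback.of_right (by rw [hb1]; exact sqOut) hb2 sqZ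
  have hI' : Invariant aX (m.left.ker.comap h.left) := invariant_of_isPullback iX b' sq'
  haveI : Mono iX := mono_of_repWith (fun _ _ g hg => by have := hg; infer_instance)
    (repWith_snd_of_isPullback sqZ hZi.1)
  obtain ⟨e', he'⟩ := exists_iso_closedSub iX b' sq'
  have hS' : IsSchImage gX (closedSubι aX m'.left.ker) :=
    isSchImage_closedSubι_of_chart aX haXe haXs gX (x' ≫ pullback.fst gX aX) m' hcomm' (by
      rw [hker]
      exact hI')
  rw [hker] at hS'
  exact isSchImage_of_iso hS' e' he'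

/-- The image of a quasi-compact morphism of algebraic spaces is dense in its scheme theoretic image. -/
theorem range_map_subset_closure_of_isSchImage {V Y Z : Sp S} (hY : IsAlgSpace Y)
    (hZ : IsAlgSpace Z) (g : V ⟶ Y) (hg : IsQuasiCompactMor g) (i : Z ⟶ Y)
    (hZi : IsSchImage g i) :
    Set.range (Points.map i) ⊆ closure (Set.range (Points.map g)) := by
  obtain ⟨U, M, a, x, m, hcomm, hae, has, hmq, hξ, hI, ε, hε⟩ :=
    exists_qc_chart_isSchImage hY hZ g hg i hZi
  haveI := hmq
  rintro _ ⟨z, rfl⟩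
  have h1 : Points.map i z ∈ Set.range (Points.map (closedSubι a m.left.ker)) :=
    ⟨Points.map ε.hom z, by rw [← Points.map_comp, hε]⟩
  rw [range_map_closedSubι has hI, Scheme.Hom.support_ker] at h1
  have h2 := image_closure_subset_closure_image (Points.continuous_ofPt a) h1
  refine closure_mono ?_ h2
  rintro _ ⟨_, ⟨w, rfl⟩, rfl⟩
  refine ⟨Points.ofPt x w, ?_⟩
  rw [Points.map_ofPt, hcomm, ofPt_yon_map_comp]

end Groth.Agent.H50
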