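import Groth.Agent.H50.FpqcThick
import Groth.Agent.H9.ComapMul

/-!
# First order thickenings of algebraic spaces: base change

`sqZero_of_isFOThickMor`: for a first order thickening `i : F ⟶ G` of an algebraic space `G`, EVERY represented
pullback to a scheme has square-zero kernel (not only the affine etale charts of the definition).
`isFOThickMor_of_isPullback`: base change of first order thickenings.
-/

set_option autoImplicit false
universe u
open CategoryTheory CategoryTheory.Limits AlgebraicGeometry AlgSp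

namespace Groth.Agent.H50

variable {S : Scheme.{u}}

/-- The kernel of a base change of a closed immersion is the pulled back ideal sheaf. -/
theorem ker_eq_comap_of_isClosedImmersion {Z X X' Z' : Scheme.{u}} {i : Z ⟶ X} {g : X' ⟶ X}
    {pZ : Z' ⟶ Z} {i' : Z' ⟶ X'} (sq : IsPullback pZ i' i g) [IsClosedImmersion i] :
    i'.ker = i.ker.comap g := by
  have hι : i.toImage ≫ i.ker.subschemeι = i := i.toImage_imageι
  have sq' : IsPullback i' (pZ ≫ i.toImage) g i.ker.subschemeι := by
    refine IsPullback.of_iso sq.flip (Iso.refl _) (Iso.refl _) (asIso i.toImage) (Iso.refl _)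
      ?_ ?_ ?_ ?_
    · simp
    · simp
    · simp
    · simp [hι]
  have h1 : sq'.isoPullback.hom ≫ pullback.fst g i.ker.subschemeι = i' := sq'.isoPullback_hom_fst
  show i'.ker = (pullback.fst g i.ker.subschemeι).ker
  rw [← h1, Scheme.Hom.ker_comp_of_isIso]

/-- An ideal sheaf vanishes if it vanishes after pulling back along a jointly surjective flat family. -/
theorem idealSheaf_eq_bot_of_flat_family {T : Scheme.{u}} (K : T.IdealSheafData) {ι : Type*}
    {Q : ι → Scheme.{u}} (g : ∀ k, Q k ⟶ T) (hfl : ∀ k, Flat (g k))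
    (hsurj : ∀ x : T, ∃ (k : ι) (y : Q k), g k y = x) (h : ∀ k, K.comap (g k) = ⊥) : K = ⊥ := by
  rw [eq_bot_iff, Scheme.IdealSheafData.le_def]
  intro U t ht
  rw [Scheme.IdealSheafData.ideal_bot]
  apply H49.IdealDescent.mem_of_forall_point U.2 ⊥ t
  intro y hy
  obtain ⟨k, w, hw⟩ := hsurj y
  have hwU : w ∈ ((g k) ⁻¹ᵁ U.1 : Set (Q k)) := by
    show g k w ∈ U.1
    rw [hw]; exact hy
  obtain ⟨_, ⟨W, hW, rfl⟩, hwW, hWU⟩ :=
    (Q k).isBasis_affineOpens.exists_subset_of_mem_open hwU ((g k) ⁻¹ᵁ U.1).2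
  have hW' : IsAffineOpen W := hW
  have e : W ≤ (g k) ⁻¹ᵁ U.1 := hWU
  refine ⟨Q k, g k, W, hW', e, w, hwW, hw, ?_, ?_⟩
  · haveI := hfl k
    exact HasRingHomProperty.appLE (P := @Flat) (g k) inferInstance U ⟨W, hW'⟩ e
  · have h1 := H9.comap_ideal (g k) K U ⟨W, hW'⟩ e
    rw [h k, Scheme.IdealSheafData.ideal_bot] at h1
    rw [Ideal.map_bot]
    have hm : ((g k).appLE U.1 W e).hom t ∈ (K.ideal U).map ((g k).appLE U.1 W e).hom :=
      Ideal.mem_map_of_mem _ ht
    rw [← h1] at hm
    exact hm

/-- Two represented pullbacks of `i`, the second along a further map `r` of schemes, give a pullback square of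
schemes. -/
theorem exists_isPullback_of_pullbacks {F G : Sp S} (i : F ⟶ G) {U R ZU ZR : Over S}
    (a : (yon S).obj U ⟶ G) (r : R ⟶ U) (top : (yon S).obj ZU ⟶ F) (iU : ZU ⟶ U)
    (sq0 : IsPullback top ((yon S).map iU) i a) (topR : (yon S).obj ZR ⟶ F) (iR : ZR ⟶ R)
    (sqR : IsPullback topR ((yon S).map iR) i ((yon S).map r ≫ a)) :
    ∃ l : ZR ⟶ ZU, IsPullback l.left iR.left iU.left r.left := by
  obtain ⟨l, hl1, hl2⟩ := sq0.exists_lift topR ((yon S).map iR ≫ (yon S).map r) (by
    rw [sqR.w, Category.assoc])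
  have sqL : IsPullback l ((yon S).map iR) ((yon S).map iU) ((yon S).map r) :=
    IsPullback.of_right (by rw [hl1]; exact sqR) hl2 sq0
  obtain ⟨l', rfl⟩ := (yon S).map_surjective l
  have sqO : IsPullback l' iR iU r :=
    IsPullback.of_map (yon S) (by
      apply (yon S).map_injective
      rw [Functor.map_comp, Functor.map_comp]
      exact hl2) sqL
  exact ⟨l', sqO.map (Over.forget S)⟩

/-- Square-zero kernels are preserved by arbitrary base change of closed immersions. -/
theorem sqZero_of_isPullback_of_isClosedImmersion {Z X X' Z' : Scheme.{u}} {i : Z ⟶ X} {g : X' ⟶ X}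
    {pZ : Z' ⟶ Z} {i' : Z' ⟶ X'} (sq : IsPullback pZ i' i g) [IsClosedImmersion i]
    (h : sqZero i) : sqZero i' := by
  show i'.ker * i'.ker = ⊥
  rw [ker_eq_comap_of_isClosedImmersion sq, ← H9.comap_mul, (show i.ker * i.ker = ⊥ from h),
    Scheme.IdealSheafData.comap_bot]

/-- Square-zero kernels of quasi-compact morphisms descend along jointly surjective flat families. -/
theorem sqZero_of_flat_family {Z X : Scheme.{u}} (i : Z ⟶ X) [QuasiCompact i] {ι : Type*}
    {Q ZQ : ι → Scheme.{u}} (g : ∀ k, Q k ⟶ X) (hfl : ∀ k, Flat (g k))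
    (hsurj : ∀ x : X, ∃ (k : ι) (y : Q k), g k y = x) (pZ : ∀ k, ZQ k ⟶ Z) (i' : ∀ k, ZQ k ⟶ Q k)
    (sq : ∀ k, IsPullback (pZ k) (i' k) i (g k)) (h : ∀ k, sqZero (i' k)) : sqZero i := by
  apply idealSheaf_eq_bot_of_flat_family (i.ker * i.ker) g hfl hsurj
  intro k
  haveI := hfl k
  rw [H9.comap_mul, ← ker_eq_comap_of_isPullback (sq k)]
  exact h k

/-- For a first order thickening `i : F ⟶ G` of an algebraic space `G`, every represented pullback of `i` to a
scheme has square-zero kernel. -/
theorem sqZero_of_isFOThickMor {F G : Sp S} (hG : IsAlgSpace G) (i : F ⟶ G) (hi : IsFOThickMor i)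
    {T W : Over S} (t : (yon S).obj T ⟶ G) (fst : (yon S).obj W ⟶ F) (snd : W ⟶ T)
    (sq : IsPullback fst ((yon S).map snd) i t) : sqZero snd.left := by
  obtain ⟨V, b, hb, hbs⟩ := hG.atlas
  obtain ⟨TV, r, tv', sqTV⟩ := hb.1 t
  obtain ⟨tv, rfl⟩ := (yon S).map_surjective tv'
  have hre : Etale r.left := hb.2 _ _ _ sqTV
  have hrs : Surjective r.left := hbs.2 _ _ _ sqTV
  let Vk : V.left.affineCover.I₀ → Over S := fun k => Over.mk (V.left.affineCover.f k ≫ V.hom)
  let e : ∀ k, Vk k ⟶ V := fun k => Over.homMk (V.left.affineCover.f k) rfl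
  have heo : ∀ k, IsOpenImmersion (e k).left := fun k =>
    inferInstanceAs (IsOpenImmersion (V.left.affineCover.f k))
  have hVk : ∀ k, IsAffine (Vk k).left := fun k =>
    inferInstanceAs (IsAffine (V.left.affineCover.X k))
  have hbk : ∀ k, RepWith @Etale ((yon S).map (e k) ≫ b) := fun k =>
    (repWith_isMultiplicative (S := S) @Etale).comp_mem _ _
      ((repWith_yon_map_iff _ _).2 (haveI := heo k; inferInstance)) hb
  have hirep : Representable i := hi.1.1
  choose Wk sk fk sqk using fun k => hirep ((yon S).map (e k) ≫ b)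
  have hsqz : ∀ k, sqZero (sk k).left := fun k => hi.2 _ (fk k) (sk k) (hVk k) (hbk k) (sqk k)
  have hthk : ∀ k, IsClosedImmersion (sk k).left := fun k => (hi.1.2 _ _ _ (sqk k)).1
  have hrepe : ∀ k, RepWith @IsOpenImmersion ((yon S).map (e k)) := fun k =>
    (repWith_yon_map_iff @IsOpenImmersion (e k)).2 (heo k)
  choose Tk rk tvk' sqTk using fun k => (hrepe k).1 ((yon S).map tv)
  let tvk : ∀ k, Tk k ⟶ Vk k := fun k => (yon S).preimage (tvk' k)
  have htvk : ∀ k, (yon S).map (tvk k) = tvk' k := fun k => (yon S).map_preimage _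
  have hrko : ∀ k, IsOpenImmersion (rk k).left := fun k => (hrepe k).2 _ _ _ (sqTk k)
  let g : ∀ k, Tk k ⟶ T := fun k => rk k ≫ r
  have hgfl : ∀ k, Flat (g k).left := by
    intro k
    haveI := hrko k
    show Flat ((rk k).left ≫ r.left)
    infer_instance
  have hgt : ∀ k, (yon S).map (g k) ≫ t = (yon S).map (tvk k) ≫ (yon S).map (e k) ≫ b := by
    intro k
    show (yon S).map (rk k ≫ r) ≫ t = _
    rw [Functor.map_comp, Category.assoc, ← sqTV.w, ← Category.assoc, ← (sqTk k).w, htvk,
      Category.assoc]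
  have hgsurj : ∀ x : T.left, ∃ (k : V.left.affineCover.I₀) (y : (Tk k).left), (g k).left y = x := by
    intro x
    obtain ⟨z, hz⟩ := hrs.surj x
    obtain ⟨v, hv⟩ := V.left.affineCover.covers (tv.left z)
    have sqS : IsPullback (tvk (V.left.affineCover.idx (tv.left z))).left
        (rk (V.left.affineCover.idx (tv.left z))).left
        (e (V.left.affineCover.idx (tv.left z))).left tv.left := by
      have : IsPullback (tvk (V.left.affineCover.idx (tv.left z)))
          (rk (V.left.affineCover.idx (tv.left z))) (e (V.left.affineCover.idx (tv.left z))) tv :=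
        IsPullback.of_map (yon S) (by
          apply (yon S).map_injective
          rw [Functor.map_comp, Functor.map_comp, htvk]
          exact (sqTk _).w) (by rw [htvk]; exact sqTk _)
      exact this.map (Over.forget S)
    obtain ⟨y, -, hy2⟩ := Scheme.exists_preimage_of_isPullback sqS v z hv
    refine ⟨_, y, ?_⟩
    show ((rk _).left ≫ r.left) y = x
    rw [Scheme.Hom.comp_apply, hy2, hz]
  choose WT sT fT sqT using fun k => hirep ((yon S).map (g k) ≫ t)
  have hsqT : ∀ k, sqZero (sT k).left := by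
    intro k
    obtain ⟨l, hl⟩ := exists_isPullback_of_pullbacks i ((yon S).map (e k) ≫ b) (tvk k) (fk k) (sk k)
      (sqk k) (fT k) (sT k) (by rw [← hgt k]; exact sqT k)
    haveI := hthk k
    exact sqZero_of_isPullback_of_isClosedImmersion hl (hsqz k)
  have hl' : ∀ k, ∃ l : WT k ⟶ W, IsPullback l.left (sT k).left snd.left (g k).left := fun k =>
    exists_isPullback_of_pullbacks i t (g k) fst snd sq (fT k) (sT k) (sqT k)
  choose l' hl' using hl'
  haveI : IsClosedImmersion snd.left := (hi.1.2 _ _ _ sq).1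
  exact sqZero_of_flat_family snd.left (fun k => (g k).left) hgfl hgsurj (fun k => (l' k).left)
    (fun k => (sT k).left) hl' hsqT

/-- First order thickenings of algebraic spaces are stable under base change. -/
theorem isFOThickMor_of_isPullback {F G F' G' : Sp S} (hG : IsAlgSpace G) {i : F ⟶ G} {p : G' ⟶ G}
    {p' : F' ⟶ F} {i' : F' ⟶ G'} (sq : IsPullback p' i' i p) (hi : IsFOThickMor i) :
    IsFOThickMor i' := by
  refine ⟨repWith_snd_of_isPullback sq hi.1, ?_⟩
  intro V' W' b' fst' snd' _ _ sq'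
  exact sqZero_of_isFOThickMor hG i hi (b' ≫ p) (fst' ≫ p') snd' (sq'.paste_horiz sq)

end Groth.Agent.H50
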