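import Groth.Agent.H50.Etale
import Mathlib.AlgebraicGeometry.Morphisms.LocalFlatDescent
import Mathlib.AlgebraicGeometry.Morphisms.QuasiFinite
import Mathlib.RingTheory.RingHom.QuasiFinite
import Mathlib.RingTheory.Unramified.LocalStructure

set_option autoImplicit false
universe u
open CategoryTheory CategoryTheory.Limits AlgebraicGeometry Opposite MorphismProperty

namespace Groth.Agent.H50

open AlgSp

section Ring

open TensorProduct

/-- Flatness of ring maps descends along faithfully flat base change. -/
theorem flat_codescendsAlong_faithfullyFlat :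
    RingHom.CodescendsAlong RingHom.Flat RingHom.FaithfullyFlat := by
  refine .mk _ RingHom.Flat.respectsIso fun R S T _ _ _ _ _ h h' ↦ ?_
  rw [RingHom.flat_algebraMap_iff] at h' ⊢
  rw [RingHom.faithfullyFlat_algebraMap_iff] at h
  exact Module.Flat.of_flat_tensorProduct R T S

/-- Quasi-finiteness of algebras descends along faithfully flat base change. -/
theorem quasiFinite_of_tensorProduct_of_faithfullyFlat (R S A : Type u) [CommRing R] [CommRing S]
    [CommRing A] [Algebra R S] [Algebra R A] [Module.FaithfullyFlat R A]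
    [Algebra.QuasiFinite A (A ⊗[R] S)] : Algebra.QuasiFinite R S := by
  refine ⟨fun p hp => ?_⟩
  obtain ⟨P, hP, hPp⟩ := Ideal.exists_isPrime_liesOver_of_faithfullyFlat (B := A) p
  let := Localization.AtPrime.algebraOfLiesOver p P
  let e : P.Fiber (A ⊗[R] S) ≃ₐ[P.ResidueField] P.ResidueField ⊗[p.ResidueField] (p.Fiber S) :=
    (Algebra.TensorProduct.cancelBaseChange _ _ _ _ _).trans
      (Algebra.TensorProduct.cancelBaseChange _ _ _ _ _).symm
  have h1 : Module.Finite P.ResidueField (P.ResidueField ⊗[p.ResidueField] (p.Fiber S)) :=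
    .of_surjective e.toLinearMap e.surjective
  exact Module.Finite.of_finite_tensorProduct_of_faithfullyFlat P.ResidueField

theorem quasiFinite_codescendsAlong_faithfullyFlat :
    RingHom.CodescendsAlong RingHom.QuasiFinite RingHom.FaithfullyFlat := by
  refine .mk _ RingHom.QuasiFinite.respectsIso fun R S T _ _ _ _ _ h h' ↦ ?_
  rw [RingHom.quasiFinite_algebraMap] at h' ⊢
  rw [RingHom.faithfullyFlat_algebraMap_iff] at h
  exact quasiFinite_of_tensorProduct_of_faithfullyFlat R T S

end Ring

/-- The morphisms along which we descend: surjective, flat, locally of finite presentation. -/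
abbrev fppfProp : MorphismProperty Scheme.{u} :=
  @Surjective ⊓ @Flat ⊓ @LocallyOfFinitePresentation

theorem fppfProp_of_etale_of_surjective {X Y : Scheme.{u}} (f : X ⟶ Y) (h1 : Etale f)
    (h2 : Surjective f) : fppfProp f :=
  ⟨⟨h2, inferInstance⟩, inferInstance⟩

theorem flat_descendsAlong_fppf : DescendsAlong (@Flat : MorphismProperty Scheme.{u}) fppfProp := by
  have : DescendsAlong @Flat (@Surjective ⊓ @Flat ⊓ @QuasiCompact) :=
    HasRingHomProperty.descendsAlong_flat flat_codescendsAlong_faithfullyFlat
  infer_instance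

theorem lqf_descendsAlong_fppf :
    DescendsAlong (@LocallyQuasiFinite : MorphismProperty Scheme.{u}) fppfProp := by
  have : DescendsAlong @LocallyQuasiFinite (@Surjective ⊓ @Flat ⊓ @QuasiCompact) :=
    HasRingHomProperty.descendsAlong_flat quasiFinite_codescendsAlong_faithfullyFlat
  infer_instance

/-- An unramified morphism locally of finite type is locally quasi-finite. -/
theorem locallyQuasiFinite_of_unramified {X Y : Scheme.{u}} (f : X ⟶ Y) [LocallyOfFiniteType f]
    [FormallyUnramified f] : LocallyQuasiFinite f := by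
  rw [HasRingHomProperty.iff_appLE (P := @LocallyQuasiFinite)]
  intro U V e
  have h1 := HasRingHomProperty.appLE @LocallyOfFiniteType f inferInstance U V e
  have h2 := HasRingHomProperty.appLE @FormallyUnramified f inferInstance U V e
  algebraize [(f.appLE U V e).hom]
  exact RingHom.quasiFinite_algebraMap.2 inferInstance

/-- Facts shared by the properties of morphisms that are etale local on source and target. -/
structure GoodProp (P : MorphismProperty Scheme.{u}) : Prop where
  desc : DescendsAlong P fppfProp
  bc : P.IsStableUnderBaseChange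
  mult : P.IsMultiplicative
  etale : ∀ ⦃A B : Scheme.{u}⦄ (g : A ⟶ B), Etale g → P g

theorem isMultiplicative_of_id {P : MorphismProperty Scheme.{u}} [P.IsStableUnderComposition]
    (h : ∀ X : Scheme.{u}, P (𝟙 X)) : P.IsMultiplicative :=
  { id_mem := h }

theorem goodProp_lft : GoodProp (@LocallyOfFiniteType : MorphismProperty Scheme.{u}) :=
  ⟨inferInstance, inferInstance, inferInstance, fun _ _ g hg => by have := hg; infer_instance⟩

theorem goodProp_lfp : GoodProp (@LocallyOfFinitePresentation : MorphismProperty Scheme.{u}) :=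
  ⟨inferInstance, inferInstance, isMultiplicative_of_id (fun _ => inferInstance),
    fun _ _ g hg => by have := hg; infer_instance⟩

theorem goodProp_flat : GoodProp (@Flat : MorphismProperty Scheme.{u}) :=
  ⟨flat_descendsAlong_fppf, inferInstance, inferInstance,
    fun _ _ g hg => by have := hg; infer_instance⟩

theorem goodProp_smooth : GoodProp (@Smooth : MorphismProperty Scheme.{u}) :=
  ⟨inferInstance, inferInstance, isMultiplicative_of_id (fun _ => inferInstance),
    fun _ _ g hg => by have := hg; infer_instance⟩

theorem goodProp_etale : GoodProp (@Etale : MorphismProperty Scheme.{u}) :=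
  ⟨inferInstance, inferInstance, inferInstance, fun _ _ _ hg => hg⟩

theorem goodProp_lqf :
    GoodProp ((@LocallyQuasiFinite : MorphismProperty Scheme.{u}) ⊓ @LocallyOfFiniteType) := by
  have := lqf_descendsAlong_fppf.{u}
  exact ⟨inferInstance, inferInstance, inferInstance, fun A B g hg =>
    ⟨by have := hg; exact locallyQuasiFinite_of_unramified g, by have := hg; infer_instance⟩⟩

theorem goodProp_unramified :
    GoodProp ((@LocallyOfFiniteType : MorphismProperty Scheme.{u}) ⊓ @FormallyUnramified) :=
  ⟨inferInstance, inferInstance, inferInstance, fun A B g hg =>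
    ⟨by have := hg; infer_instance, by have := hg; infer_instance⟩⟩

/-- The seven classes of the source all satisfy `GoodProp`. -/
theorem goodProp_of_list (P : MorphismProperty Scheme.{u})
    (hP : P = @LocallyOfFiniteType ∨ P = @LocallyOfFinitePresentation ∨ P = @Flat ∨ P = @Smooth ∨
      P = @Etale ∨
      (∀ ⦃A B : Scheme.{u}⦄ (g : A ⟶ B), P g ↔ (LocallyQuasiFinite g ∧ LocallyOfFiniteType g)) ∨
      (∀ ⦃A B : Scheme.{u}⦄ (g : A ⟶ B), P g ↔ (LocallyOfFiniteType g ∧ FormallyUnramified g))) :
    GoodProp P := by
  rcases hP with rfl | rfl | rfl | rfl | rfl | h | h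
  · exact goodProp_lft
  · exact goodProp_lfp
  · exact goodProp_flat
  · exact goodProp_smooth
  · exact goodProp_etale
  · obtain rfl : P = _ := MorphismProperty.ext P
      ((@LocallyQuasiFinite : MorphismProperty Scheme.{u}) ⊓ @LocallyOfFiniteType)
      (fun A B g => h g)
    exact goodProp_lqf
  · obtain rfl : P = _ := MorphismProperty.ext P
      ((@LocallyOfFiniteType : MorphismProperty Scheme.{u}) ⊓ @FormallyUnramified)
      (fun A B g => h g)
    exact goodProp_unramified

section Descent

variable {S : Scheme.{u}}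

/-- In a pullback square of schemes over `S`, descend `P` along an etale surjective map. -/
theorem descend_of_isPullback_over {P : MorphismProperty Scheme.{u}}
    (hP : DescendsAlong P fppfProp) {U V U' V' : Over S} {h : U ⟶ V} {v : V' ⟶ V} {r1 : U' ⟶ U}
    {r2 : U' ⟶ V'} (sq : IsPullback r1 r2 h v) (hv1 : Etale v.left) (hv2 : Surjective v.left)
    (hr : P r2.left) : P h.left := by
  have sq' : IsPullback r1.left r2.left h.left v.left := sq.map (Over.forget S)
  exact hP.of_isPullback sq'.flip (fppfProp_of_etale_of_surjective _ hv1 hv2) hr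

/-- `RepWith P` for a representable morphism can be checked after base change along an etale
surjective map from a scheme. -/
theorem repWith_of_isPullback_atlas {P : MorphismProperty Scheme.{u}} [P.IsStableUnderBaseChange]
    (hP : DescendsAlong P fppfProp) {F G F' : Sp S} {f : F ⟶ G} (hf : Representable f)
    {V : Over S} {p : (yon S).obj V ⟶ G} (hpe : RepWith @Etale p) (hps : RepWith @Surjective p)
    {fst : F' ⟶ F} {snd : F' ⟶ (yon S).obj V} (sq : IsPullback fst snd f p)
    (h : RepWith P snd) : RepWith P f := by
  refine MorphismProperty.relative_of_snd hf (fun T g => ?_)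
  have hp : Representable p := hpe.rep
  have sqV := hp.isPullback g
  have hq1 : Etale (hp.snd g).left := hpe.property_snd g
  have hq2 : Surjective (hp.snd g).left := hps.property_snd g
  have sqW := IsPullback.of_hasPullback (hf.snd g) (hp.snd g)
  have sqW' := sqW.map (yon S)
  have big := sqW'.paste_horiz (hf.isPullback g)
  rw [← sqV.w] at big
  have hw : ((yon S).map (pullback.fst (hf.snd g) (hp.snd g)) ≫ hf.fst g) ≫ f =
      ((yon S).map (pullback.snd (hf.snd g) (hp.snd g)) ≫ hp.fst g) ≫ p := by
    rw [Category.assoc (f := (yon S).map (pullback.snd (hf.snd g) (hp.snd g)))]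
    exact big.w
  have sqL : IsPullback (sq.lift _ _ hw) ((yon S).map (pullback.snd (hf.snd g) (hp.snd g))) snd
      (hp.fst g) := by
    refine IsPullback.of_right ?_ (sq.lift_snd _ _ hw) sq
    rw [sq.lift_fst]
    exact big
  have hr : P (pullback.snd (hf.snd g) (hp.snd g)).left := h.property (hp.fst g) _ _ sqL
  exact descend_of_isPullback_over hP sqW hq1 hq2 hr

/-- For a representable morphism to a sheaf with an atlas, having `P` etale locally on source and
target implies being representable with `P`. -/
theorem repWith_of_locP {P : MorphismProperty Scheme.{u}} [P.IsStableUnderBaseChange]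
    (hP : DescendsAlong P fppfProp) {F G : Sp S} {f : F ⟶ G} (hf : Representable f)
    (hG : ∃ (V : Over S) (p : (yon S).obj V ⟶ G), RepWith @Etale p ∧ RepWith @Surjective p)
    (h : LocP P f) : RepWith P f := by
  obtain ⟨V, p, hpe, hps⟩ := hG
  have sq := hf.isPullback p
  have h1 : P (hf.snd p).left :=
    h (hf.fst p) p (hf.snd p) (repWith_fst_of_isPullback sq hpe) hpe sq.w
  exact repWith_of_isPullback_atlas hP hf hpe hps sq ((repWith_yon_map_iff P _).2 h1)

/-- Cancellation for `LocP`: from `P` of a composite (and `Q` of the second map) deduce `P'` of the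
first map, when this holds for schemes and `P'` descends. -/
theorem locP_of_comp {P Q P' : MorphismProperty Scheme.{u}} (hP' : DescendsAlong P' fppfProp)
    (hc : ∀ ⦃A B C : Scheme.{u}⦄ (k : A ⟶ B) (l : B ⟶ C), P (k ≫ l) → Q l → P' k)
    {X Y Z : Sp S} {f : X ⟶ Y} {g : Y ⟶ Z}
    (hZ : ∃ (W : Over S) (c : (yon S).obj W ⟶ Z), RepWith @Etale c ∧ RepWith @Surjective c)
    (hfg : LocP P (f ≫ g)) (hg : LocP Q g) : LocP P' f := by
  intro U V a b h ha hb comm
  obtain ⟨W, c, hce, hcs⟩ := hZ
  have hrep : Representable c := hce.rep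
  have sqV := hrep.isPullback' (b ≫ g)
  have hv1 : Etale (hrep.snd (b ≫ g)).left := hce.property_snd (b ≫ g)
  have hv2 : Surjective (hrep.snd (b ≫ g)).left := hcs.property_snd (b ≫ g)
  have sqU := IsPullback.of_hasPullback h (hrep.snd (b ≫ g))
  have hr1 : Etale (pullback.fst h (hrep.snd (b ≫ g))).left :=
    MorphismProperty.of_isPullback (P := @Etale) (sqU.map (Over.forget S)).flip hv1
  have hve : RepWith @Etale ((yon S).map (hrep.snd (b ≫ g))) :=
    (repWith_yon_map_iff @Etale _).2 hv1
  have hr1e : RepWith @Etale ((yon S).map (pullback.fst h (hrep.snd (b ≫ g)))) :=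
    (repWith_yon_map_iff @Etale _).2 hr1
  have hQ : Q (hrep.fst' (b ≫ g)).left := by
    refine hg ((yon S).map (hrep.snd (b ≫ g)) ≫ b) c (hrep.fst' (b ≫ g))
      ((RepWith @Etale).comp_mem _ _ hve hb) hce ?_
    rw [Category.assoc]
    exact sqV.w.symm
  have e1 : (yon S).map (pullback.fst h (hrep.snd (b ≫ g))) ≫ (yon S).map h =
      (yon S).map (pullback.snd h (hrep.snd (b ≫ g))) ≫ (yon S).map (hrep.snd (b ≫ g)) := by
    rw [← (yon S).map_comp, ← (yon S).map_comp, sqU.w]
  have hPk : P (pullback.snd h (hrep.snd (b ≫ g)) ≫ hrep.fst' (b ≫ g)).left := by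
    refine hfg ((yon S).map (pullback.fst h (hrep.snd (b ≫ g))) ≫ a) c _
      ((RepWith @Etale).comp_mem _ _ hr1e ha) hce ?_
    calc ((yon S).map (pullback.fst h (hrep.snd (b ≫ g))) ≫ a) ≫ f ≫ g
        = (yon S).map (pullback.fst h (hrep.snd (b ≫ g))) ≫ (a ≫ f) ≫ g := by
          simp only [Category.assoc]
      _ = (yon S).map (pullback.fst h (hrep.snd (b ≫ g))) ≫ ((yon S).map h ≫ b) ≫ g := by
          rw [comm]
      _ = ((yon S).map (pullback.fst h (hrep.snd (b ≫ g))) ≫ (yon S).map h) ≫ b ≫ g := by
          simp only [Category.assoc]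
      _ = ((yon S).map (pullback.snd h (hrep.snd (b ≫ g))) ≫
            (yon S).map (hrep.snd (b ≫ g))) ≫ b ≫ g := by rw [e1]
      _ = (yon S).map (pullback.snd h (hrep.snd (b ≫ g))) ≫
            ((yon S).map (hrep.snd (b ≫ g)) ≫ b ≫ g) := by simp only [Category.assoc]
      _ = (yon S).map (pullback.snd h (hrep.snd (b ≫ g))) ≫
            ((yon S).map (hrep.fst' (b ≫ g)) ≫ c) := by rw [sqV.w]
      _ = (yon S).map (pullback.snd h (hrep.snd (b ≫ g)) ≫ hrep.fst' (b ≫ g)) ≫ c := by
          rw [(yon S).map_comp, Category.assoc]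
  rw [Over.comp_left] at hPk
  have hP'r : P' (pullback.snd h (hrep.snd (b ≫ g))).left := hc _ _ hPk hQ
  exact descend_of_isPullback_over hP' sqU hv1 hv2 hP'r

/-- `LocP P` can be checked after base change along an etale surjective map from a scheme. -/
theorem locP_of_isPullback_atlas {P : MorphismProperty Scheme.{u}} (hP : DescendsAlong P fppfProp)
    {X Y P₀ : Sp S} {f : X ⟶ Y} {V : Over S} {p : (yon S).obj V ⟶ Y} (hpe : RepWith @Etale p)
    (hps : RepWith @Surjective p) {fst : P₀ ⟶ X} {snd : P₀ ⟶ (yon S).obj V}
    (sq : IsPullback fst snd f p) (h : LocP P snd) : LocP P f := by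
  intro U V' a b k ha hb comm
  have hp : Representable p := hpe.rep
  have sqV := hp.isPullback' b
  have hq1 : Etale (hp.snd b).left := hpe.property_snd b
  have hq2 : Surjective (hp.snd b).left := hps.property_snd b
  have sqU := IsPullback.of_hasPullback k (hp.snd b)
  have sqU' := sqU.map (yon S)
  have big := sqU'.flip.paste_horiz sqV
  rw [← comm] at big
  have hw : ((yon S).map (pullback.fst k (hp.snd b)) ≫ a) ≫ f =
      ((yon S).map (pullback.snd k (hp.snd b)) ≫ (yon S).map (hp.fst' b)) ≫ p := by
    rw [Category.assoc (f := (yon S).map (pullback.fst k (hp.snd b)))]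
    exact big.w.symm
  have sqA : IsPullback (sq.lift _ _ hw) ((yon S).map (pullback.fst k (hp.snd b))) fst a := by
    refine IsPullback.of_right ?_ (sq.lift_fst _ _ hw) sq.flip
    rw [sq.lift_snd]
    exact big
  have ha'' : RepWith @Etale (sq.lift _ _ hw) := repWith_fst_of_isPullback sqA ha
  have hq1e : RepWith @Etale ((yon S).map (hp.fst' b)) := repWith_fst_of_isPullback sqV hb
  have hr : P (pullback.snd k (hp.snd b)).left :=
    h (sq.lift _ _ hw) ((yon S).map (hp.fst' b)) (pullback.snd k (hp.snd b)) ha'' hq1e
      (sq.lift_snd _ _ hw)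
  exact descend_of_isPullback_over hP sqU hq1 hq2 hr

end Descent

end Groth.Agent.H50
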