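import Groth.Agent.H50.Basic
import Groth.Prelude.Def_AlgSpDec

set_option autoImplicit false
universe u
open CategoryTheory CategoryTheory.Limits AlgebraicGeometry Opposite

namespace Groth.Agent.H50

open AlgSp

variable {S : Scheme.{u}} {F G : Sp S}

/-- The field-valued point defined by a morphism `h_{Spec K} ⟶ F`. -/
noncomputable def fieldPtOfHom {K : Type u} [Field K] (str : Spec (CommRingCat.of K) ⟶ S)
    (a : (yon S).obj (Over.mk str) ⟶ F) : FieldPt F :=
  ⟨K, str, (J S).uliftYonedaEquiv a⟩

@[simp] theorem toHom_fieldPtOfHom {K : Type u} [Field K] (str : Spec (CommRingCat.of K) ⟶ S)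
    (a : (yon S).obj (Over.mk str) ⟶ F) : (fieldPtOfHom str a).toHom = a :=
  Equiv.symm_apply_apply _ _

@[simp] theorem fieldPtOfHom_toHom (p : FieldPt F) : fieldPtOfHom p.str p.toHom = p := by
  obtain ⟨K, str, val⟩ := p
  change (⟨K, str, _⟩ : FieldPt F) = ⟨K, str, val⟩
  congr 1
  exact FieldPt.uliftYonedaEquiv_toHom _

theorem fieldPtOfHom_map {K : Type u} [Field K] (str : Spec (CommRingCat.of K) ⟶ S)
    (a : (yon S).obj (Over.mk str) ⟶ F) (f : F ⟶ G) :
    (fieldPtOfHom str a).map f = fieldPtOfHom str (a ≫ f) := by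
  change (⟨K, str, _⟩ : FieldPt G) = ⟨K, str, _⟩
  congr 1

theorem points_map_mk_fieldPtOfHom {K : Type u} [Field K] (str : Spec (CommRingCat.of K) ⟶ S)
    (a : (yon S).obj (Over.mk str) ⟶ F) (f : F ⟶ G) :
    Points.map f (Points.mk (fieldPtOfHom str a)) = Points.mk (fieldPtOfHom str (a ≫ f)) := by
  rw [Points.map_mk, fieldPtOfHom_map]

/-- Restricting a field-valued point along a field extension does not change the point. -/
theorem mk_fieldPtOfHom_comp {K L : Type u} [Field K] [Field L]
    (str : Spec (CommRingCat.of K) ⟶ S) (w : Spec (CommRingCat.of L) ⟶ S)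
    (φ : Over.mk w ⟶ Over.mk str) (a : (yon S).obj (Over.mk str) ⟶ F) :
    Points.mk (fieldPtOfHom w ((yon S).map φ ≫ a)) = Points.mk (fieldPtOfHom str a) := by
  refine Points.sound ⟨L, inferInstance, w, 𝟙 _, φ, ?_⟩
  change F.obj.map (𝟙 _).op ((J S).uliftYonedaEquiv ((yon S).map φ ≫ a)) =
    F.obj.map φ.op ((J S).uliftYonedaEquiv a)
  rw [op_id, Functor.map_id_apply, GrothendieckTopology.uliftYonedaEquiv_naturality]

/-- Two field-valued points define the same point iff their morphisms agree after a common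
field extension. -/
theorem mk_eq_mk_iff_toHom {p q : FieldPt F} :
    Points.mk p = Points.mk q ↔ ∃ (Ω : Type u) (_ : Field Ω) (w : Spec (CommRingCat.of Ω) ⟶ S)
      (a : Over.mk w ⟶ p.pt) (b : Over.mk w ⟶ q.pt),
      (yon S).map a ≫ p.toHom = (yon S).map b ≫ q.toHom := by
  rw [Points.mk_eq_mk_iff]
  constructor
  · rintro ⟨Ω, _, w, a, b, h⟩
    refine ⟨Ω, inferInstance, w, a, b, ?_⟩
    apply (J S).uliftYonedaEquiv.injective
    rw [← GrothendieckTopology.uliftYonedaEquiv_naturality,
      ← GrothendieckTopology.uliftYonedaEquiv_naturality, FieldPt.uliftYonedaEquiv_toHom,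
      FieldPt.uliftYonedaEquiv_toHom]
    exact h
  · rintro ⟨Ω, _, w, a, b, h⟩
    refine ⟨Ω, inferInstance, w, a, b, ?_⟩
    have := congrArg (J S).uliftYonedaEquiv h
    rw [← GrothendieckTopology.uliftYonedaEquiv_naturality,
      ← GrothendieckTopology.uliftYonedaEquiv_naturality, FieldPt.uliftYonedaEquiv_toHom,
      FieldPt.uliftYonedaEquiv_toHom] at this
    exact this

/-- Every point comes from a morphism out of the spectrum of a field. -/
theorem exists_fieldPtOfHom (x : Points F) :
    ∃ (K : Type u) (_ : Field K) (str : Spec (CommRingCat.of K) ⟶ S)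
      (a : (yon S).obj (Over.mk str) ⟶ F), Points.mk (fieldPtOfHom str a) = x := by
  induction x using Points.ind with
  | h p => exact ⟨p.K, inferInstance, p.str, p.toHom, by rw [fieldPtOfHom_toHom]⟩

/-- If two points of `F` and `G'` have the same image in `G`, they are defined by morphisms from the
spectrum of a common field which agree in `G`. -/
theorem exists_common_field {G' : Sp S} (f : F ⟶ G) (g : G' ⟶ G) (x : Points F) (y : Points G')
    (hxy : Points.map f x = Points.map g y) :
    ∃ (Ω : Type u) (_ : Field Ω) (w : Spec (CommRingCat.of Ω) ⟶ S)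
      (a : (yon S).obj (Over.mk w) ⟶ F) (b : (yon S).obj (Over.mk w) ⟶ G'),
      a ≫ f = b ≫ g ∧ Points.mk (fieldPtOfHom w a) = x ∧ Points.mk (fieldPtOfHom w b) = y := by
  induction x using Points.ind with
  | h p =>
  induction y using Points.ind with
  | h q =>
    rw [Points.map_mk, Points.map_mk, mk_eq_mk_iff_toHom] at hxy
    obtain ⟨Ω, _, w, (α : Over.mk w ⟶ p.pt), (β : Over.mk w ⟶ q.pt), hαβ⟩ := hxy
    rw [FieldPt.toHom_map, FieldPt.toHom_map] at hαβ
    replace hαβ : (yon S).map α ≫ p.toHom ≫ f = (yon S).map β ≫ q.toHom ≫ g := hαβ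
    refine ⟨Ω, inferInstance, w, (yon S).map α ≫ p.toHom, (yon S).map β ≫ q.toHom, ?_, ?_, ?_⟩
    · rw [Category.assoc, Category.assoc, hαβ]
    · rw [mk_fieldPtOfHom_comp p.str w α, fieldPtOfHom_toHom]
    · rw [mk_fieldPtOfHom_comp q.str w β, fieldPtOfHom_toHom]

/-- Points of a fibre product surject onto the fibre product of the sets of points. -/
theorem exists_point_of_isPullback {F' G' : Sp S} {f : F ⟶ G} {g : G' ⟶ G} {fst : F' ⟶ F}
    {snd : F' ⟶ G'} (sq : IsPullback fst snd f g) (x : Points F) (y : Points G')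
    (hxy : Points.map f x = Points.map g y) :
    ∃ z : Points F', Points.map fst z = x ∧ Points.map snd z = y := by
  obtain ⟨Ω, _, w, a, b, hab, rfl, rfl⟩ := exists_common_field f g x y hxy
  refine ⟨Points.mk (fieldPtOfHom w (sq.lift a b hab)), ?_, ?_⟩
  · rw [points_map_mk_fieldPtOfHom, sq.lift_fst]
  · rw [points_map_mk_fieldPtOfHom, sq.lift_snd]

end Groth.Agent.H50
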