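import Groth.Prelude.Def_AlgSp4

set_option autoImplicit false
universe u
open CategoryTheory CategoryTheory.Limits AlgebraicGeometry Opposite

namespace Groth.Agent.H50

open AlgSp

variable {S : Scheme.{u}}

/-- A morphism of sheaves is a monomorphism as soon as it is injective on points with values in
schemes. -/
theorem mono_of_forall_yon {F G : Sp S} (f : F ⟶ G)
    (h : ∀ (T : Over S) (a b : (yon S).obj T ⟶ F), a ≫ f = b ≫ f → a = b) : Mono f :=
  ⟨fun _ _ w => (J S).hom_ext_uliftYoneda
    (fun T p => h T _ _ (by simp only [Category.assoc, w]))⟩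

/-- A morphism representable with a property contained in monomorphisms is a monomorphism. -/
theorem mono_of_repWith {P : MorphismProperty Scheme.{u}}
    (hP : ∀ ⦃X Y : Scheme.{u}⦄ (g : X ⟶ Y), P g → Mono g) {F G : Sp S} {f : F ⟶ G}
    (hf : RepWith P f) : Mono f := by
  apply mono_of_forall_yon
  intro T a b h
  have hrep : Representable f := hf.rep
  suffices hrep.lift (g := a ≫ f) a (𝟙 T) (by simp) =
      hrep.lift b (𝟙 T) (by simp [← h]) by
    simpa using (yon S).congr_map this =≫ (hrep.fst (a ≫ f))
  have h1 : Mono (hrep.snd (a ≫ f)).left := hP _ (hf.property_snd (a ≫ f))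
  have : Mono (hrep.snd (a ≫ f)) := (Over.forget S).mono_of_mono_map h1
  simp only [← cancel_mono (hrep.snd (a ≫ f)), Functor.relativelyRepresentable.lift_snd]

/-- `RepWith` is monotone in the property. -/
theorem repWith_mono {P Q : MorphismProperty Scheme.{u}}
    (hPQ : ∀ ⦃X Y : Scheme.{u}⦄ (g : X ⟶ Y), P g → Q g) {F G : Sp S} {f : F ⟶ G}
    (hf : RepWith P f) : RepWith Q f :=
  ⟨hf.rep, fun _ _ g fst snd sq => hPQ _ (hf.property g fst snd sq)⟩

/-- Base change of `RepWith P`: in a pullback square `fst ≫ f = snd ≫ g`, if `f` has it then so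
does `snd`. -/
theorem repWith_snd_of_isPullback {P : MorphismProperty Scheme.{u}} {F G F' G' : Sp S}
    {f : F ⟶ G} {g : G' ⟶ G} {fst : F' ⟶ F} {snd : F' ⟶ G'} (sq : IsPullback fst snd f g)
    (hf : RepWith P f) : RepWith P snd :=
  MorphismProperty.of_isPullback (P := RepWith P) sq hf

/-- Base change of `RepWith P`: in a pullback square `fst ≫ f = snd ≫ g`, if `g` has it then so
does `fst`. -/
theorem repWith_fst_of_isPullback {P : MorphismProperty Scheme.{u}} {F G F' G' : Sp S}
    {f : F ⟶ G} {g : G' ⟶ G} {fst : F' ⟶ F} {snd : F' ⟶ G'} (sq : IsPullback fst snd f g)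
    (hg : RepWith P g) : RepWith P fst :=
  MorphismProperty.of_isPullback (P := RepWith P) sq.flip hg

/-- A morphism representable and quasi-compact in the representable sense is a quasi-compact
morphism. -/
theorem isQuasiCompactMor_of_repWith {F G : Sp S} {f : F ⟶ G} (hf : RepWith @QuasiCompact f) :
    IsQuasiCompactMor f := by
  intro Z Z' _ hZ g fst snd sq
  obtain ⟨U, p, hpe, hps, hU⟩ := hZ
  have hsnd : RepWith @QuasiCompact snd := repWith_snd_of_isPullback sq hf
  have hrep : Representable snd := hsnd.rep
  have sq' := hrep.isPullback p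
  refine ⟨hrep.pullback p, hrep.fst p, repWith_fst_of_isPullback sq' hpe,
    repWith_fst_of_isPullback sq' hps, ?_⟩
  have : QuasiCompact (hrep.snd p).left := hsnd.property_snd p
  have : CompactSpace U.left := hU
  exact QuasiCompact.compactSpace_of_compactSpace (hrep.snd p).left

end Groth.Agent.H50
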