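import Groth.Prelude.Def_AlgSpRep

/-!
# helper50: abstract pullback lemmas used for morphisms representable by algebraic spaces
-/

set_option autoImplicit false
universe u
open CategoryTheory CategoryTheory.Limits

namespace Groth.Agent.H50

section abstract
variable {C : Type*} [Category C]

/-- The two sections of the base change of `f` along `g ≫ fst ≫ f` defined by the two components
of `g : T ⟶ F ×_X F`. -/
theorem exists_sections {F X T F'' : C} {f : F ⟶ X} [HasPullback f f] (g : T ⟶ pullback f f)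
    {p1 : F'' ⟶ F} {p2 : F'' ⟶ T} (sqF : IsPullback p1 p2 f (g ≫ pullback.fst f f ≫ f)) :
    ∃ σa σb : T ⟶ F'', σa ≫ p1 = g ≫ pullback.fst f f ∧ σa ≫ p2 = 𝟙 T ∧
      σb ≫ p1 = g ≫ pullback.snd f f ∧ σb ≫ p2 = 𝟙 T := by
  have ha : (g ≫ pullback.fst f f) ≫ f = 𝟙 T ≫ g ≫ pullback.fst f f ≫ f := by
    rw [Category.id_comp, Category.assoc]
  have hb : (g ≫ pullback.snd f f) ≫ f = 𝟙 T ≫ g ≫ pullback.fst f f ≫ f := by
    rw [Category.id_comp, Category.assoc, pullback.condition]
  exact ⟨sqF.lift _ _ ha, sqF.lift _ _ hb, sqF.lift_fst _ _ ha, sqF.lift_snd _ _ ha,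
    sqF.lift_fst _ _ hb, sqF.lift_snd _ _ hb⟩

/-- The base change of the diagonal of `f` along `g` is the pullback of the two sections. -/
theorem isPullback_diagonal_of_sections {F X T F'' E : C} {f : F ⟶ X} [HasPullback f f]
    (g : T ⟶ pullback f f) {p1 : F'' ⟶ F} {p2 : F'' ⟶ T}
    (sqF : IsPullback p1 p2 f (g ≫ pullback.fst f f ≫ f)) {σa σb : T ⟶ F''}
    (ha1 : σa ≫ p1 = g ≫ pullback.fst f f) (ha2 : σa ≫ p2 = 𝟙 T)
    (hb1 : σb ≫ p1 = g ≫ pullback.snd f f) (hb2 : σb ≫ p2 = 𝟙 T) {e1 e2 : E ⟶ T}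
    (sqE : IsPullback e1 e2 σa σb) :
    IsPullback (e2 ≫ g ≫ pullback.snd f f) e2 (pullback.diagonal f) g := by
  have he : e1 = e2 := by
    have h := sqE.w =≫ p2
    rw [Category.assoc, Category.assoc, ha2, hb2, Category.comp_id, Category.comp_id] at h
    exact h
  have hab : e2 ≫ g ≫ pullback.fst f f = e2 ≫ g ≫ pullback.snd f f := by
    have h := sqE.w =≫ p1
    rw [Category.assoc, Category.assoc, ha1, hb1, he] at h
    exact h
  have w : (e2 ≫ g ≫ pullback.snd f f) ≫ pullback.diagonal f = e2 ≫ g := by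
    apply pullback.hom_ext
    · rw [Category.assoc, pullback.diagonal_fst, Category.comp_id, Category.assoc, hab]
    · rw [Category.assoc, pullback.diagonal_snd, Category.comp_id, Category.assoc]
  have cone : ∀ s : PullbackCone (pullback.diagonal f) g,
      s.fst = s.snd ≫ g ≫ pullback.fst f f ∧ s.fst = s.snd ≫ g ≫ pullback.snd f f := by
    intro s
    have h1 := s.condition =≫ pullback.fst f f
    have h2 := s.condition =≫ pullback.snd f f
    rw [Category.assoc, pullback.diagonal_fst, Category.comp_id, Category.assoc] at h1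
    rw [Category.assoc, pullback.diagonal_snd, Category.comp_id, Category.assoc] at h2
    exact ⟨h1, h2⟩
  have hl : ∀ s : PullbackCone (pullback.diagonal f) g, s.snd ≫ σa = s.snd ≫ σb := by
    intro s
    apply sqF.hom_ext
    · rw [Category.assoc, Category.assoc, ha1, hb1, ← (cone s).1, ← (cone s).2]
    · rw [Category.assoc, Category.assoc, ha2, hb2]
  refine IsPullback.mk ⟨w⟩ ⟨PullbackCone.IsLimit.mk _
    (fun s => sqE.lift s.snd s.snd (hl s)) ?_ ?_ ?_⟩
  · intro s
    change sqE.lift s.snd s.snd (hl s) ≫ e2 ≫ g ≫ pullback.snd f f = s.fst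
    rw [← Category.assoc, sqE.lift_snd]
    exact (cone s).2.symm
  · intro s
    exact sqE.lift_snd _ _ _
  · intro s m _ hm2
    apply sqE.hom_ext
    · rw [sqE.lift_fst, he]
      exact hm2
    · rw [sqE.lift_snd]
      exact hm2

/-- A fibre product `A ×_F B` is the base change of the diagonal of `F` along `V ⟶ F × F`, for any
`V` mapping to `A` and `B` by a jointly monic pair through which the projections factor. -/
theorem isPullback_diag_of_isPullback [HasBinaryProducts C] {A B F F' V : C} {ξ : A ⟶ F} {ζ : B ⟶ F}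
    {fst : F' ⟶ A} {snd : F' ⟶ B} (sq : IsPullback fst snd ξ ζ) {pr1 : V ⟶ A} {pr2 : V ⟶ B}
    (hmono : ∀ {Z : C} (a b : Z ⟶ V), a ≫ pr1 = b ≫ pr1 → a ≫ pr2 = b ≫ pr2 → a = b)
    {v : F' ⟶ V} (hv1 : v ≫ pr1 = fst) (hv2 : v ≫ pr2 = snd) :
    IsPullback (fst ≫ ξ) v (Limits.diag F) (prod.lift (pr1 ≫ ξ) (pr2 ≫ ζ)) := by
  have w : (fst ≫ ξ) ≫ Limits.diag F = v ≫ prod.lift (pr1 ≫ ξ) (pr2 ≫ ζ) := by
    apply Limits.prod.hom_ext
    · simp only [Limits.diag, Category.assoc, prod.lift_fst, Category.comp_id]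
      rw [← Category.assoc, hv1]
    · simp only [Limits.diag, Category.assoc, prod.lift_snd, Category.comp_id]
      rw [← Category.assoc, hv2, sq.w]
  have cone : ∀ s : PullbackCone (Limits.diag F) (prod.lift (pr1 ≫ ξ) (pr2 ≫ ζ)),
      s.fst = s.snd ≫ pr1 ≫ ξ ∧ s.fst = s.snd ≫ pr2 ≫ ζ := by
    intro s
    have h1 := s.condition =≫ prod.fst
    have h2 := s.condition =≫ prod.snd
    simp only [Limits.diag, Category.assoc, prod.lift_fst, Category.comp_id] at h1
    simp only [Limits.diag, Category.assoc, prod.lift_snd, Category.comp_id] at h2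
    exact ⟨h1, h2⟩
  have hl : ∀ s : PullbackCone (Limits.diag F) (prod.lift (pr1 ≫ ξ) (pr2 ≫ ζ)),
      (s.snd ≫ pr1) ≫ ξ = (s.snd ≫ pr2) ≫ ζ := by
    intro s
    rw [Category.assoc, Category.assoc, ← (cone s).1, ← (cone s).2]
  refine IsPullback.mk ⟨w⟩ ⟨PullbackCone.IsLimit.mk _
    (fun s => sq.lift (s.snd ≫ pr1) (s.snd ≫ pr2) (hl s)) ?_ ?_ ?_⟩
  · intro s
    change sq.lift (s.snd ≫ pr1) (s.snd ≫ pr2) (hl s) ≫ fst ≫ ξ = s.fst
    rw [← Category.assoc, sq.lift_fst, Category.assoc]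
    exact (cone s).1.symm
  · intro s
    change sq.lift (s.snd ≫ pr1) (s.snd ≫ pr2) (hl s) ≫ v = s.snd
    apply hmono
    · rw [Category.assoc, hv1, sq.lift_fst]
    · rw [Category.assoc, hv2, sq.lift_snd]
  · intro s m _ hm2
    apply sq.hom_ext
    · rw [sq.lift_fst, ← hv1, ← Category.assoc, hm2]
    · rw [sq.lift_snd, ← hv2, ← Category.assoc, hm2]

/-- The base change of the diagonal of `F` along `(x1, x2) : T ⟶ F × F` is the equalizer of
`x1, x2`, written as the base change of a "diagonal" `δ : T ⟶ W` along `T ×_F T ⟶ W`. -/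
theorem isPullback_diag_of_equalizer [HasBinaryProducts C] {T F P'' W E : C} {x1 x2 : T ⟶ F}
    {q1 q2 : P'' ⟶ T} (sqP : IsPullback q1 q2 x1 x2) {w1 w2 : W ⟶ T}
    (hmono : ∀ {Z : C} (a b : Z ⟶ W), a ≫ w1 = b ≫ w1 → a ≫ w2 = b ≫ w2 → a = b)
    {δ : T ⟶ W} (hδ1 : δ ≫ w1 = 𝟙 T) (hδ2 : δ ≫ w2 = 𝟙 T) {l : P'' ⟶ W}
    (hl1 : l ≫ w1 = q1) (hl2 : l ≫ w2 = q2) {e1 : E ⟶ P''} {e2 : E ⟶ T}
    (sqE : IsPullback e1 e2 l δ) :
    IsPullback (e2 ≫ x1) e2 (Limits.diag F) (prod.lift x1 x2) := by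
  have he1 : e1 ≫ q1 = e2 := by
    have h := sqE.w =≫ w1
    rw [Category.assoc, Category.assoc, hl1, hδ1, Category.comp_id] at h
    exact h
  have he2 : e1 ≫ q2 = e2 := by
    have h := sqE.w =≫ w2
    rw [Category.assoc, Category.assoc, hl2, hδ2, Category.comp_id] at h
    exact h
  have hx : e2 ≫ x1 = e2 ≫ x2 := by
    have h : (e1 ≫ q1) ≫ x1 = (e1 ≫ q2) ≫ x2 := by
      rw [Category.assoc, Category.assoc, sqP.w]
    rw [he1, he2] at h
    exact h
  have w : (e2 ≫ x1) ≫ Limits.diag F = e2 ≫ prod.lift x1 x2 := by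
    apply Limits.prod.hom_ext
    · simp only [Limits.diag, Category.assoc, prod.lift_fst, Category.comp_id]
    · simp only [Limits.diag, Category.assoc, prod.lift_snd, Category.comp_id]
      exact hx
  have cone : ∀ s : PullbackCone (Limits.diag F) (prod.lift x1 x2),
      s.fst = s.snd ≫ x1 ∧ s.fst = s.snd ≫ x2 := by
    intro s
    have h1 := s.condition =≫ prod.fst
    have h2 := s.condition =≫ prod.snd
    simp only [Limits.diag, Category.assoc, prod.lift_fst, Category.comp_id] at h1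
    simp only [Limits.diag, Category.assoc, prod.lift_snd, Category.comp_id] at h2
    exact ⟨h1, h2⟩
  have hl' : ∀ s : PullbackCone (Limits.diag F) (prod.lift x1 x2),
      s.snd ≫ x1 = s.snd ≫ x2 := fun s => (cone s).1.symm.trans (cone s).2
  have hl : ∀ s : PullbackCone (Limits.diag F) (prod.lift x1 x2),
      sqP.lift s.snd s.snd (hl' s) ≫ l = s.snd ≫ δ := by
    intro s
    apply hmono
    · rw [Category.assoc, hl1, sqP.lift_fst, Category.assoc, hδ1, Category.comp_id]
    · rw [Category.assoc, hl2, sqP.lift_snd, Category.assoc, hδ2, Category.comp_id]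
  refine IsPullback.mk ⟨w⟩ ⟨PullbackCone.IsLimit.mk _
    (fun s => sqE.lift (sqP.lift s.snd s.snd (hl' s)) s.snd (hl s)) ?_ ?_ ?_⟩
  · intro s
    change sqE.lift (sqP.lift s.snd s.snd (hl' s)) s.snd (hl s) ≫ e2 ≫ x1 = s.fst
    rw [← Category.assoc, sqE.lift_snd]
    exact (cone s).1.symm
  · intro s
    exact sqE.lift_snd _ _ _
  · intro s m _ hm2
    apply sqE.hom_ext
    · rw [sqE.lift_fst]
      apply sqP.hom_ext
      · rw [sqP.lift_fst, Category.assoc, he1]
        exact hm2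
      · rw [sqP.lift_snd, Category.assoc, he2]
        exact hm2
    · rw [sqE.lift_snd]
      exact hm2

/-- `A ⨯ X ⟶ B ⨯ X` is a base change of `φ : A ⟶ B`. -/
theorem isPullback_prod_map_id [HasBinaryProducts C] {A B : C} (φ : A ⟶ B) (X : C) :
    IsPullback (prod.fst : A ⨯ X ⟶ A) (prod.map φ (𝟙 X)) φ (prod.fst : B ⨯ X ⟶ B) := by
  refine IsPullback.mk ⟨by simp⟩ ⟨PullbackCone.IsLimit.mk _
    (fun s => prod.lift s.fst (s.snd ≫ prod.snd)) ?_ ?_ ?_⟩
  · intro s
    exact prod.lift_fst _ _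
  · intro s
    apply Limits.prod.hom_ext
    · simp only [Category.assoc, prod.map_fst, prod.lift_fst_assoc]
      exact s.condition
    · simp only [Category.assoc, prod.map_snd, prod.lift_snd_assoc, prod.lift_snd, Category.comp_id]
  · intro s m hm1 hm2
    apply Limits.prod.hom_ext
    · rw [prod.lift_fst]
      exact hm1
    · rw [prod.lift_snd, ← hm2, Category.assoc, prod.map_snd, Category.comp_id]

/-- `X ⨯ A ⟶ X ⨯ B` is a base change of `φ : A ⟶ B`. -/
theorem isPullback_prod_id_map [HasBinaryProducts C] {A B : C} (φ : A ⟶ B) (X : C) :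
    IsPullback (prod.snd : X ⨯ A ⟶ A) (prod.map (𝟙 X) φ) φ (prod.snd : X ⨯ B ⟶ B) := by
  refine IsPullback.mk ⟨by simp⟩ ⟨PullbackCone.IsLimit.mk _
    (fun s => prod.lift (s.snd ≫ prod.fst) s.fst) ?_ ?_ ?_⟩
  · intro s
    exact prod.lift_snd _ _
  · intro s
    apply Limits.prod.hom_ext
    · simp only [Category.assoc, prod.map_fst, prod.lift_fst_assoc, prod.lift_fst, Category.comp_id]
    · simp only [Category.assoc, prod.map_snd, prod.lift_snd_assoc]
      exact s.condition
  · intro s m hm1 hm2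
    apply Limits.prod.hom_ext
    · rw [prod.lift_fst, ← hm2, Category.assoc, prod.map_fst, Category.comp_id]
    · rw [prod.lift_snd]
      exact hm1

end abstract

end Groth.Agent.H50
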