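import Groth.Agent.H52.LocPChart
import Groth.Agent.H52.Topology
import Groth.Agent.H52.EtLocalInst

set_option autoImplicit false
universe u
open CategoryTheory CategoryTheory.Limits AlgebraicGeometry
open AlgSp

namespace Groth.Agent.H50

open Groth.Agent.H52

variable {S : Scheme.{u}}

/-- Chart comparison at a point: if one chart diagram of `f` has its top arrow in `P`, then for any other chart
diagram and any point of its source chart lying over a common point of `|X|`, the top arrow has `P` after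
precomposing with an etale map hitting the point. -/
theorem exists_etale_nbhd_of_chart {P : MorphismProperty Scheme.{u}} (hP : EtLocal P) {X Y : Sp S}
    (f : X ⟶ Y) {U V : Over S} (a : (yon S).obj U ⟶ X) (b : (yon S).obj V ⟶ Y) (h : U ⟶ V)
    (ha : RepWith @Etale a) (hb : RepWith @Etale b)
    (comm : a ≫ f = (yon S).map h ≫ b) (hh : P h.left)
    {U' V' : Over S} (a' : (yon S).obj U' ⟶ X) (b' : (yon S).obj V' ⟶ Y) (h' : U' ⟶ V')
    (ha' : RepWith @Etale a') (hb' : RepWith @Etale b')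
    (comm' : a' ≫ f = (yon S).map h' ≫ b') (u : ↥U.left) (u' : ↥U'.left)
    (hu : Points.ofPt a u = Points.ofPt a' u') :
    ∃ (Q : Scheme.{u}) (q : Q ⟶ U'.left), Etale q ∧ u' ∈ Set.range q ∧ P (q ≫ h'.left) := by
  have sqW := ha.rep.isPullback' a'
  have hw₂e : Etale (ha.rep.snd a').left := ha.property_snd a'
  have hw₁e : Etale (ha.rep.fst' a').left := ha'.2 a ((yon S).map (ha.rep.snd a')) _ sqW.flip
  have sqV := hb.rep.isPullback' b'
  have hv₂e : Etale (hb.rep.snd b').left := hb.property_snd b'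
  have hv₁e : Etale (hb.rep.fst' b').left := hb'.2 b ((yon S).map (hb.rep.snd b')) _ sqV.flip
  have hcomp : (yon S).map (ha.rep.fst' a' ≫ h) ≫ b = (yon S).map (ha.rep.snd a' ≫ h') ≫ b' := by
    rw [Functor.map_comp, Functor.map_comp, Category.assoc, Category.assoc, ← comm, ← comm',
      ← Category.assoc, ← Category.assoc, sqW.w]
  obtain ⟨k, hk⟩ := (yon S).map_surjective (sqV.lift _ _ hcomp)
  have hk₁ : k ≫ hb.rep.fst' b' = ha.rep.fst' a' ≫ h := by
    apply (yon S).map_injective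
    rw [Functor.map_comp, hk, sqV.lift_fst]
  have hk₂ : k ≫ hb.rep.snd b' = ha.rep.snd a' ≫ h' := by
    apply (yon S).map_injective
    rw [Functor.map_comp, hk, sqV.lift_snd]
  have h1 : P ((ha.rep.fst' a').left ≫ h.left) := hP.precomp _ _ hw₁e hh
  have h2 : P (k.left ≫ (hb.rep.fst' b').left) := by
    rw [← Over.comp_left, hk₁, Over.comp_left]
    exact h1
  have h3 : P k.left := hP.of_postcomp _ _ hv₁e h2
  have h4 : P (k.left ≫ (hb.rep.snd b').left) := hP.postcomp _ _ hv₂e h3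
  have h5 : P ((ha.rep.snd a').left ≫ h'.left) := by
    rw [← Over.comp_left, ← hk₂, Over.comp_left]
    exact h4
  obtain ⟨w, -, hw2⟩ := exists_of_ofPt_eq_ofPt sqW u u' hu
  exact ⟨_, (ha.rep.snd a').left, hw₂e, ⟨w, hw2⟩, h5⟩

/-- Variant of `exists_etale_nbhd_of_chart` where the first chart diagram has `P` only on an open neighbourhood
of the chosen point. -/
theorem exists_etale_nbhd_of_chart_nbhd {P : MorphismProperty Scheme.{u}} (hP : EtLocal P) {X Y : Sp S}
    (f : X ⟶ Y) {U V : Over S} (a : (yon S).obj U ⟶ X) (b : (yon S).obj V ⟶ Y) (h : U ⟶ V)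
    (ha : RepWith @Etale a) (hb : RepWith @Etale b)
    (comm : a ≫ f = (yon S).map h ≫ b) (W : U.left.Opens) (hh : P (W.ι ≫ h.left))
    {U' V' : Over S} (a' : (yon S).obj U' ⟶ X) (b' : (yon S).obj V' ⟶ Y) (h' : U' ⟶ V')
    (ha' : RepWith @Etale a') (hb' : RepWith @Etale b')
    (comm' : a' ≫ f = (yon S).map h' ≫ b') (u : ↥U.left) (huW : u ∈ W) (u' : ↥U'.left)
    (hu : Points.ofPt a u = Points.ofPt a' u') :
    ∃ (Q : Scheme.{u}) (q : Q ⟶ U'.left), Etale q ∧ u' ∈ Set.range q ∧ P (q ≫ h'.left) := by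
  let U₁ : Over S := Over.mk (W.ι ≫ U.hom)
  let ι' : U₁ ⟶ U := Over.homMk W.ι rfl
  have hι : RepWith @Etale ((yon S).map ι') :=
    (repWith_yon_map_iff _ _).2 (inferInstanceAs (Etale W.ι))
  have := AlgSp.repWith_isMultiplicative (S := S) @Etale
  have ha₁ : RepWith @Etale ((yon S).map ι' ≫ a) := (RepWith @Etale).comp_mem _ _ hι ha
  refine exists_etale_nbhd_of_chart hP f ((yon S).map ι' ≫ a) b (ι' ≫ h) ha₁ hb ?_ hh a' b' h' ha' hb'
    comm' (⟨u, huW⟩ : W) u' ?_
  · rw [Category.assoc, comm, Functor.map_comp, Category.assoc]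
  · rw [ofPt_yon_map_comp]
    exact hu

/-- The restriction of a chart to an open subscheme is a chart. -/
theorem repWith_etale_opens_ι_comp {X : Sp S} {U : Over S} (a : (yon S).obj U ⟶ X)
    (ha : RepWith @Etale a) (W : U.left.Opens) :
    RepWith @Etale ((yon S).map (Over.homMk (U := Over.mk (W.ι ≫ U.hom)) (V := U) W.ι rfl) ≫ a) := by
  have hι : RepWith @Etale ((yon S).map (Over.homMk (U := Over.mk (W.ι ≫ U.hom)) (V := U) W.ι rfl)) :=
    (repWith_yon_map_iff _ _).2 (inferInstanceAs (Etale W.ι))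
  have := AlgSp.repWith_isMultiplicative (S := S) @Etale
  exact (RepWith @Etale).comp_mem _ _ hι ha

/-- `LocP P` from the pointwise neighbourhood form. -/
theorem locP_of_forall_hasAtMor_nbhd {P : MorphismProperty Scheme.{u}} (hP : EtLocal P) {X Y : Sp S}
    (f : X ⟶ Y)
    (H : ∀ x : Points X, HasAtMor (fun U _ h u => ∃ W : U.Opens, u ∈ W ∧ P (W.ι ≫ h)) f x) :
    LocP P f := by
  intro U₀ V₀ a₀ b₀ h₀ ha₀ hb₀ comm₀
  have key : ∀ u₀ : ↥U₀.left, ∃ (Q : Scheme.{u}) (q : Q ⟶ U₀.left), Etale q ∧ u₀ ∈ Set.range q ∧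
      P (q ≫ h₀.left) := by
    intro u₀
    obtain ⟨U, V, a, b, h, u, ha, hb, comm, hu, W, huW, hW⟩ := H (Points.ofPt a₀ u₀)
    exact exists_etale_nbhd_of_chart_nbhd hP f a b h ha hb comm W hW a₀ b₀ h₀ ha₀ hb₀ comm₀ u huW u₀ hu
  choose Q q hq hr hPq using key
  exact hP.src (ι := ↥U₀.left) q h₀.left hq (fun y => ⟨y, hr y⟩) hPq

end Groth.Agent.H50
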