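import Groth.Prelude.Def_AlgSp4

/-! Isomorphisms are representable with every property containing identities (helper50). -/

set_option autoImplicit false
universe u
open CategoryTheory CategoryTheory.Limits AlgebraicGeometry
open AlgSp

namespace Groth.Agent.H50

variable {S : Scheme.{u}}

theorem repWith_of_isIso (P : MorphismProperty Scheme.{u}) [P.ContainsIdentities] [P.RespectsIso]
    {F G : Sp S} (f : F ⟶ G) [IsIso f] : RepWith P f := by
  refine MorphismProperty.relative.of_exists (fun T g => ⟨T, g ≫ inv f, 𝟙 T, ?_, ?_⟩)
  · have : IsIso ((yon S).map (𝟙 T)) := inferInstance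
    exact IsPullback.of_vert_isIso ⟨by rw [Category.assoc, IsIso.inv_hom_id, Category.comp_id,
      CategoryTheory.Functor.map_id, Category.id_comp]⟩
  · show P (𝟙 T.left)
    exact P.id_mem _

end Groth.Agent.H50
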