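import Groth.Agent.H50.Kernel

/-!
# helper50: monomorphisms of sheaves are injective on sections and on points
-/

set_option autoImplicit false
universe u
open CategoryTheory CategoryTheory.Limits AlgebraicGeometry Opposite

namespace Groth.Agent.H50

open AlgSp

variable {S : Scheme.{u}}

theorem app_injective_of_mono {F G : Sp S} (j : F ⟶ G) [Mono j] (T : Over S)
    (ξ ξ' : F.obj.obj (op T)) (h : j.hom.app (op T) ξ = j.hom.app (op T) ξ') : ξ = ξ' := by
  have h1 : yonEquiv.symm ξ ≫ j = yonEquiv.symm ξ' ≫ j := by
    apply yonEquiv.injective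
    rw [GrothendieckTopology.uliftYonedaEquiv_comp, GrothendieckTopology.uliftYonedaEquiv_comp,
      Equiv.apply_symm_apply, Equiv.apply_symm_apply]
    exact h
  exact yonEquiv.symm.injective ((cancel_mono j).1 h1)

/-- A monomorphism of sheaves is injective on points. -/
theorem injective_map_of_mono {F G : Sp S} (j : F ⟶ G) [Mono j] :
    Function.Injective (Points.map j) := by
  intro x y h
  induction x using Points.ind with
  | h p =>
  induction y using Points.ind with
  | h q =>
  rw [Points.map_mk, Points.map_mk, Points.mk_eq_mk_iff] at h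
  obtain ⟨Ω, _, w, a, b, hab⟩ := h
  refine Points.sound ⟨Ω, inferInstance, w, a, b, ?_⟩
  change G.obj.map a.op (j.hom.app _ p.val) = G.obj.map b.op (j.hom.app _ q.val) at hab
  rw [← NatTrans.naturality_apply, ← NatTrans.naturality_apply] at hab
  exact app_injective_of_mono j _ _ _ hab

end Groth.Agent.H50
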