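import Groth.Agent.H50.Quot
import Mathlib.CategoryTheory.Sites.ConcreteSheafification
import Mathlib.CategoryTheory.Sites.LocallyInjective
import Mathlib.CategoryTheory.Sites.LocallySurjective
import Mathlib.CategoryTheory.Sites.LeftExact

/-!
# helper50: local tools for fppf sheaves and the kernel pair of a quotient sheaf

* `hom_ext_of_local`, `exists_local_lift`, `epi_of_local_lift`: morphisms `h_T ⟶ F` can be compared
  locally; epimorphisms of sheaves are exactly the locally liftable maps;
* `exists_local_rel`: for a pre-equivalence relation `s, t : R ⟶ U`, two points of `U` with the same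
  image in `U/R` are locally related by a point of `R`;
* `isPullback_of_isEqvRelSp`: for an equivalence relation, `R = U ×_{U/R} U`.
-/

set_option autoImplicit false
universe u
open CategoryTheory CategoryTheory.Limits AlgebraicGeometry Opposite

namespace Groth.Agent.H50

open AlgSp

variable {S : Scheme.{u}}

section LocalTools

/-- The Yoneda bijection for `h_T`, with universes pinned. -/
noncomputable abbrev yonEquiv {F : Sp S} {T : Over S} :
    ((yon S).obj T ⟶ F) ≃ F.obj.obj (op T) :=
  (J S).uliftYonedaEquiv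

/-- Two morphisms `h_T ⟶ F` to a sheaf which agree on a covering sieve are equal. -/
theorem hom_ext_of_local {F : Sp S} {T : Over S} (a b : (yon S).obj T ⟶ F) {Sg : Sieve T}
    (hSg : Sg ∈ J S T)
    (h : ∀ ⦃T' : Over S⦄ (f : T' ⟶ T), Sg f → (yon S).map f ≫ a = (yon S).map f ≫ b) : a = b := by
  apply (J S).uliftYonedaEquiv.injective
  have hF : Presieve.IsSheaf (J S) F.obj := (isSheaf_iff_isSheaf_of_type _ _).1 F.property
  apply (hF Sg hSg).isSeparatedFor.ext
  intro T' f hf
  rw [GrothendieckTopology.uliftYonedaEquiv_naturality,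
    GrothendieckTopology.uliftYonedaEquiv_naturality, h f hf]

/-- Points of the target of an epimorphism of sheaves lift locally. -/
theorem exists_local_lift {F G : Sp S} (q : F ⟶ G) [Epi q] {T : Over S}
    (y : (yon S).obj T ⟶ G) :
    ∃ Sg ∈ J S T, ∀ ⦃T' : Over S⦄ (f : T' ⟶ T), Sg f →
      ∃ x : (yon S).obj T' ⟶ F, x ≫ q = (yon S).map f ≫ y := by
  have hls : Presheaf.IsLocallySurjective (J S) q.hom :=
    (Sheaf.isLocallySurjective_iff_epi q).2 inferInstance
  refine ⟨Presheaf.imageSieve q.hom ((J S).uliftYonedaEquiv y),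
    Presheaf.imageSieve_mem (J S) q.hom _, ?_⟩
  rintro T' f ⟨x, hx⟩
  refine ⟨(J S).uliftYonedaEquiv.symm x, ?_⟩
  apply (J S).uliftYonedaEquiv.injective
  rw [GrothendieckTopology.uliftYonedaEquiv_comp, Equiv.apply_symm_apply,
    ← GrothendieckTopology.uliftYonedaEquiv_naturality]
  exact hx

/-- A morphism of sheaves along which points lift locally is an epimorphism. -/
theorem epi_of_local_lift {F G : Sp S} (q : F ⟶ G)
    (h : ∀ (T : Over S) (y : (yon S).obj T ⟶ G), ∃ Sg ∈ J S T, ∀ ⦃T' : Over S⦄ (f : T' ⟶ T),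
      Sg f → ∃ x : (yon S).obj T' ⟶ F, x ≫ q = (yon S).map f ≫ y) : Epi q := by
  have hls : Presheaf.IsLocallySurjective (J S) q.hom := by
    constructor
    intro T y₀
    obtain ⟨Sg, hSg, hlift⟩ := h T ((J S).uliftYonedaEquiv.symm y₀)
    refine (J S).superset_covering ?_ hSg
    intro T' f hf
    obtain ⟨x, hx⟩ := hlift f hf
    refine ⟨(J S).uliftYonedaEquiv x, ?_⟩
    rw [← GrothendieckTopology.uliftYonedaEquiv_comp, hx,
      ← GrothendieckTopology.uliftYonedaEquiv_naturality, Equiv.apply_symm_apply]
  exact Sheaf.epi_of_isLocallySurjective' q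

end LocalTools

section Quotient

variable {R U : Sp S} (s t : R ⟶ U)

/-- The relation on sections of `U` induced by `s, t : R ⟶ U`. -/
def secRel (T : (Over S)ᵒᵖ) (a b : U.obj.obj T) : Prop :=
  ∃ r : R.obj.obj T, t.hom.app T r = a ∧ s.hom.app T r = b

theorem secRel_map {T T' : (Over S)ᵒᵖ} (f : T ⟶ T') {a b : U.obj.obj T}
    (h : secRel s t T a b) : secRel s t T' (U.obj.map f a) (U.obj.map f b) := by
  obtain ⟨r, rfl, rfl⟩ := h
  exact ⟨R.obj.map f r, NatTrans.naturality_apply t.hom f r, NatTrans.naturality_apply s.hom f r⟩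

theorem secRel_iff {T : Over S} (a b : (yon S).obj T ⟶ U) :
    secRel s t (op T) ((J S).uliftYonedaEquiv a) ((J S).uliftYonedaEquiv b) ↔
      ∃ r : (yon S).obj T ⟶ R, r ≫ t = a ∧ r ≫ s = b := by
  constructor
  · rintro ⟨r, h1, h2⟩
    refine ⟨(J S).uliftYonedaEquiv.symm r, ?_, ?_⟩
    · apply (J S).uliftYonedaEquiv.injective
      rw [GrothendieckTopology.uliftYonedaEquiv_comp, Equiv.apply_symm_apply, h1]
    · apply (J S).uliftYonedaEquiv.injective
      rw [GrothendieckTopology.uliftYonedaEquiv_comp, Equiv.apply_symm_apply, h2]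
  · rintro ⟨r, rfl, rfl⟩
    exact ⟨(J S).uliftYonedaEquiv r, (GrothendieckTopology.uliftYonedaEquiv_comp _ r t).symm,
      (GrothendieckTopology.uliftYonedaEquiv_comp _ r s).symm⟩

theorem equivalence_secRel (hpre : IsPreEqvRelSp s t) (T : Over S) :
    _root_.Equivalence (secRel s t (op T)) := by
  have h := hpre T
  refine ⟨fun a => ?_, fun {a b} hab => ?_, fun {a b c} hab hbc => ?_⟩
  · obtain ⟨a', rfl⟩ := (yonEquiv (S := S)).surjective a
    exact (secRel_iff s t a' a').2 (h.refl a')
  · obtain ⟨a', rfl⟩ := (yonEquiv (S := S)).surjective a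
    obtain ⟨b', rfl⟩ := (yonEquiv (S := S)).surjective b
    exact (secRel_iff s t b' a').2 (h.symm ((secRel_iff s t a' b').1 hab))
  · obtain ⟨a', rfl⟩ := (yonEquiv (S := S)).surjective a
    obtain ⟨b', rfl⟩ := (yonEquiv (S := S)).surjective b
    obtain ⟨c', rfl⟩ := (yonEquiv (S := S)).surjective c
    exact (secRel_iff s t a' c').2
      (h.trans ((secRel_iff s t a' b').1 hab) ((secRel_iff s t b' c').1 hbc))

/-- The presheaf quotient `T ↦ U(T)/R(T)`. -/
def quotPre : (Over S)ᵒᵖ ⥤ Type (u + 1) where
  obj T := Quot (secRel s t T)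
  map {T T'} f := TypeCat.ofHom (Quot.map (U.obj.map f) (fun _ _ h => secRel_map s t f h))
  map_id T := by
    apply ConcreteCategory.hom_ext
    intro x
    induction x using Quot.ind with
    | mk a =>
      change Quot.mk _ (U.obj.map (𝟙 T) a) = Quot.mk _ a
      rw [Functor.map_id_apply]
  map_comp {T T' T''} f g := by
    apply ConcreteCategory.hom_ext
    intro x
    induction x using Quot.ind with
    | mk a =>
      change Quot.mk _ (U.obj.map (f ≫ g) a) = Quot.mk _ (U.obj.map g (U.obj.map f a))
      rw [Functor.map_comp_apply]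

/-- The projection to the presheaf quotient. -/
def quotPreπ : U.obj ⟶ quotPre s t where
  app T := TypeCat.ofHom (Quot.mk _)
  naturality T T' f := by
    apply ConcreteCategory.hom_ext
    intro a
    rfl

theorem quotPreπ_condition : s.hom ≫ quotPreπ s t = t.hom ≫ quotPreπ s t := by
  ext T r
  change Quot.mk _ (s.hom.app T r) = Quot.mk _ (t.hom.app T r)
  exact (Quot.sound ⟨r, rfl, rfl⟩).symm

/-- The sheafification of the presheaf quotient. -/
noncomputable def quotShf : Sp S :=
  ⟨(J S).sheafify (quotPre s t), (J S).sheafify_isSheaf _⟩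

/-- The projection to the sheafified quotient. -/
noncomputable def quotShfπ : U ⟶ quotShf s t :=
  ObjectProperty.homMk (quotPreπ s t ≫ (J S).toSheafify (quotPre s t))

theorem quotShf_condition : s ≫ quotShfπ s t = t ≫ quotShfπ s t := by
  apply (sheafToPresheaf (J S) (Type (u + 1))).map_injective
  change s.hom ≫ (quotPreπ s t ≫ (J S).toSheafify (quotPre s t)) =
    t.hom ≫ (quotPreπ s t ≫ (J S).toSheafify (quotPre s t))
  rw [← Category.assoc, ← Category.assoc, quotPreπ_condition]

/-- Two sections of `U` with the same image in `U/R` are locally related (sections form). -/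
theorem exists_local_secRel (hpre : IsPreEqvRelSp s t) {T : Over S} (a b : U.obj.obj (op T))
    (h : (quotSpπ s t).hom.app (op T) a = (quotSpπ s t).hom.app (op T) b) :
    ∃ Sg ∈ J S T, ∀ ⦃T' : Over S⦄ (f : T' ⟶ T), Sg f →
      secRel s t (op T') (U.obj.map f.op a) (U.obj.map f.op b) := by
  have hd : quotSpπ s t ≫ quotSpDesc (quotShfπ s t) (quotShf_condition s t) = quotShfπ s t :=
    quotSpπ_desc _ _ _ _
  have h' : (quotShfπ s t).hom.app (op T) a = (quotShfπ s t).hom.app (op T) b := by
    rw [← hd]
    change (quotSpDesc (quotShfπ s t) (quotShf_condition s t)).hom.app (op T)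
        ((quotSpπ s t).hom.app (op T) a) =
      (quotSpDesc (quotShfπ s t) (quotShf_condition s t)).hom.app (op T)
        ((quotSpπ s t).hom.app (op T) b)
    rw [h]
  have h'' : ((J S).toSheafify (quotPre s t)).app (op T) (Quot.mk _ a) =
      ((J S).toSheafify (quotPre s t)).app (op T) (Quot.mk _ b) := h'
  refine ⟨_, Presheaf.equalizerSieve_mem (J S) ((J S).toSheafify (quotPre s t)) _ _ h'', ?_⟩
  intro T' f hf
  have e : Quot.mk (secRel s t (op T')) (U.obj.map f.op a) = Quot.mk _ (U.obj.map f.op b) := hf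
  exact (equivalence_secRel s t hpre T').eqvGen_iff.1 (Quot.eqvGen_exact e)

/-- Two points of `U` with the same image in `U/R` are locally related by a point of `R`. -/
theorem exists_local_rel (hpre : IsPreEqvRelSp s t) {T : Over S} (a b : (yon S).obj T ⟶ U)
    (h : a ≫ quotSpπ s t = b ≫ quotSpπ s t) :
    ∃ Sg ∈ J S T, ∀ ⦃T' : Over S⦄ (f : T' ⟶ T), Sg f →
      ∃ ρ : (yon S).obj T' ⟶ R, ρ ≫ t = (yon S).map f ≫ a ∧ ρ ≫ s = (yon S).map f ≫ b := by
  have h0 : (quotSpπ s t).hom.app (op T) ((J S).uliftYonedaEquiv a) =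
      (quotSpπ s t).hom.app (op T) ((J S).uliftYonedaEquiv b) := by
    rw [← GrothendieckTopology.uliftYonedaEquiv_comp, ← GrothendieckTopology.uliftYonedaEquiv_comp,
      h]
  obtain ⟨Sg, hSg, hrel⟩ := exists_local_secRel s t hpre _ _ h0
  refine ⟨Sg, hSg, fun T' f hf => ?_⟩
  have := hrel f hf
  rw [GrothendieckTopology.uliftYonedaEquiv_naturality,
    GrothendieckTopology.uliftYonedaEquiv_naturality] at this
  exact (secRel_iff s t _ _).1 this

/-- For an equivalence relation `s, t : R ⟶ U` of sheaves, `R` is the fibre product of `U` with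
itself over the quotient sheaf `U/R`. -/
theorem isPullback_of_isEqvRelSp (hj : IsEqvRelSp s t) :
    IsPullback t s (quotSpπ s t) (quotSpπ s t) := by
  have w : t ≫ quotSpπ s t = s ≫ quotSpπ s t := (quotSp_condition s t).symm
  have hpre : IsPreEqvRelSp s t := hj.equivalence
  have hmono : Mono (pullback.lift t s w) := by
    apply mono_of_forall_yon
    intro T a b hab
    apply hj.injective T a b
    · have := hab =≫ pullback.fst _ _
      simpa only [Category.assoc, pullback.lift_fst] using this
    · have := hab =≫ pullback.snd _ _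
      simpa only [Category.assoc, pullback.lift_snd] using this
  have hepi : Epi (pullback.lift t s w) := by
    apply epi_of_local_lift
    intro T y
    have hy : (y ≫ pullback.fst _ _) ≫ quotSpπ s t = (y ≫ pullback.snd _ _) ≫ quotSpπ s t := by
      rw [Category.assoc, Category.assoc, pullback.condition]
    obtain ⟨Sg, hSg, hrel⟩ := exists_local_rel s t hpre _ _ hy
    refine ⟨Sg, hSg, fun T' f hf => ?_⟩
    obtain ⟨ρ, h1, h2⟩ := hrel f hf
    refine ⟨ρ, ?_⟩
    apply pullback.hom_ext
    · rw [Category.assoc, pullback.lift_fst, h1, Category.assoc]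
    · rw [Category.assoc, pullback.lift_snd, h2, Category.assoc]
  have hiso : IsIso (pullback.lift t s w) := isIso_of_mono_of_epi _
  exact IsPullback.of_iso_pullback ⟨w⟩ (asIso (pullback.lift t s w)) (pullback.lift_fst _ _ _)
    (pullback.lift_snd _ _ _)

end Quotient

end Groth.Agent.H50
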