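import Groth.Agent.H49.IdealDescent
import Groth.Agent.H54.ReducedKer
import Groth.Agent.H51.Reduced
import Mathlib.AlgebraicGeometry.IdealSheaf.Functorial
import Mathlib.AlgebraicGeometry.Sites.Fpqc
import Mathlib.AlgebraicGeometry.Morphisms.Etale

/-!
# helper50: scheme-level lemmas on ideal sheaves used for closed subspaces of sheaves

* `comap_eq_bot_iff_le_ker`, `le_ker_iff_factors`: factoring through a closed subscheme.
* `eq_of_comap_eq_of_fppf`, `exists_comap_eq_of_fppf`: fppf descent of ideal sheaves along one morphism.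
* `comap_vanishingIdeal_of_etale`: the pullback of a reduced closed subscheme along an etale morphism is the reduced
  closed subscheme on the preimage.
-/

set_option autoImplicit false
universe u
open CategoryTheory CategoryTheory.Limits AlgebraicGeometry

namespace Groth.Agent.H50

theorem comap_eq_bot_iff_le_ker {X Y : Scheme.{u}} (I : Y.IdealSheafData) (g : X ⟶ Y) :
    I.comap g = ⊥ ↔ I ≤ g.ker := by
  rw [← Scheme.IdealSheafData.map_bot, Scheme.IdealSheafData.le_map_iff_comap_le, le_bot_iff]

theorem le_ker_iff_factors {X Y : Scheme.{u}} (I : Y.IdealSheafData) (g : X ⟶ Y) :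
    I ≤ g.ker ↔ ∃ v : X ⟶ I.subscheme, v ≫ I.subschemeι = g := by
  constructor
  · intro h
    exact ⟨IsClosedImmersion.lift I.subschemeι g
      (by rw [Scheme.IdealSheafData.ker_subschemeι]; exact h), IsClosedImmersion.lift_fac _ _ _⟩
  · rintro ⟨v, rfl⟩
    have := Scheme.Hom.le_ker_comp v I.subschemeι
    rwa [Scheme.IdealSheafData.ker_subschemeι] at this

theorem comap_subschemeι_eq_bot {Y : Scheme.{u}} (I : Y.IdealSheafData) :
    I.comap I.subschemeι = ⊥ := by
  rw [comap_eq_bot_iff_le_ker, Scheme.IdealSheafData.ker_subschemeι]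

theorem le_ker_comp_of_le_ker {X Y Z : Scheme.{u}} (I : Z.IdealSheafData) (f : X ⟶ Y) (g : Y ⟶ Z)
    (h : I ≤ g.ker) : I ≤ (f ≫ g).ker :=
  h.trans (Scheme.Hom.le_ker_comp f g)

theorem mem_fpqcPrecoverage_pUnit {X Y : Scheme.{u}} (p : X ⟶ Y) [Flat p] [Surjective p]
    [LocallyOfFinitePresentation p] :
    Presieve.ofArrows (fun _ : PUnit.{u + 1} => X) (fun _ => p) ∈ Scheme.fpqcPrecoverage Y := by
  rw [Presieve.ofArrows_pUnit]
  exact Scheme.fppfPrecoverage_le_fpqcPrecoverage Y p.singleton_mem_fppfPrecoverage

/-- Ideal sheaves with the same pullback along an fppf covering morphism are equal. -/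
theorem eq_of_comap_eq_of_fppf {X Y : Scheme.{u}} (p : X ⟶ Y) [Flat p] [Surjective p]
    [LocallyOfFinitePresentation p] (K K' : Y.IdealSheafData) (h : K.comap p = K'.comap p) :
    K = K' := by
  obtain ⟨hfin, hfl⟩ := H49.IdealDescent.finCov_of_fpqc (mem_fpqcPrecoverage_pUnit p)
  have hcompat : H49.IdealDescent.Compat (fun _ : PUnit.{u + 1} => p) (fun _ => K.comap p) := by
    intro i j
    rw [← Scheme.IdealSheafData.comap_comp, ← Scheme.IdealSheafData.comap_comp, pullback.condition]
  obtain ⟨J, -, hJ⟩ := H49.IdealDescent.existsUnique_comap_eq hfin hfl hcompat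
  rw [hJ K (fun _ => rfl), hJ K' (fun _ => h.symm)]

/-- fppf descent of ideal sheaves along one covering morphism. -/
theorem exists_comap_eq_of_fppf {X Y : Scheme.{u}} (p : X ⟶ Y) [Flat p] [Surjective p]
    [LocallyOfFinitePresentation p] (I' : X.IdealSheafData)
    (h : I'.comap (pullback.fst p p) = I'.comap (pullback.snd p p)) :
    ∃ J : Y.IdealSheafData, J.comap p = I' := by
  obtain ⟨hfin, hfl⟩ := H49.IdealDescent.finCov_of_fpqc (mem_fpqcPrecoverage_pUnit p)
  have hcompat : H49.IdealDescent.Compat (fun _ : PUnit.{u + 1} => p) (fun _ => I') := by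
    intro i j
    exact h
  obtain ⟨J, hJ, -⟩ := H49.IdealDescent.existsUnique_comap_eq hfin hfl hcompat
  exact ⟨J, hJ PUnit.unit⟩

instance isReduced_vanishingIdeal_subscheme {X : Scheme.{u}} (C : TopologicalSpace.Closeds X) :
    IsReduced (Scheme.IdealSheafData.vanishingIdeal C).subscheme := by
  have : ∀ U, IsReduced ((Scheme.IdealSheafData.vanishingIdeal C).subschemeCover.openCover.X U) := by
    intro U
    show IsReduced (Spec (CommRingCat.of
      (Γ(X, U.1) ⧸ (Scheme.IdealSheafData.vanishingIdeal C).ideal U)))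
    have hrad : ((Scheme.IdealSheafData.vanishingIdeal C).ideal U).IsRadical := by
      rw [Scheme.IdealSheafData.vanishingIdeal_ideal]
      exact PrimeSpectrum.isRadical_vanishingIdeal _
    have : _root_.IsReduced (Γ(X, U.1) ⧸ (Scheme.IdealSheafData.vanishingIdeal C).ideal U) :=
      (Ideal.isRadical_iff_quotient_reduced _).mp hrad
    infer_instance
  exact IsReduced.of_openCover _ (Scheme.IdealSheafData.vanishingIdeal C).subschemeCover.openCover

/-- The pullback of the reduced induced structure along an etale morphism is the reduced induced structure on the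
preimage. -/
theorem comap_vanishingIdeal_of_etale {X Y : Scheme.{u}} (s : X ⟶ Y) [Etale s]
    (C : TopologicalSpace.Closeds Y) :
    (Scheme.IdealSheafData.vanishingIdeal C).comap s =
      Scheme.IdealSheafData.vanishingIdeal (C.preimage s.continuous) := by
  have hred : IsReduced (pullback s (Scheme.IdealSheafData.vanishingIdeal C).subschemeι) :=
    H51.isReduced_of_smooth (pullback.snd s (Scheme.IdealSheafData.vanishingIdeal C).subschemeι)
  rw [Scheme.IdealSheafData.comap, H54.ker_eq_vanishingIdeal]
  congr 1
  apply TopologicalSpace.Closeds.ext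
  show closure (Set.range (pullback.fst s _)) = s ⁻¹' (C : Set Y)
  rw [Scheme.Pullback.range_fst, Scheme.IdealSheafData.range_subschemeι]
  have hsupp : ((Scheme.IdealSheafData.vanishingIdeal C).support : Set Y) = C :=
    Scheme.IdealSheafData.coe_support_vanishingIdeal C
  rw [hsupp]
  exact (C.isClosed.preimage s.continuous).closure_eq

end Groth.Agent.H50
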