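import Groth.Agent.H50.Rep

set_option autoImplicit false
universe u
open CategoryTheory CategoryTheory.Limits AlgebraicGeometry Opposite

namespace Groth.Agent.H50

open AlgSp

variable {S : Scheme.{u}}

/-- Cancellation: if `b` has representable diagonal and `a ≫ b` is representable then `a` is
representable. -/
theorem representable_of_comp {F G H : Sp S} (a : F ⟶ G) (b : G ⟶ H)
    (hb : Representable (pullback.diagonal b)) (hab : Representable (a ≫ b)) :
    Representable a := by
  have : (Representable (S := S)).HasOfPostcompProperty (Representable (S := S)).diagonal :=
    MorphismProperty.hasOfPostcompProperty_iff_le_diagonal.2 le_rfl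
  exact MorphismProperty.of_postcomp (W := Representable (S := S))
    (W' := (Representable (S := S)).diagonal) a b hb hab

/-- The source of a representable morphism to an algebraic space is an algebraic space. -/
theorem isAlgSpace_of_representable {F X : Sp S} {f : F ⟶ X} (hf : Representable f)
    (hX : IsAlgSpace X) : IsAlgSpace F where
  diag := Functor.relativelyRepresentable.diag_of_map_from_obj (fun T g =>
    representable_of_comp g f (representable_diagonal hf) (hX.representable_from_yon (g ≫ f)))
  atlas := by
    obtain ⟨U, p, h1, h2⟩ := hX.atlas
    exact ⟨hf.pullback p, hf.fst p, repWith_fst_of_isPullback (hf.isPullback p) h1,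
      repWith_fst_of_isPullback (hf.isPullback p) h2⟩

/-- If the (absolute) diagonal of `Y` is representable, then the diagonal of every morphism out
of `Y` is representable. -/
theorem representable_diagonal_of_diag {Y Z : Sp S} (g : Y ⟶ Z)
    (hY : Representable (Limits.diag Y)) : Representable (pullback.diagonal g) := by
  have hmono : Mono (prod.lift (pullback.fst g g) (pullback.snd g g)) := by
    refine ⟨fun a b w => ?_⟩
    apply pullback.hom_ext
    · simpa only [Category.assoc, prod.lift_fst] using congrArg (fun m => m ≫ prod.fst) w
    · simpa only [Category.assoc, prod.lift_snd] using congrArg (fun m => m ≫ prod.snd) w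
  have heq : pullback.diagonal g ≫ prod.lift (pullback.fst g g) (pullback.snd g g) =
      Limits.diag Y := by
    apply prod.hom_ext <;> simp
  exact MorphismProperty.of_postcomp (W := Representable (S := S))
    (W' := MorphismProperty.monomorphisms _) _ _ hmono (heq ▸ hY)

/-- A fibre product of sheaves with representable diagonals has representable diagonal. -/
theorem representable_diag_pullback {X Y Z : Sp S} (f : X ⟶ Z) (g : Y ⟶ Z)
    (hX : Representable (Limits.diag X)) (hY : Representable (Limits.diag Y)) :
    Representable (Limits.diag (pullback f g)) := by
  apply Functor.relativelyRepresentable.diag_of_map_from_obj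
  intro T h
  have h1 : (Representable (S := S)).diagonal (pullback.fst f g) :=
    MorphismProperty.pullback_fst (P := (Representable (S := S)).diagonal) f g
      (representable_diagonal_of_diag g hY)
  exact representable_of_comp h (pullback.fst f g) h1
    (Functor.relativelyRepresentable.of_diag hX _)

/-- Fibre products of algebraic spaces (over a sheaf with representable diagonal, e.g. an
algebraic space) are algebraic spaces. -/
theorem isAlgSpace_pullback {X Y Z : Sp S} (f : X ⟶ Z) (g : Y ⟶ Z) (hX : IsAlgSpace X)
    (hY : IsAlgSpace Y) (hZ : Representable (Limits.diag Z)) : IsAlgSpace (pullback f g) where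
  diag := representable_diag_pullback f g hX.diag hY.diag
  atlas := by
    obtain ⟨U, p, hp1, hp2⟩ := hX.atlas
    obtain ⟨V, q, hq1, hq2⟩ := hY.atlas
    have hrep : Representable (p ≫ f) := Functor.relativelyRepresentable.of_diag hZ _
    have sq := hrep.isPullback (q ≫ g)
    refine ⟨hrep.pullback (q ≫ g),
      sq.isoPullback.hom ≫ pullback.map (p ≫ f) (q ≫ g) f g p q (𝟙 Z) (by simp) (by simp), ?_, ?_⟩
    · exact MorphismProperty.RespectsIso.precomp _ _ _
        (MorphismProperty.pullbackMap hp1 hq1 rfl rfl)
    · exact MorphismProperty.RespectsIso.precomp _ _ _
        (MorphismProperty.pullbackMap hp2 hq2 rfl rfl)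

end Groth.Agent.H50
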