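import Groth.Agent.H50.Kernel
import Groth.Agent.H50.Fppf
import Groth.Agent.H50.Fibre
import Groth.Agent.H52.Topology
import Groth.Agent.H52.Points
import Mathlib.CategoryTheory.Sites.Subsheaf

/-!
# helper50: open subspaces of a sheaf attached to open subsets of its space of points
-/

set_option autoImplicit false
universe u
open CategoryTheory CategoryTheory.Limits AlgebraicGeometry Opposite

namespace Groth.Agent.H50

open AlgSp Groth.Agent.H52

variable {S : Scheme.{u}}

theorem yon_map_comp_yonEquiv_symm {X : Sp S} {T T' : Over S} (f : T' ⟶ T) (ξ : X.obj.obj (op T)) :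
    (yon S).map f ≫ yonEquiv.symm ξ = yonEquiv.symm (X.obj.map f.op ξ) :=
  GrothendieckTopology.uliftYonedaEquiv_symm_naturality_left _ f X ξ

theorem ofPt_yonEquiv_symm_map {X : Sp S} {T T' : Over S} (f : T' ⟶ T) (ξ : X.obj.obj (op T))
    (t' : ↥T'.left) :
    Points.ofPt (yonEquiv.symm (X.obj.map f.op ξ)) t' = Points.ofPt (yonEquiv.symm ξ) (f.left t') := by
  rw [← ofPt_yon_map_comp, yon_map_comp_yonEquiv_symm]

/-- The subfunctor of `X` of sections all of whose points lie in `W`. -/
def openSubfunctor (X : Sp S) (W : Set (Points X)) : Subfunctor X.obj where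
  obj T := {ξ | ∀ t : ↥T.unop.left, Points.ofPt (yonEquiv.symm ξ) t ∈ W}
  map := by
    intro T T' i ξ hξ t'
    have h2 : Points.ofPt (yonEquiv.symm (X.obj.map i ξ)) t' =
        Points.ofPt (yonEquiv.symm ξ) (i.unop.left t') :=
      ofPt_yonEquiv_symm_map i.unop ξ t'
    show Points.ofPt (yonEquiv.symm (X.obj.map i ξ)) t' ∈ W
    rw [h2]
    exact hξ _

theorem mem_openSubfunctor_iff (X : Sp S) (W : Set (Points X)) {T : Over S} (ξ : X.obj.obj (op T)) :
    ξ ∈ (openSubfunctor X W).obj (op T) ↔ ∀ t : ↥T.left, Points.ofPt (yonEquiv.symm ξ) t ∈ W :=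
  Iff.rfl

theorem isSheaf_openSubfunctor (X : Sp S) (W : Set (Points X)) :
    Presheaf.IsSheaf (J S) (openSubfunctor X W).toFunctor := by
  rw [isSheaf_iff_isSheaf_of_type]
  have hX : Presieve.IsSheaf (J S) X.obj := (isSheaf_iff_isSheaf_of_type _ _).1 X.property
  rw [Subfunctor.isSheaf_iff _ hX]
  intro T ξ hR
  induction T using Opposite.rec with
  | op T =>
  intro t
  obtain ⟨T', g, hg, -, -, t', ht'⟩ := exists_fppf_of_mem_J hR t
  have h2 : Points.ofPt (yonEquiv.symm (X.obj.map g.op ξ)) t' =
      Points.ofPt (yonEquiv.symm ξ) (g.left t') := ofPt_yonEquiv_symm_map g ξ t'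
  rw [← ht', ← h2]
  exact hg t'

/-- The subsheaf of `X` attached to a set of points. -/
noncomputable def openSub (X : Sp S) (W : Set (Points X)) : Sp S :=
  ⟨(openSubfunctor X W).toFunctor, isSheaf_openSubfunctor X W⟩

/-- The inclusion of the subsheaf attached to a set of points. -/
noncomputable def openSubι (X : Sp S) (W : Set (Points X)) : openSub X W ⟶ X :=
  ⟨(openSubfunctor X W).ι⟩

theorem yonEquiv_comp_openSubι (X : Sp S) (W : Set (Points X)) {T : Over S}
    (g' : (yon S).obj T ⟶ openSub X W) :
    yonEquiv (g' ≫ openSubι X W) = (yonEquiv g' : (openSubfunctor X W).obj (op T)).1 := by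
  rw [GrothendieckTopology.uliftYonedaEquiv_comp]
  rfl

instance mono_openSubι (X : Sp S) (W : Set (Points X)) : Mono (openSubι X W) := by
  apply mono_of_forall_yon
  intro T a b h
  apply yonEquiv.injective
  apply Subtype.ext
  have := congrArg yonEquiv h
  rw [yonEquiv_comp_openSubι, yonEquiv_comp_openSubι] at this
  exact this

/-- A morphism from a scheme factors through the subsheaf attached to `W` exactly when all its points lie in `W`. -/
theorem factors_openSubι_iff (X : Sp S) (W : Set (Points X)) {T : Over S} (g : (yon S).obj T ⟶ X) :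
    (∃ g' : (yon S).obj T ⟶ openSub X W, g' ≫ openSubι X W = g) ↔
      ∀ t : ↥T.left, Points.ofPt g t ∈ W := by
  constructor
  · rintro ⟨g', rfl⟩ t
    have h := (yonEquiv g' : (openSubfunctor X W).obj (op T)).2 t
    rw [← yonEquiv_comp_openSubι, Equiv.symm_apply_apply] at h
    exact h
  · intro h
    have hmem : yonEquiv g ∈ (openSubfunctor X W).obj (op T) := by
      intro t
      rw [Equiv.symm_apply_apply]
      exact h t
    refine ⟨yonEquiv.symm (⟨yonEquiv g, hmem⟩ : (openSubfunctor X W).obj (op T)), ?_⟩
    apply yonEquiv.injective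
    rw [yonEquiv_comp_openSubι, Equiv.apply_symm_apply]

theorem ofPt_comp_openSubι_mem (X : Sp S) (W : Set (Points X)) {T : Over S}
    (g' : (yon S).obj T ⟶ openSub X W) (t : ↥T.left) : Points.ofPt (g' ≫ openSubι X W) t ∈ W :=
  (factors_openSubι_iff X W _).1 ⟨g', rfl⟩ t

/-- The open subscheme of `T` of points mapping into the open set `W`. -/
def preimageOpens {X : Sp S} {W : Set (Points X)} (hW : IsOpen W) {T : Over S}
    (g : (yon S).obj T ⟶ X) : T.left.Opens :=
  ⟨Points.ofPt g ⁻¹' W, Points.isOpen_iff.1 hW T g⟩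

theorem mem_preimageOpens {X : Sp S} {W : Set (Points X)} (hW : IsOpen W) {T : Over S}
    (g : (yon S).obj T ⟶ X) (t : ↥T.left) : t ∈ preimageOpens hW g ↔ Points.ofPt g t ∈ W := Iff.rfl

/-- An open subscheme of a scheme over `S`, as a scheme over `S`. -/
abbrev opensOver (T : Over S) (V : T.left.Opens) : Over S := Over.mk (V.ι ≫ T.hom)

/-- The inclusion of an open subscheme of a scheme over `S`. -/
abbrev opensOverι (T : Over S) (V : T.left.Opens) : opensOver T V ⟶ T := Over.homMk V.ι rfl

/-- A morphism over `S` landing in an open subscheme factors through it. -/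
theorem exists_lift_opensOver {T T' : Over S} (V : T.left.Opens) (β : T' ⟶ T)
    (h : ∀ t : ↥T'.left, β.left t ∈ V) : ∃ δ : T' ⟶ opensOver T V, δ ≫ opensOverι T V = β := by
  have hsub : Set.range β.left ⊆ Set.range V.ι := by
    rw [Scheme.Opens.range_ι]
    rintro _ ⟨t, rfl⟩
    exact h t
  have hδl : IsOpenImmersion.lift V.ι β.left hsub ≫ V.ι = β.left := IsOpenImmersion.lift_fac _ _ _
  refine ⟨Over.homMk (IsOpenImmersion.lift V.ι β.left hsub) ?_, ?_⟩
  · change IsOpenImmersion.lift V.ι β.left hsub ≫ (V.ι ≫ T.hom) = T'.hom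
    rw [← Category.assoc, hδl, Over.w]
  · apply Over.OverMorphism.ext
    exact hδl

/-- The base change of the open subsheaf attached to an open set `W` along a morphism from a scheme is the open
subscheme of points mapping into `W`. -/
theorem exists_isPullback_openSubι {X : Sp S} {W : Set (Points X)} (hW : IsOpen W) {T : Over S}
    (g : (yon S).obj T ⟶ X) :
    ∃ gW : (yon S).obj (opensOver T (preimageOpens hW g)) ⟶ openSub X W,
      IsPullback gW ((yon S).map (opensOverι T (preimageOpens hW g))) (openSubι X W) g := by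
  have hfac : ∀ t : ↥(opensOver T (preimageOpens hW g)).left,
      Points.ofPt ((yon S).map (opensOverι T (preimageOpens hW g)) ≫ g) t ∈ W := by
    intro t
    rw [ofPt_yon_map_comp]
    exact t.2
  obtain ⟨gW, w⟩ := (factors_openSubι_iff X W _).2 hfac
  refine ⟨gW, ?_⟩
  have hml : Mono (opensOverι T (preimageOpens hW g)).left :=
    inferInstanceAs (Mono (preimageOpens hW g).ι)
  have hm : Mono ((yon S).map (opensOverι T (preimageOpens hW g))) := mono_yon_map _
  have hmono : Mono (pullback.lift gW ((yon S).map (opensOverι T (preimageOpens hW g))) w) := by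
    have : Mono (pullback.lift gW ((yon S).map (opensOverι T (preimageOpens hW g))) w ≫
        pullback.snd _ _) := by
      rw [pullback.lift_snd]
      exact hm
    exact mono_of_mono _ (pullback.snd _ _)
  have hepi : Epi (pullback.lift gW ((yon S).map (opensOverι T (preimageOpens hW g))) w) := by
    apply epi_of_local_lift
    intro T₂ y
    refine ⟨⊤, (J S).top_mem T₂, fun T₃ f _ => ?_⟩
    obtain ⟨β, hβ⟩ := (yon S).map_surjective (((yon S).map f ≫ y) ≫ pullback.snd _ _)
    have hβg : (yon S).map β ≫ g = (((yon S).map f ≫ y) ≫ pullback.fst _ _) ≫ openSubι X W := by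
      rw [hβ, Category.assoc, Category.assoc, Category.assoc, Category.assoc, pullback.condition]
    have hβW : ∀ t : ↥T₃.left, β.left t ∈ preimageOpens hW g := by
      intro t
      rw [mem_preimageOpens, ← ofPt_yon_map_comp, hβg]
      exact ofPt_comp_openSubι_mem X W _ t
    obtain ⟨δ, hδ⟩ := exists_lift_opensOver _ β hβW
    refine ⟨(yon S).map δ, ?_⟩
    apply pullback.hom_ext
    · rw [← cancel_mono (openSubι X W), ← hβg]
      simp only [Category.assoc]
      rw [pullback.lift_fst_assoc, w, ← Category.assoc, ← Functor.map_comp, hδ]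
    · rw [Category.assoc, pullback.lift_snd, ← Functor.map_comp, hδ, hβ]
  have hiso : IsIso (pullback.lift gW ((yon S).map (opensOverι T (preimageOpens hW g))) w) :=
    isIso_of_mono_of_epi _
  exact IsPullback.of_iso_pullback ⟨w⟩ (asIso (pullback.lift _ _ w)) (pullback.lift_fst _ _ _)
    (pullback.lift_snd _ _ _)

/-- The subsheaf attached to an open set of points is an open subspace. -/
theorem repWith_isOpenImmersion_openSubι {X : Sp S} {W : Set (Points X)} (hW : IsOpen W) :
    RepWith @IsOpenImmersion (openSubι X W) := by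
  refine MorphismProperty.relative.of_exists (fun T g => ?_)
  obtain ⟨gW, sq⟩ := exists_isPullback_openSubι hW g
  refine ⟨_, gW, _, sq, ?_⟩
  show IsOpenImmersion (preimageOpens hW g).ι
  infer_instance

theorem isAlgSpace_openSub {X : Sp S} {W : Set (Points X)} (hW : IsOpen W) (hX : IsAlgSpace X) :
    IsAlgSpace (openSub X W) :=
  isAlgSpace_of_representable (repWith_isOpenImmersion_openSubι hW).rep hX

/-- The points of the subsheaf attached to `W` are exactly `W`. -/
theorem range_map_openSubι (X : Sp S) (W : Set (Points X)) :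
    Set.range (Points.map (openSubι X W)) = W := by
  apply Set.Subset.antisymm
  · rintro _ ⟨x', rfl⟩
    induction x' using Points.ind with
    | h p =>
    have h := ofPt_comp_openSubι_mem X W p.toHom (IsLocalRing.closedPoint p.K : PrimeSpectrum p.K)
    rw [← Points.map_ofPt, Points.ofPt_toHom] at h
    exact h
  · intro w hw
    induction w using Points.ind with
    | h p =>
    have hmem : p.val ∈ (openSubfunctor X W).obj (op p.pt) := by
      intro t
      have h1 : yonEquiv.symm p.val = p.toHom := rfl
      rw [h1, Points.ofPt_toHom]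
      exact hw
    exact ⟨Points.mk ⟨p.K, p.str, (⟨p.val, hmem⟩ : (openSubfunctor X W).obj (op p.pt))⟩, rfl⟩

end Groth.Agent.H50
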