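import Groth.Agent.H50.Basic

set_option autoImplicit false
universe u
open CategoryTheory CategoryTheory.Limits AlgebraicGeometry Opposite

namespace Groth.Agent.H50

open AlgSp

variable {S : Scheme.{u}}

/-- A morphism between two etale charts of a sheaf, compatible with the chart maps, is etale. -/
theorem etale_of_charts {X : Sp S} {U W : Over S} (a : (yon S).obj U ⟶ X) (c : (yon S).obj W ⟶ X)
    (ha : RepWith @Etale a) (hc : RepWith @Etale c) (k : U ⟶ W)
    (hk : (yon S).map k ≫ c = a) : Etale k.left := by
  have hrep : Representable c := hc.rep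
  have h1 : Etale (hrep.snd a).left := hc.property_snd a
  have sq := hrep.isPullback' a
  have h2 : Etale (hrep.fst' a).left :=
    (repWith_yon_map_iff @Etale _).1 (repWith_fst_of_isPullback sq ha)
  have hi : (yon S).map k ≫ c = (yon S).map (𝟙 U) ≫ a := by simp [hk]
  have hs1 : hrep.lift' k (𝟙 U) hi ≫ hrep.fst' a = k := hrep.lift'_fst _ _ _
  have hs2 : hrep.lift' k (𝟙 U) hi ≫ hrep.snd a = 𝟙 U := hrep.lift'_snd _ _ _
  have h3 : Etale (hrep.lift' k (𝟙 U) hi).left := by
    refine MorphismProperty.of_postcomp (W := @Etale) (W' := @Etale) _ (hrep.snd a).left h1 ?_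
    rw [← Over.comp_left, hs2]
    exact inferInstanceAs (Etale (𝟙 U.left))
  rw [← hs1, Over.comp_left]
  infer_instance

/-- For `P` stable under composition and containing etale morphisms, a morphism representable with
`P` has `P` etale locally on source and target. -/
theorem locP_of_repWith {P : MorphismProperty Scheme.{u}} [P.IsStableUnderComposition]
    (hP : ∀ ⦃A B : Scheme.{u}⦄ (g : A ⟶ B), Etale g → P g) {X Y : Sp S} {f : X ⟶ Y}
    (hf : RepWith P f) : LocP P f := by
  intro U V a b h ha hb comm
  have hrep : Representable f := hf.rep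
  have sq := hrep.isPullback b
  have h1 : P (hrep.snd b).left := hf.property_snd b
  have h2 : RepWith @Etale (hrep.fst b) := repWith_fst_of_isPullback sq hb
  have h3 : Etale (hrep.lift a h comm).left :=
    etale_of_charts a (hrep.fst b) ha h2 _ (hrep.lift_fst _ _ _)
  have h4 : hrep.lift a h comm ≫ hrep.snd b = h := hrep.lift_snd _ _ _
  rw [← h4, Over.comp_left]
  exact P.comp_mem _ _ (hP _ h3) h1

end Groth.Agent.H50
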