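import Groth.Agent.H50.Basic
import Groth.Prelude.Def_AlgSpGpd
import Mathlib.CategoryTheory.Sites.RegularEpi

set_option autoImplicit false
universe u
open CategoryTheory CategoryTheory.Limits AlgebraicGeometry Opposite

namespace Groth.Agent.H50

open AlgSp

variable {S : Scheme.{u}}

/-- Epimorphisms of fppf sheaves of sets are effective. -/
theorem effectiveEpi_of_epi {F G : Sp S} (q : F ⟶ G) [Epi q] : EffectiveEpi q := by
  have : IsRegularEpi q := IsRegularEpiCategory.regularEpiOfEpi q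
  infer_instance

/-- If `q : U ⟶ M` is an epimorphism of sheaves coequalizing `s, t` and `(t, s) : R ⟶ U ×_M U` is
an epimorphism, then `U/R ⟶ M` is an isomorphism. -/
theorem isIso_quotSpDesc {R U M : Sp S} (s t : R ⟶ U) (q : U ⟶ M) (w : s ≫ q = t ≫ q) [Epi q]
    [Epi (pullback.lift t s w.symm : R ⟶ pullback q q)] : IsIso (quotSpDesc q w) := by
  have := effectiveEpi_of_epi q
  have hp : pullback.fst q q ≫ quotSpπ s t = pullback.snd q q ≫ quotSpπ s t := by
    rw [← cancel_epi (pullback.lift t s w.symm : R ⟶ pullback q q)]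
    simp only [pullback.lift_fst_assoc, pullback.lift_snd_assoc]
    exact (quotSp_condition s t).symm
  have hq : ∀ {Z : Sp S} (g₁ g₂ : Z ⟶ U), g₁ ≫ q = g₂ ≫ q →
      g₁ ≫ quotSpπ s t = g₂ ≫ quotSpπ s t := by
    intro Z g₁ g₂ hg
    have h1 : g₁ = pullback.lift g₁ g₂ hg ≫ pullback.fst q q := (pullback.lift_fst _ _ _).symm
    have h2 : g₂ = pullback.lift g₁ g₂ hg ≫ pullback.snd q q := (pullback.lift_snd _ _ _).symm
    rw [h1, Category.assoc, hp, ← Category.assoc, ← h2]
  refine ⟨EffectiveEpi.desc q (quotSpπ s t) hq, ?_, ?_⟩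
  · apply coequalizer.hom_ext
    change quotSpπ s t ≫ _ = quotSpπ s t ≫ _
    rw [quotSpπ_desc_assoc, EffectiveEpi.fac, Category.comp_id]
  · rw [← cancel_epi q, EffectiveEpi.fac_assoc, quotSpπ_desc, Category.comp_id]

end Groth.Agent.H50
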