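import Groth.Agent.H50.Basic

set_option autoImplicit false
universe u
open CategoryTheory CategoryTheory.Limits AlgebraicGeometry Opposite

namespace Groth.Agent.H50

open AlgSp

variable {S : Scheme.{u}}

/-- Affine morphisms of sheaves are stable under base change. -/
theorem isAffineMor_snd_of_isPullback {F G F' G' : Sp S}
    {f : F ⟶ G} {g : G' ⟶ G} {fst : F' ⟶ F} {snd : F' ⟶ G'} (sq : IsPullback fst snd f g)
    (hf : IsAffineMor f) : IsAffineMor snd := by
  intro Z hZ z
  obtain ⟨W, i, fst0, sq0, hW⟩ := hf hZ (z ≫ g)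
  refine ⟨W, i, sq.lift fst0 ((yon S).map i ≫ z) (by rw [sq0.w, Category.assoc]), ?_, hW⟩
  refine IsPullback.of_right ?_ (sq.lift_snd _ _ _) sq
  rw [sq.lift_fst]
  exact sq0

/-- Affine morphisms of sheaves are stable under composition. -/
theorem isAffineMor_comp {F G H : Sp S} {f : F ⟶ G} {g : G ⟶ H}
    (hf : IsAffineMor f) (hg : IsAffineMor g) : IsAffineMor (f ≫ g) := by
  intro Z hZ z
  obtain ⟨W1, i1, fst1, sq1, hW1⟩ := hg hZ z
  obtain ⟨W2, i2, fst2, sq2, hW2⟩ := hf hW1 fst1
  refine ⟨W2, i2 ≫ i1, fst2, ?_, hW2⟩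
  rw [Functor.map_comp]
  exact sq2.paste_vert sq1

/-- A morphism representable and affine in the representable sense is an affine morphism. -/
theorem isAffineMor_of_repWith {F G : Sp S} {f : F ⟶ G} (hf : RepWith @IsAffineHom f) :
    IsAffineMor f := by
  intro Z hZ z
  have hrep : Representable f := hf.rep
  refine ⟨hrep.pullback z, hrep.snd z, hrep.fst z, hrep.isPullback z, ?_⟩
  have : IsAffineHom (hrep.snd z).left := hf.property_snd z
  have : IsAffine Z.left := hZ
  exact isAffine_of_isAffineHom (hrep.snd z).left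

/-- If the diagonal of `q` is affine and `g ≫ q` is affine then `g` is affine. -/
theorem isAffineMor_of_comp_of_diagonal {X Y B : Sp S} (g : X ⟶ Y) (q : Y ⟶ B)
    (hp : IsAffineMor (g ≫ q)) (hΔ : IsAffineMor (pullback.diagonal q)) : IsAffineMor g := by
  have h1 : IsAffineMor (pullback.lift (𝟙 X) g (by simp) : X ⟶ pullback (g ≫ q) q) :=
    isAffineMor_snd_of_isPullback (pullback_lift_diagonal_isPullback g q) hΔ
  have h2 : IsAffineMor (pullback.snd (g ≫ q) q) :=
    isAffineMor_snd_of_isPullback (IsPullback.of_hasPullback (g ≫ q) q) hp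
  have := isAffineMor_comp h1 h2
  rwa [pullback.lift_snd] at this

end Groth.Agent.H50
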