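import Groth.Agent.H50.OverField
import Groth.Agent.H50.Points
import Groth.Agent.H50.Affine
import Groth.Agent.H52.LocPOps
import Groth.Agent.H52.FibProd
import Groth.Agent.H52.FieldPts

/-! Surjective + flat + universally open + affine morphisms: base change and composition; morphisms to
sheaves isomorphic to the spectrum of a field (helper50). -/

set_option autoImplicit false
universe u
open CategoryTheory CategoryTheory.Limits AlgebraicGeometry
open AlgSp

namespace Groth.Agent.H50

open Groth.Agent.H52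

variable {S : Scheme.{u}}

theorem isSurjectiveMor_baseChange {F G F' G' : Sp S} {f : F ⟶ G} {g : G' ⟶ G} {fst : F' ⟶ F}
    {snd : F' ⟶ G'} (sq : IsPullback fst snd f g) (hf : IsSurjectiveMor f) :
    IsSurjectiveMor snd := by
  intro y
  obtain ⟨x, hx⟩ := hf (Points.map g y)
  obtain ⟨z, -, hz⟩ := Groth.Agent.H50.exists_point_of_isPullback sq x y hx
  exact ⟨z, hz⟩

theorem isSurjectiveMor_comp {F G H : Sp S} {f : F ⟶ G} {g : G ⟶ H} (hf : IsSurjectiveMor f)
    (hg : IsSurjectiveMor g) : IsSurjectiveMor (f ≫ g) := by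
  intro z
  obtain ⟨y, rfl⟩ := hg z
  obtain ⟨x, rfl⟩ := hf y
  exact ⟨x, Points.map_comp f g x⟩

theorem isSurjectiveMor_of_section {F G : Sp S} (f : F ⟶ G) (s : G ⟶ F) (h : s ≫ f = 𝟙 G) :
    IsSurjectiveMor f := by
  intro y
  refine ⟨Points.map s y, ?_⟩
  rw [← Points.map_comp, h, Points.map_id]

theorem isUnivOpenMor_comp {X Y Z : Sp S} (hY : IsAlgSpace Y) (hZ : IsAlgSpace Z) {f : X ⟶ Y}
    {g : Y ⟶ Z} (hf : IsUnivOpenMor f) (hg : IsUnivOpenMor g) : IsUnivOpenMor (f ≫ g) := by
  intro W P hW h fst snd sq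
  have sqQ := IsPullback.of_hasPullback g h
  have hQ : IsAlgSpace (pullback g h) := isAlgSpace_of_isPullback sqQ hZ.diag hY hW
  have hl : (fst ≫ f) ≫ g = snd ≫ h := by
    rw [Category.assoc]
    exact sq.w
  have top : IsPullback fst (sqQ.lift (fst ≫ f) snd hl) f (pullback.fst g h) := by
    refine IsPullback.of_bot ?_ (sqQ.lift_fst _ _ _).symm sqQ
    rw [sqQ.lift_snd]
    exact sq
  have h1 : IsOpenMap (Points.map (sqQ.lift (fst ≫ f) snd hl)) := hf hQ _ _ _ top
  have h2 : IsOpenMap (Points.map (pullback.snd g h)) := hg hW _ _ _ sqQ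
  have e : Points.map snd =
      Points.map (pullback.snd g h) ∘ Points.map (sqQ.lift (fst ≫ f) snd hl) := by
    funext x
    rw [Function.comp_apply, ← Points.map_comp, sqQ.lift_snd]
  show IsOpenMap (Points.map snd)
  rw [e]
  exact h2.comp h1

theorem isAffineMor_of_isIso {F G : Sp S} (f : F ⟶ G) [IsIso f] : IsAffineMor f := by
  intro Z hZ g
  refine ⟨Z, 𝟙 Z, g ≫ inv f, ?_, hZ⟩
  have : IsIso ((yon S).map (𝟙 Z)) := inferInstance
  exact IsPullback.of_vert_isIso ⟨by rw [Category.assoc, IsIso.inv_hom_id, Category.comp_id,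
    CategoryTheory.Functor.map_id, Category.id_comp]⟩

/-- Surjective, flat, universally open and affine. -/
structure Nice4 {F G : Sp S} (f : F ⟶ G) : Prop where
  surj : IsSurjectiveMor f
  flat : LocP @Flat f
  uo : IsUnivOpenMor f
  aff : IsAffineMor f

theorem Nice4.baseChange {X Y Y' X' : Sp S} (hX : IsAlgSpace X) (hY : IsAlgSpace Y)
    (hY' : IsAlgSpace Y') {f : X ⟶ Y} {g : Y' ⟶ Y} {fst : X' ⟶ X} {f' : X' ⟶ Y'}
    (sq : IsPullback fst f' f g) (h : Nice4 f) : Nice4 f' :=
  ⟨isSurjectiveMor_baseChange sq h.surj, locP_baseChange etLocal_flat hX hY hY' sq h.flat,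
    isUnivOpenMor_baseChange sq h.uo, isAffineMor_snd_of_isPullback sq h.aff⟩

theorem Nice4.comp {X Y Z : Sp S} (hY : IsAlgSpace Y) (hZ : IsAlgSpace Z) {f : X ⟶ Y} {g : Y ⟶ Z}
    (hf : Nice4 f) (hg : Nice4 g) : Nice4 (f ≫ g) :=
  ⟨isSurjectiveMor_comp hf.surj hg.surj, locP_comp etLocal_flat hY f g hf.flat hg.flat,
    isUnivOpenMor_comp hY hZ hf.uo hg.uo, isAffineMor_comp hf.aff hg.aff⟩

theorem locP_flat_of_iso_field (k : Type u) [Field k] (σ : Spec (CommRingCat.of k) ⟶ S)
    {X U : Sp S} (e : U ≅ (yon S).obj (Over.mk σ)) (p : X ⟶ U) : LocP @Flat p := by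
  intro A V a b h ha hb comm
  have := AlgSp.repWith_isStableUnderBaseChange (S := S) @Etale
  have hb' : RepWith @Etale (b ≫ e.hom) :=
    (MorphismProperty.cancel_right_of_respectsIso (RepWith @Etale) b e.hom).2 hb
  exact locP_flat_over_field k σ (p ≫ e.hom) a (b ≫ e.hom) h ha hb'
    (by rw [← Category.assoc, comm, Category.assoc])

theorem isUnivOpenMor_of_iso_field (k : Type u) [Field k] (σ : Spec (CommRingCat.of k) ⟶ S)
    {X U : Sp S} (e : U ≅ (yon S).obj (Over.mk σ)) (hX : IsAlgSpace X) (p : X ⟶ U) :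
    IsUnivOpenMor p := by
  intro W P hW g fst snd sq
  exact isUnivOpenMor_over_field k σ hX (p ≫ e.hom) hW (g ≫ e.hom) fst snd
    (isPullback_comp_mono e.hom sq)

section Cat

variable {C : Type*} [Category C] [HasPullbacks C]

/-- `U' ×_B V ⟶ U ×_B V` is the base change of `u : U' ⟶ U` along the first projection. -/
theorem isPullback_lift_fst {U' U V B : C} (u : U' ⟶ U) (p : U ⟶ B) (p' : U' ⟶ B) (q : V ⟶ B)
    (h : u ≫ p = p') :
    IsPullback (pullback.lift (pullback.fst p' q ≫ u) (pullback.snd p' q)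
      (by rw [Category.assoc, h]; exact pullback.condition)) (pullback.fst p' q)
      (pullback.fst p q) u := by
  subst h
  refine IsPullback.of_right ?_ (pullback.lift_fst _ _ _) (IsPullback.of_hasPullback p q).flip
  rw [pullback.lift_snd]
  exact (IsPullback.of_hasPullback (u ≫ p) q).flip

/-- `U ×_B V' ⟶ U ×_B V` is the base change of `v : V' ⟶ V` along the second projection. -/
theorem isPullback_lift_snd {U V' V B : C} (v : V' ⟶ V) (p : U ⟶ B) (q : V ⟶ B) (q' : V' ⟶ B)
    (h : v ≫ q = q') :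
    IsPullback (pullback.lift (pullback.fst p q') (pullback.snd p q' ≫ v)
      (by rw [Category.assoc, h]; exact pullback.condition)) (pullback.snd p q')
      (pullback.snd p q) v := by
  subst h
  refine IsPullback.of_right ?_ (pullback.lift_snd _ _ _) (IsPullback.of_hasPullback p q)
  rw [pullback.lift_fst]
  exact IsPullback.of_hasPullback p (v ≫ q)

end Cat

end Groth.Agent.H50
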