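import Groth.Agent.H50.RepBySpCat
import Groth.Agent.H50.Fibre
import Mathlib.CategoryTheory.Limits.Types.Pullbacks

/-!
# helper50: morphisms of presheaves representable by algebraic spaces
-/

set_option autoImplicit false
universe u
open CategoryTheory CategoryTheory.Limits AlgebraicGeometry Opposite

namespace Groth.Agent.H50

open AlgSp

variable {S : Scheme.{u}}

/-- A representable presheaf is an algebraic space. -/
theorem isAlgSpaceP_pyon (U : Over S) : IsAlgSpaceP ((pyon S).obj U) :=
  (isAlgSpaceP_obj_iff ((yon S).obj U)).2 (IsAlgSpace.yon_obj U)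

/-- Base change of `RepBySp`. -/
theorem repBySp_snd_of_isPullback {F G F' G' : PSp S} {a : F ⟶ G} {ξ : G' ⟶ G} {fst : F' ⟶ F}
    {snd : F' ⟶ G'} (sq : IsPullback fst snd a ξ) (ha : RepBySp a) : RepBySp snd := by
  intro U ζ F'' fst' snd' sq'
  exact ha (ζ ≫ ξ) (fst' ≫ fst) snd' (sq'.paste_horiz sq)

instance repBySp_isStableUnderBaseChange : (RepBySp (S := S)).IsStableUnderBaseChange where
  of_isPullback sq hg := repBySp_snd_of_isPullback sq hg

/-- If the target is a sheaf and the morphism is representable by algebraic spaces, then the source is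
a sheaf. -/
theorem isSheaf_of_repBySp {F G : PSp S} (a : F ⟶ G) (ha : RepBySp a)
    (hG : Presheaf.IsSheaf (J S) G) : Presheaf.IsSheaf (J S) F := by
  rw [isSheaf_iff_isSheaf_of_type] at hG ⊢
  intro T R hR x hx
  obtain ⟨η, hη, hηu⟩ := hG R hR (x.map a) (hx.map a)
  obtain ⟨ξ, hξ⟩ : ∃ ξ : (pyon S).obj T ⟶ G, ξ = uliftYonedaEquiv.symm η := ⟨_, rfl⟩
  have hξapp : ∀ (T' : Over S) (f : T' ⟶ T), ξ.app (op T') (ULift.up f) = G.map f.op η := by
    intro T' f
    rw [hξ]
    rfl
  have sqP := IsPullback.of_hasPullback a ξ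
  obtain ⟨hPsh, -⟩ := ha ξ _ _ sqP
  rw [isSheaf_iff_isSheaf_of_type] at hPsh
  have hTsh : Presieve.IsSheaf (J S) ((pyon S).obj T) :=
    (isSheaf_iff_isSheaf_of_type _ _).1 ((yon S).obj T).property
  have sqE : ∀ T' : Over S, IsPullback ((pullback.fst a ξ).app (op T'))
      ((pullback.snd a ξ).app (op T')) (a.app (op T')) (ξ.app (op T')) :=
    fun T' => sqP.map ((evaluation _ _).obj (op T'))
  have hex : ∀ (T' : Over S) (f : T' ⟶ T) (_ : R f), ∃ p : (pullback a ξ).obj (op T'),
      (pullback.fst a ξ).app (op T') p = x f ‹_› ∧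
        (pullback.snd a ξ).app (op T') p = ULift.up f := by
    intro T' f hf
    apply Types.exists_of_isPullback (sqE T')
    rw [hξapp]
    exact (hη f hf).symm
  choose p hp1 hp2 using hex
  have hmapup : ∀ {Y Z : Over S} (g : Z ⟶ Y) (f : Y ⟶ T),
      ((pyon S).obj T).map g.op (ULift.up f) = ULift.up (g ≫ f) := fun g f => rfl
  have hpc : Presieve.FamilyOfElements.Compatible (P := pullback a ξ) (R := R.arrows)
      (fun T' f hf => p T' f hf) := by
    intro Y₁ Y₂ Z g₁ g₂ f₁ f₂ h₁ h₂ e
    change (pullback a ξ).map g₁.op (p Y₁ f₁ h₁) = (pullback a ξ).map g₂.op (p Y₂ f₂ h₂)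
    apply Types.ext_of_isPullback (sqE Z)
    · rw [NatTrans.naturality_apply, NatTrans.naturality_apply, hp1, hp1]
      exact hx g₁ g₂ h₁ h₂ e
    · rw [NatTrans.naturality_apply, NatTrans.naturality_apply, hp2, hp2, hmapup, hmapup, e]
  obtain ⟨q, hq, hqu⟩ := hPsh R hR _ hpc
  have hq' : ∀ {Y : Over S} (f : Y ⟶ T) (hf : R f), (pullback a ξ).map f.op q = p Y f hf :=
    fun f hf => hq f hf
  refine ⟨(pullback.fst a ξ).app (op T) q, ?_, ?_⟩
  · intro Y f hf
    change F.map f.op ((pullback.fst a ξ).app (op T) q) = x f hf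
    rw [← NatTrans.naturality_apply, hq' f hf, hp1]
  · intro z' hz'
    have h1 : a.app (op T) z' = η := by
      apply hηu
      intro Y f hf
      change G.map f.op (a.app (op T) z') = a.app (op Y) (x f hf)
      rw [← NatTrans.naturality_apply, hz' f hf]
    have h2 : a.app (op T) z' = ξ.app (op T) (ULift.up (𝟙 T)) := by
      rw [h1, hξapp]
      simp
    obtain ⟨q', hq'1, hq'2⟩ := Types.exists_of_isPullback (sqE T) z' (ULift.up (𝟙 T)) h2
    have hqq : q' = q := by
      apply hqu
      intro Y f hf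
      change (pullback a ξ).map f.op q' = p Y f hf
      apply Types.ext_of_isPullback (sqE Y)
      · rw [NatTrans.naturality_apply, hq'1, hp1]
        exact hz' f hf
      · rw [NatTrans.naturality_apply, hq'2, hp2, hmapup, Category.comp_id]
    rw [← hq'1, hqq]

/-- The diagonal of a morphism of sheaves representable by algebraic spaces is representable by
schemes. -/
theorem representable_diagonal_of_repBySp {F G : Sp S} (f : F ⟶ G) (hf : RepBySp f.hom) :
    Representable (pullback.diagonal f) := by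
  intro T g
  have sqF := IsPullback.of_hasPullback f (g ≫ pullback.fst f f ≫ f)
  have hF'' : IsAlgSpace (pullback f (g ≫ pullback.fst f f ≫ f)) :=
    (repBySp_hom_iff f).1 hf _ _ _ sqF
  obtain ⟨σa, σb, ha1, ha2, hb1, hb2⟩ := exists_sections g sqF
  obtain ⟨E, snd, fst, sqE⟩ := hF''.representable_from_yon σa σb
  exact ⟨E, snd, _, isPullback_diagonal_of_sections g sqF ha1 ha2 hb1 hb2 sqE⟩

/-- A sheaf with a morphism representable by algebraic spaces to an algebraic space is an algebraic
space. -/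
theorem isAlgSpace_of_repBySp {F G : Sp S} (f : F ⟶ G) (hf : RepBySp f.hom)
    (hG : IsAlgSpace G) : IsAlgSpace F where
  diag := Functor.relativelyRepresentable.diag_of_map_from_obj (fun T g =>
    representable_of_comp g f (representable_diagonal_of_repBySp f hf)
      (hG.representable_from_yon (g ≫ f)))
  atlas := by
    obtain ⟨V, q, hq1, hq2⟩ := hG.atlas
    have sqV := IsPullback.of_hasPullback f q
    have hFV : IsAlgSpace (pullback f q) := (repBySp_hom_iff f).1 hf q _ _ sqV
    obtain ⟨W, r, hr1, hr2⟩ := hFV.atlas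
    have h1 : RepWith @Etale (pullback.fst f q) := repWith_fst_of_isPullback sqV hq1
    have h2 : RepWith @Surjective (pullback.fst f q) := repWith_fst_of_isPullback sqV hq2
    exact ⟨W, r ≫ pullback.fst f q,
      (repWith_isMultiplicative (S := S) @Etale).comp_mem _ _ hr1 h1,
      (repWith_isMultiplicative (S := S) @Surjective).comp_mem _ _ hr2 h2⟩

/-- A presheaf with a morphism representable by algebraic spaces to an algebraic space is an
algebraic space. -/
theorem isAlgSpaceP_of_repBySp {F G : PSp S} (a : F ⟶ G) (ha : RepBySp a)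
    (hG : IsAlgSpaceP G) : IsAlgSpaceP F := by
  obtain ⟨hGs, hGa⟩ := hG
  have hFs := isSheaf_of_repBySp a ha hGs
  exact ⟨hFs, isAlgSpace_of_repBySp (F := ⟨F, hFs⟩) (G := ⟨G, hGs⟩) (ObjectProperty.homMk a) ha hGa⟩

/-- The base change of a morphism representable by algebraic spaces to an algebraic space is an
algebraic space. -/
theorem isAlgSpaceP_of_isPullback_space {F G : PSp S} (a : F ⟶ G) (ha : RepBySp a) {X' : PSp S}
    (hX : IsAlgSpaceP X') (ξ : X' ⟶ G) {F' : PSp S} (fst : F' ⟶ X') (snd : F' ⟶ F)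
    (sq : IsPullback fst snd ξ a) : IsAlgSpaceP F' :=
  isAlgSpaceP_of_repBySp fst (repBySp_snd_of_isPullback sq.flip ha) hX

/-- Composition of morphisms representable by algebraic spaces. -/
theorem repBySp_comp {F G H : PSp S} (a : F ⟶ G) (b : G ⟶ H) (ha : RepBySp a)
    (hb : RepBySp b) : RepBySp (a ≫ b) := by
  intro U ξ F' fst snd sq
  have sqG := IsPullback.of_hasPullback b ξ
  have hG' : IsAlgSpaceP (pullback b ξ) := hb ξ _ _ sqG
  have hw : (fst ≫ a) ≫ b = snd ≫ ξ := by
    rw [Category.assoc]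
    exact sq.w
  obtain ⟨l, hl1, hl2⟩ : ∃ l : F' ⟶ pullback b ξ,
      l ≫ pullback.fst b ξ = fst ≫ a ∧ l ≫ pullback.snd b ξ = snd :=
    ⟨pullback.lift _ _ hw, pullback.lift_fst _ _ _, pullback.lift_snd _ _ _⟩
  have big : IsPullback (l ≫ pullback.snd b ξ) fst ξ (a ≫ b) := by
    rw [hl2]
    exact sq.flip
  have left : IsPullback l fst (pullback.fst b ξ) a := IsPullback.of_right big hl1 sqG.flip
  exact isAlgSpaceP_of_isPullback_space a ha hG' (pullback.fst b ξ) l fst left

/-- Identities are representable by algebraic spaces. -/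
theorem repBySp_id (G : PSp S) : RepBySp (𝟙 G) := by
  intro U ξ F' fst snd sq
  have : IsIso snd := sq.isIso_snd_of_isIso
  exact (isAlgSpaceP_pyon U).of_iso (asIso snd).symm

instance repBySp_isMultiplicative : (RepBySp (S := S)).IsMultiplicative where
  id_mem G := repBySp_id G
  comp_mem a b ha hb := repBySp_comp a b ha hb

/-- Cancellation: if the diagonal of `b` and `a ≫ b` are representable by algebraic spaces, so is
`a`. -/
theorem repBySp_of_comp {F G H : PSp S} (a : F ⟶ G) (b : G ⟶ H)
    (hΔ : RepBySp (pullback.diagonal b)) (hab : RepBySp (a ≫ b)) : RepBySp a := by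
  have : (RepBySp (S := S)).HasOfPostcompProperty (RepBySp (S := S)).diagonal :=
    MorphismProperty.hasOfPostcompProperty_iff_le_diagonal.2 le_rfl
  exact MorphismProperty.of_postcomp (W := RepBySp (S := S))
    (W' := (RepBySp (S := S)).diagonal) a b hΔ hab

/-- Products of morphisms representable by algebraic spaces. -/
theorem repBySp_prod_map {F₁ G₁ F₂ G₂ : PSp S} (a₁ : F₁ ⟶ G₁) (a₂ : F₂ ⟶ G₂)
    (h₁ : RepBySp a₁) (h₂ : RepBySp a₂) : RepBySp (prod.map a₁ a₂) := by
  have e : prod.map a₁ a₂ = prod.map a₁ (𝟙 F₂) ≫ prod.map (𝟙 G₁) a₂ := by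
    rw [prod.map_map, Category.comp_id, Category.id_comp]
  rw [e]
  exact repBySp_comp _ _ (repBySp_snd_of_isPullback (isPullback_prod_map_id a₁ F₂) h₁)
    (repBySp_snd_of_isPullback (isPullback_prod_id_map a₂ G₁) h₂)

end Groth.Agent.H50
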