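import Groth.Agent.H50.Basic
import Groth.Prelude.Def_AlgSpGpd
import Mathlib.CategoryTheory.Monoidal.Cartesian.Grp

set_option autoImplicit false
universe u
open CategoryTheory CategoryTheory.Limits AlgebraicGeometry Opposite MonoidalCategory
  CartesianMonoidalCategory MonObj

namespace Groth.Agent.H50

open AlgSp

variable {S : Scheme.{u}} {B : Sp S} {G X : Over B} [GrpObj G] (a : GAction G X)

theorem gaction_mul_smul {T : Over B} (k l : T ⟶ G) (y : T ⟶ X) :
    lift (k * l) y ≫ a.act = lift k (lift l y ≫ a.act) ≫ a.act := by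
  have := congrArg (fun m => lift (lift k l) y ≫ m) a.mul_act
  simpa [Hom.mul_def] using this

theorem gaction_one_smul {T : Over B} (y : T ⟶ X) :
    lift (1 : T ⟶ G) y ≫ a.act = y := by
  have := congrArg (fun m => lift (toUnit T) y ≫ m) a.one_act
  simpa [Hom.one_def] using this

theorem gaction_free_cancel (ha : a.IsFree) {T : Over S} (β : (yon S).obj T ⟶ B)
    (g g' : Over.mk β ⟶ G) (x : Over.mk β ⟶ X)
    (h : lift g x ≫ a.act = lift g' x ≫ a.act) : g = g' := by
  have h1 : lift (g⁻¹ * g') x ≫ a.act = x := by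
    rw [gaction_mul_smul, ← h, ← gaction_mul_smul, inv_mul_cancel, gaction_one_smul]
  have h2 : g⁻¹ * g' = 1 := ha β (g⁻¹ * g') x h1
  exact (inv_mul_eq_one.mp h2)

end Groth.Agent.H50
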