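import Mathlib
import Groth.Agent.S4450

/-! Scheme-level helpers for the reduction of universal closedness to affine spaces (helper50). -/

set_option autoImplicit false
universe u
open CategoryTheory CategoryTheory.Limits AlgebraicGeometry TopologicalSpace
open scoped TensorProduct

namespace Groth.Agent.H50.AnClosedSch

/-- Global sections of a fibre product of affine schemes are sums of products of pullbacks. -/
theorem exists_finset_sum_of_isPullback {P X Y Z : Scheme.{u}} [IsAffine X] [IsAffine Y] [IsAffine Z]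
    {fst : P ⟶ X} {snd : P ⟶ Y} {f : X ⟶ Z} {g : Y ⟶ Z} (h : IsPullback fst snd f g)
    (s : Γ(P, ⊤)) :
    ∃ t : Finset (Γ(X, ⊤) × Γ(Y, ⊤)), s = ∑ i ∈ t, fst.appTop.hom i.1 * snd.appTop.hom i.2 := by
  have hpo := isPushout_appTop_of_isPullback h
  letI : Algebra Γ(Z, ⊤) Γ(X, ⊤) := f.appTop.hom.toAlgebra
  letI : Algebra Γ(Z, ⊤) Γ(Y, ⊤) := g.appTop.hom.toAlgebra
  have hten := CommRingCat.isPushout_tensorProduct Γ(Z, ⊤) Γ(X, ⊤) Γ(Y, ⊤)
  have hpo' : IsPushout (CommRingCat.ofHom (algebraMap Γ(Z, ⊤) Γ(X, ⊤)))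
      (CommRingCat.ofHom (algebraMap Γ(Z, ⊤) Γ(Y, ⊤))) fst.appTop snd.appTop := hpo
  have h1 : ∀ a : Γ(X, ⊤), (hten.isoIsPushout _ _ hpo').hom.hom (a ⊗ₜ 1) = fst.appTop.hom a :=
    fun a => congrArg (fun φ => φ.hom a) (hten.inl_isoIsPushout_hom _ _ hpo')
  have h2 : ∀ b : Γ(Y, ⊤), (hten.isoIsPushout _ _ hpo').hom.hom (1 ⊗ₜ b) = snd.appTop.hom b :=
    fun b => congrArg (fun φ => φ.hom b) (hten.inr_isoIsPushout_hom _ _ hpo')
  obtain ⟨t, ht⟩ := TensorProduct.exists_finset ((hten.isoIsPushout _ _ hpo').inv.hom s)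
  refine ⟨t, ?_⟩
  have h3 : s = (hten.isoIsPushout _ _ hpo').hom.hom ((hten.isoIsPushout _ _ hpo').inv.hom s) :=
    (congrArg (fun φ => φ.hom s) (hten.isoIsPushout _ _ hpo').inv_hom_id).symm
  rw [h3, ht, map_sum]
  refine Finset.sum_congr rfl fun i _ => ?_
  have h4 : (i.1 ⊗ₜ[Γ(Z, ⊤)] i.2 : Γ(X, ⊤) ⊗[Γ(Z, ⊤)] Γ(Y, ⊤)) = (i.1 ⊗ₜ 1) * (1 ⊗ₜ i.2) := by
    rw [Algebra.TensorProduct.tmul_mul_tmul, mul_one, one_mul]
  rw [h4, map_mul, h1, h2]

/-- In an affine scheme, a compact set disjoint from a closed set is covered by finitely many basic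
opens missing the closed set. -/
theorem exists_finset_basicOpen_cover {P : Scheme.{u}} [IsAffine P] (C : Set P) (hC : IsClosed C)
    (K : Set P) (hK : IsCompact K) (hd : ∀ x ∈ K, x ∉ C) :
    ∃ t : Finset Γ(P, ⊤), (∀ g ∈ t, ∀ x ∈ C, x ∉ P.basicOpen g) ∧
      ∀ x ∈ K, ∃ g ∈ t, x ∈ P.basicOpen g := by
  classical
  have hcov : K ⊆ ⋃ g : {g : Γ(P, ⊤) // ∀ x ∈ C, x ∉ P.basicOpen g}, (P.basicOpen g.1 : Set P) := by
    intro x hx
    obtain ⟨_, ⟨g, rfl⟩, hxg, hgC⟩ := Opens.isBasis_iff_nbhd.mp (isBasis_basicOpen P)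
      (show x ∈ (⟨Cᶜ, hC.isOpen_compl⟩ : Opens P) from hd x hx)
    exact Set.mem_iUnion.mpr ⟨⟨g, fun y hy hyg => hgC hyg hy⟩, hxg⟩
  obtain ⟨t, ht⟩ := hK.elim_finite_subcover
    (fun g : {g : Γ(P, ⊤) // ∀ x ∈ C, x ∉ P.basicOpen g} => (P.basicOpen g.1 : Set P))
    (fun g => (P.basicOpen g.1).2) hcov
  refine ⟨t.image Subtype.val, ?_, ?_⟩
  · intro g hg
    obtain ⟨g', -, rfl⟩ := Finset.mem_image.mp hg
    exact g'.2
  · intro x hx
    obtain ⟨g', hg', hxg'⟩ := Set.mem_iUnion₂.mp (ht hx)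
    exact ⟨g'.1, Finset.mem_image.mpr ⟨g', hg', rfl⟩, hxg'⟩

/-- A quasi-compact scheme admits an etale surjection from an affine scheme. -/
theorem exists_affine_etale_surjective (X : Scheme.{u}) [CompactSpace X] :
    ∃ (U : Scheme.{u}) (σ : U ⟶ X), IsAffine U ∧ Etale σ ∧ Surjective σ := by
  let 𝒰 : X.OpenCover := X.affineCover.finiteSubcover
  have : Finite 𝒰.I₀ := by dsimp [𝒰]; infer_instance
  have : ∀ i, IsAffine (𝒰.X i) := by intro i; dsimp [𝒰]; infer_instance
  refine ⟨∐ 𝒰.X, Sigma.desc 𝒰.f, inferInstance, ?_, inferInstance⟩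
  exact IsZariskiLocalAtSource.sigmaDesc (P := @Etale) (fun i => inferInstance)

/-- The image of a closed set under a morphism from a quasi-compact scheme to an affine scheme is
closed as soon as it is stable under specialization. -/
theorem isClosed_image_of_stableUnderSpecialization {U W : Scheme.{u}} [IsAffine W] [CompactSpace U]
    (p : U ⟶ W) (C : Set U) (hC : IsClosed C) (H : StableUnderSpecialization (p '' C)) :
    IsClosed (p '' C) := by
  obtain ⟨R, g, hg⟩ := compactSpace_iff_exists.mp (inferInstance : CompactSpace U)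
  have hinj : Function.Injective W.isoSpec.hom := by
    intro x y hxy
    have hx : W.isoSpec.inv (W.isoSpec.hom x) = x := by
      rw [← Scheme.Hom.comp_apply, Iso.hom_inv_id]; rfl
    have hy : W.isoSpec.inv (W.isoSpec.hom y) = y := by
      rw [← Scheme.Hom.comp_apply, Iso.hom_inv_id]; rfl
    rw [← hx, ← hy, hxy]
  obtain ⟨φ, hφ⟩ := Spec.homEquiv.symm.surjective (g ≫ p ≫ W.isoSpec.hom)
  have h1 : W.isoSpec.hom '' (p '' C) = (g ≫ p ≫ W.isoSpec.hom) '' (g ⁻¹' C) := by
    ext y
    constructor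
    · rintro ⟨_, ⟨x, hx, rfl⟩, rfl⟩
      obtain ⟨r, rfl⟩ := hg x
      exact ⟨r, hx, by simp only [Scheme.Hom.comp_apply]⟩
    · rintro ⟨r, hr, rfl⟩
      exact ⟨p (g r), ⟨g r, hr, rfl⟩, by simp only [Scheme.Hom.comp_apply]⟩
  have h2 : StableUnderSpecialization (W.isoSpec.hom '' (p '' C)) := by
    rintro _ y' hsp ⟨x, hx, rfl⟩
    have hx' : W.isoSpec.inv (W.isoSpec.hom x) = x := by
      rw [← Scheme.Hom.comp_apply, Iso.hom_inv_id]; rfl
    have hy' : W.isoSpec.hom (W.isoSpec.inv y') = y' := by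
      rw [← Scheme.Hom.comp_apply, Iso.inv_hom_id]; rfl
    have := hsp.map W.isoSpec.inv.continuous
    rw [hx'] at this
    exact ⟨W.isoSpec.inv y', H this hx, hy'⟩
  have h3 : IsClosed (W.isoSpec.hom '' (p '' C)) := by
    rw [h1, ← hφ]
    rw [h1, ← hφ] at h2
    exact PrimeSpectrum.isClosed_image_of_stableUnderSpecialization φ.hom (g ⁻¹' C)
      (hC.preimage g.continuous) h2
  have h4 : p '' C = W.isoSpec.hom ⁻¹' (W.isoSpec.hom '' (p '' C)) :=
    (Set.preimage_image_eq _ hinj).symm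
  rw [h4]
  exact h3.preimage W.isoSpec.hom.continuous

/-- A specialization of the image of a point under a morphism locally of finite type to a locally
Noetherian scheme is realised by a discrete valuation ring whose generic point maps to the point. -/
theorem exists_dvr_of_specializes {U V : Scheme.{u}} [IsLocallyNoetherian V] (p : U ⟶ V)
    [LocallyOfFiniteType p] (u : U) (v : V) (hu : p u ⤳ v) :
    ∃ (A : Type u) (_ : CommRing A) (_ : IsDomain A) (_ : IsDiscreteValuationRing A)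
      (h : Spec (CommRingCat.of A) ⟶ V) (x : Spec (CommRingCat.of (FractionRing A)) ⟶ U),
      x ≫ p = Spec.map (CommRingCat.ofHom (algebraMap A (FractionRing A))) ≫ h ∧
      h (IsLocalRing.closedPoint A) = v ∧ ∀ ξ, x ξ = u := by
  by_cases hne : v = p u
  · refine ⟨PowerSeries (U.residueField u), inferInstance, inferInstance, inferInstance,
      Spec.map (CommRingCat.ofHom (algebraMap (U.residueField u) (PowerSeries (U.residueField u)))) ≫
        U.fromSpecResidueField u ≫ p,
      Spec.map (CommRingCat.ofHom ((algebraMap (PowerSeries (U.residueField u))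
        (FractionRing (PowerSeries (U.residueField u)))).comp
        (algebraMap (U.residueField u) (PowerSeries (U.residueField u))))) ≫
        U.fromSpecResidueField u, ?_, ?_, ?_⟩
    · rw [Category.assoc, ← Spec.map_comp_assoc]
      rfl
    · rw [Scheme.Hom.comp_apply, Scheme.Hom.comp_apply, Scheme.fromSpecResidueField_apply, hne]
    · intro ξ
      rw [Scheme.Hom.comp_apply, Scheme.fromSpecResidueField_apply]
  · obtain ⟨A, h, hA, hcl, hgen⟩ := Groth.Agent.S4450.result p u v hu hne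
    let e : FractionRing A ≃ₐ[A] U.residueField u := FractionRing.algEquiv A (U.residueField u)
    have he : CommRingCat.ofHom (algebraMap A (FractionRing A)) =
        CommRingCat.ofHom A.subtype ≫
          CommRingCat.ofHom (e.symm : U.residueField u →+* FractionRing A) := by
      apply CommRingCat.hom_ext
      apply RingHom.ext
      intro a
      exact (e.symm.commutes a).symm
    refine ⟨A, inferInstance, inferInstance, hA, h,
      Spec.map (CommRingCat.ofHom (e.symm : U.residueField u →+* FractionRing A)) ≫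
        U.fromSpecResidueField u, ?_, hcl, ?_⟩
    · rw [Category.assoc, ← hgen, ← Spec.map_comp_assoc, ← he]
    · intro ξ
      rw [Scheme.Hom.comp_apply, Scheme.fromSpecResidueField_apply]

end Groth.Agent.H50.AnClosedSch
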