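import Groth.Agent.H50.AnClosedSch
import Groth.Agent.H52.Charts
import Groth.Agent.H52.FibProd
import Groth.Agent.H52.Points
import Groth.Agent.H52.Univ
import Groth.Agent.H50.Basic

/-! Closedness of all affine base changes from closedness over affine spaces (helper50). -/

set_option autoImplicit false
universe u
open CategoryTheory CategoryTheory.Limits AlgebraicGeometry
open AlgSp

namespace Groth.Agent.H50.AnClosedSp

variable {S : Scheme.{u}}

theorem isPullback_yon_of_left {A B C D : Over S} {f : A ⟶ B} {g : A ⟶ C} {h : B ⟶ D} {k : C ⟶ D}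
    (comm : f ≫ h = g ≫ k) (hpb : IsPullback f.left g.left h.left k.left) :
    IsPullback ((yon S).map f) ((yon S).map g) ((yon S).map h) ((yon S).map k) :=
  (IsPullback.of_map (Over.forget S) comm hpb).map (yon S)

/-- Base change of a chart of `F` over `h_V` to a chart of `F ×_V T`. -/
theorem exists_chart_baseChange {F : Sp S} {V U T UT : Over S} (q : F ⟶ (yon S).obj V)
    (a : (yon S).obj U ⟶ F) (pU : U ⟶ V) (hpU : (yon S).map pU = a ≫ q) (d : T ⟶ V)
    {Q : Sp S} (qfst : Q ⟶ F) (qsnd : Q ⟶ (yon S).obj T)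
    (sqQ : IsPullback qfst qsnd q ((yon S).map d)) (pr₁ : UT ⟶ U) (pr₂ : UT ⟶ T)
    (sqUT : IsPullback ((yon S).map pr₁) ((yon S).map pr₂) ((yon S).map pU) ((yon S).map d)) :
    ∃ aT : (yon S).obj UT ⟶ Q, aT ≫ qfst = (yon S).map pr₁ ≫ a ∧ aT ≫ qsnd = (yon S).map pr₂ ∧
      IsPullback aT ((yon S).map pr₁) qfst a := by
  have hw : ((yon S).map pr₁ ≫ a) ≫ q = (yon S).map pr₂ ≫ (yon S).map d := by
    rw [Category.assoc, ← hpU]; exact sqUT.w
  refine ⟨sqQ.lift _ _ hw, sqQ.lift_fst _ _ _, sqQ.lift_snd _ _ _, ?_⟩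
  refine IsPullback.of_right ?_ (sqQ.lift_fst _ _ _) sqQ.flip
  rw [sqQ.lift_snd, ← hpU]
  exact sqUT.flip

/-- If the base changes of `q : F ⟶ h_{V₀}` to all affine spaces over the affine scheme `V₀` are
closed on points, so are its base changes to all affine schemes over `V₀`. -/
theorem isClosedMap_of_affineSpace_closed
    {V₀ U : Over S} [IsAffine V₀.left] [IsAffine U.left]
    {F : Sp S} (q : F ⟶ (yon S).obj V₀)
    (a : (yon S).obj U ⟶ F) (hae : RepWith @Etale a) (has : Function.Surjective (Points.ofPt a))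
    (pU : U ⟶ V₀) (hpU : (yon S).map pU = a ≫ q)
    (H : ∀ (n : ℕ) (P : Sp S) (fst : P ⟶ F)
      (snd : P ⟶ (yon S).obj (Over.mk ((𝔸(ULift.{u} (Fin n); V₀.left) ↘ V₀.left) ≫ V₀.hom))),
      IsPullback fst snd q ((yon S).map (Over.homMk (𝔸(ULift.{u} (Fin n); V₀.left) ↘ V₀.left))) →
      IsClosedMap (Points.map snd))
    {T : Over S} [IsAffine T.left] (d : T ⟶ V₀)
    {Q : Sp S} (qfst : Q ⟶ F) (qsnd : Q ⟶ (yon S).obj T)
    (sqQ : IsPullback qfst qsnd q ((yon S).map d)) :
    IsClosedMap (Points.map qsnd) := by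
  classical
  have hw : pullback.snd pU.left d.left ≫ T.hom = pullback.fst pU.left d.left ≫ U.hom := by
    rw [← Over.w d, ← Over.w pU, ← Category.assoc, ← Category.assoc, pullback.condition]
  let UT : Over S := Over.mk (pullback.fst pU.left d.left ≫ U.hom)
  let pr₁ : UT ⟶ U := Over.homMk (pullback.fst pU.left d.left) rfl
  let pr₂ : UT ⟶ T := Over.homMk (pullback.snd pU.left d.left) hw
  have hpbUT : IsPullback pr₁.left pr₂.left pU.left d.left := IsPullback.of_hasPullback _ _
  have commUT : pr₁ ≫ pU = pr₂ ≫ d := by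
    apply Over.OverMorphism.ext
    exact pullback.condition
  have sqUT := isPullback_yon_of_left commUT hpbUT
  haveI : IsAffine UT.left := by
    show IsAffine (pullback pU.left d.left)
    infer_instance
  obtain ⟨aT, haT1, haT2, sqaT⟩ := exists_chart_baseChange q a pU hpU d qfst qsnd sqQ pr₁ pr₂ sqUT
  have haTs : Function.Surjective (Points.ofPt aT) := by
    intro t
    obtain ⟨u, hu⟩ := has (Points.map qfst t)
    rw [Points.ofPt_eq_map_ofScheme] at hu
    obtain ⟨ω, hω1, -⟩ :=
      Groth.Agent.H52.exists_point_of_isPullback sqaT t (Points.ofScheme U u) hu.symm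
    obtain ⟨ũ, rfl⟩ := (Points.schemeEquiv UT).surjective ω
    refine ⟨ũ, ?_⟩
    rw [Points.ofPt_eq_map_ofScheme]
    exact hω1
  have hqsndT : ∀ ũ : ↥UT.left,
      Points.map qsnd (Points.ofPt aT ũ) = Points.ofScheme T (pr₂.left ũ) := by
    intro ũ
    rw [Points.map_ofPt, haT2, Points.ofPt_eq_map_ofScheme, Groth.Agent.H52.map_yon_map_ofScheme]
  intro Tc hTc
  have hA : IsClosed (Points.schemeHomeo T ⁻¹' (Points.map qsnd '' Tc)) := by
    rw [← isOpen_compl_iff, isOpen_iff_forall_mem_open]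
    intro z hz
    have hz' : ¬ (Points.schemeHomeo T z ∈ Points.map qsnd '' Tc) := hz
    have hTcU : IsClosed (Points.ofPt aT ⁻¹' Tc) := hTc.preimage (Points.continuous_ofPt aT)
    have hFz : IsCompact (pr₂.left ⁻¹' {z}) := by
      haveI : QuasiCompact pr₂.left := inferInstance
      exact Scheme.Hom.isCompact_preimage_singleton pr₂.left z
    have hdisj : ∀ x ∈ pr₂.left ⁻¹' {z}, x ∉ Points.ofPt aT ⁻¹' Tc := by
      intro ũ hũ hũT
      have hũ' : pr₂.left ũ = z := hũ
      apply hz'
      refine ⟨Points.ofPt aT ũ, hũT, ?_⟩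
      rw [hqsndT, hũ']
      rfl
    obtain ⟨t, htC, htK⟩ := Groth.Agent.H50.AnClosedSch.exists_finset_basicOpen_cover
      (Points.ofPt aT ⁻¹' Tc) hTcU (pr₂.left ⁻¹' {z}) hFz hdisj
    choose sfun hsfun using fun g : Γ(UT.left, ⊤) =>
      Groth.Agent.H50.AnClosedSch.exists_finset_sum_of_isPullback hpbUT g
    obtain ⟨n, ⟨e⟩⟩ : ∃ n : ℕ, Nonempty ((Σ g : ↥t, ↥(sfun g.1)) ≃ Fin n) :=
      ⟨_, ⟨Fintype.equivFin _⟩⟩
    let b : ULift.{u} (Fin n) → Γ(T.left, ⊤) := fun j => (e.symm j.down).2.1.2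
    let Wn : Over S := Over.mk ((𝔸(ULift.{u} (Fin n); V₀.left) ↘ V₀.left) ≫ V₀.hom)
    let πn : Wn ⟶ V₀ := Over.homMk (𝔸(ULift.{u} (Fin n); V₀.left) ↘ V₀.left)
    let UW : Over S := Over.mk ((𝔸(ULift.{u} (Fin n); U.left) ↘ U.left) ≫ U.hom)
    let prUo : UW ⟶ U := Over.homMk (𝔸(ULift.{u} (Fin n); U.left) ↘ U.left)
    have hmapw : AffineSpace.map (ULift.{u} (Fin n)) pU.left ≫ Wn.hom = UW.hom := by
      show AffineSpace.map _ pU.left ≫ (𝔸(_; V₀.left) ↘ V₀.left) ≫ V₀.hom =
        (𝔸(_; U.left) ↘ U.left) ≫ U.hom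
      rw [AffineSpace.map_over_assoc, Over.w pU]
    let mapo : UW ⟶ Wn := Over.homMk (AffineSpace.map (ULift.{u} (Fin n)) pU.left) hmapw
    have commUW : mapo ≫ πn = prUo ≫ pU := by
      apply Over.OverMorphism.ext
      exact AffineSpace.map_over pU.left
    have sqUW : IsPullback ((yon S).map mapo) ((yon S).map prUo) ((yon S).map πn)
        ((yon S).map pU) :=
      isPullback_yon_of_left commUW (AffineSpace.isPullback_map pU.left)
    have hκw : AffineSpace.homOfVector pr₁.left (fun j => pr₂.left.appTop.hom (b j)) ≫ UW.hom =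
        UT.hom := by
      show AffineSpace.homOfVector _ _ ≫ (𝔸(_; U.left) ↘ U.left) ≫ U.hom =
        pullback.fst pU.left d.left ≫ U.hom
      rw [AffineSpace.homOfVector_over_assoc]
      rfl
    let κ : UT ⟶ UW :=
      Over.homMk (AffineSpace.homOfVector pr₁.left (fun j => pr₂.left.appTop.hom (b j))) hκw
    have hδw : AffineSpace.homOfVector d.left b ≫ Wn.hom = T.hom := by
      show AffineSpace.homOfVector _ _ ≫ (𝔸(_; V₀.left) ↘ V₀.left) ≫ V₀.hom = T.hom
      rw [AffineSpace.homOfVector_over_assoc, Over.w d]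
    let δ : T ⟶ Wn := Over.homMk (AffineSpace.homOfVector d.left b) hδw
    have hδπ : δ ≫ πn = d := by
      apply Over.OverMorphism.ext
      exact AffineSpace.homOfVector_over _ _
    have hκ1 : κ ≫ prUo = pr₁ := by
      apply Over.OverMorphism.ext
      exact AffineSpace.homOfVector_over _ _
    have hκ2 : κ ≫ mapo = pr₂ ≫ δ := by
      apply Over.OverMorphism.ext
      show AffineSpace.homOfVector pr₁.left _ ≫ AffineSpace.map _ pU.left =
        pr₂.left ≫ AffineSpace.homOfVector d.left b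
      apply AffineSpace.hom_ext
      · rw [Category.assoc, AffineSpace.map_over, AffineSpace.homOfVector_over_assoc,
          Category.assoc, AffineSpace.homOfVector_over]
        exact pullback.condition
      · intro i
        rw [Scheme.Hom.comp_appTop, Scheme.Hom.comp_appTop, CommRingCat.comp_apply,
          CommRingCat.comp_apply, AffineSpace.map_appTop_coord,
          AffineSpace.homOfVector_appTop_coord, AffineSpace.homOfVector_appTop_coord]
    let coordW : ULift.{u} (Fin n) → Γ(UW.left, ⊤) := fun j => AffineSpace.coord U.left j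
    let g' : ↥t → Γ(UW.left, ⊤) := fun g =>
      ∑ i : ↥(sfun g.1), prUo.left.appTop.hom i.1.1 * coordW (ULift.up (e ⟨g, i⟩))
    have hg' : ∀ g : ↥t, κ.left.appTop.hom (g' g) = g.1 := by
      intro g
      conv_rhs => rw [hsfun g.1, ← Finset.sum_coe_sort]
      show κ.left.appTop.hom (∑ i : ↥(sfun g.1), prUo.left.appTop.hom i.1.1 *
        coordW (ULift.up (e ⟨g, i⟩))) = _
      rw [map_sum]
      refine Finset.sum_congr rfl fun i _ => ?_
      rw [map_mul]
      congr 1
      · have h1 : κ.left ≫ prUo.left = pr₁.left := AffineSpace.homOfVector_over _ _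
        show (κ.left ≫ prUo.left).appTop.hom i.1.1 = pr₁.left.appTop.hom i.1.1
        rw [h1]
      · refine (AffineSpace.homOfVector_appTop_coord _ _ _).trans ?_
        show pr₂.left.appTop.hom ((e.symm (e ⟨g, i⟩)).2.1.2) = _
        rw [Equiv.symm_apply_apply]
    have sqPn := IsPullback.of_hasPullback q ((yon S).map πn)
    obtain ⟨aW, haW1, haW2, sqaW⟩ := exists_chart_baseChange q a pU hpU πn
      (pullback.fst q ((yon S).map πn)) (pullback.snd q ((yon S).map πn)) sqPn prUo mapo sqUW.flip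
    have haWe : RepWith @Etale aW := Groth.Agent.H50.repWith_fst_of_isPullback sqaW hae
    have hkw : qfst ≫ q = (qsnd ≫ (yon S).map δ) ≫ (yon S).map πn := by
      rw [Category.assoc, ← Functor.map_comp, hδπ]; exact sqQ.w
    obtain ⟨k, hk1, hk2⟩ : ∃ k : Q ⟶ pullback q ((yon S).map πn),
        k ≫ pullback.fst q ((yon S).map πn) = qfst ∧
        k ≫ pullback.snd q ((yon S).map πn) = qsnd ≫ (yon S).map δ :=
      ⟨sqPn.lift _ _ hkw, sqPn.lift_fst _ _ _, sqPn.lift_snd _ _ _⟩
    have sqk : IsPullback k qsnd (pullback.snd q ((yon S).map πn)) ((yon S).map δ) := by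
      refine IsPullback.of_right ?_ hk2 sqPn
      rw [hk1, ← Functor.map_comp, hδπ]
      exact sqQ
    have hII : (yon S).map κ ≫ aW = aT ≫ k := by
      apply sqPn.hom_ext
      · rw [Category.assoc, haW1, ← Category.assoc, ← Functor.map_comp, hκ1, Category.assoc, hk1,
          haT1]
      · rw [Category.assoc, haW2, ← Functor.map_comp, hκ2, Functor.map_comp, Category.assoc, hk2,
          ← Category.assoc, haT2]
    have sqII : IsPullback ((yon S).map κ) aT aW k := by
      refine IsPullback.of_right ?_ hII sqaW.flip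
      rw [← Functor.map_comp, hκ1, hk1]
      exact sqaT.flip
    let D : Set ↥UW.left := ⋃ g : ↥t, (UW.left.basicOpen (g' g) : Set ↥UW.left)
    have hD : IsOpen D := isOpen_iUnion fun g => (UW.left.basicOpen (g' g)).2
    have hκD : ∀ (ũ : ↥UT.left) (g : ↥t),
        κ.left ũ ∈ UW.left.basicOpen (g' g) ↔ ũ ∈ UT.left.basicOpen g.1 := by
      intro ũ g
      have h1 : κ.left ⁻¹ᵁ UW.left.basicOpen (g' g) =
          UT.left.basicOpen (κ.left.appTop.hom (g' g)) :=
        Scheme.preimage_basicOpen_top κ.left (g' g)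
      rw [hg' g] at h1
      rw [← h1]
      rfl
    have hopen : IsOpen (Points.ofPt aW '' D) :=
      Groth.Agent.H52.isOpenMap_ofPt_of_etale aW haWe D hD
    have hcl : IsClosed (Points.map (pullback.snd q ((yon S).map πn)) '' (Points.ofPt aW '' D)ᶜ) :=
      H n _ _ _ sqPn _ hopen.isClosed_compl
    refine ⟨δ.left ⁻¹' (Points.schemeHomeo Wn ⁻¹'
      (Points.map (pullback.snd q ((yon S).map πn)) '' (Points.ofPt aW '' D)ᶜ)ᶜ), ?_, ?_, ?_⟩
    · intro z' hz'' hmem
      obtain ⟨tq, htq, htqz⟩ := hmem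
      apply hz''
      refine ⟨Points.map k tq, ?_, ?_⟩
      · rintro ⟨u', hu'D, hu'⟩
        rw [Points.ofPt_eq_map_ofScheme] at hu'
        obtain ⟨ω, hω1, hω2⟩ :=
          Groth.Agent.H52.exists_point_of_isPullback sqII (Points.ofScheme UW u') tq hu'
        obtain ⟨ũ, rfl⟩ := (Points.schemeEquiv UT).surjective ω
        have hκũ : κ.left ũ = u' := by
          apply Groth.Agent.H52.ofScheme_injective
          rw [← Groth.Agent.H52.map_yon_map_ofScheme]
          exact hω1
        have hũT : ũ ∈ Points.ofPt aT ⁻¹' Tc := by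
          show Points.ofPt aT ũ ∈ Tc
          rw [Points.ofPt_eq_map_ofScheme,
            show Points.map aT (Points.ofScheme UT ũ) = tq from hω2]
          exact htq
        obtain ⟨g, hgD⟩ := Set.mem_iUnion.mp hu'D
        rw [← hκũ] at hgD
        exact htC g.1 g.2 ũ hũT ((hκD ũ g).mp hgD)
      · rw [← Points.map_comp, hk2, Points.map_comp, htqz]
        exact Points.map_yon_map_apply δ z'
    · exact (hcl.isOpen_compl.preimage (Points.schemeHomeo Wn).continuous).preimage
        δ.left.continuous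
    · show Points.schemeHomeo Wn (δ.left z) ∉
        Points.map (pullback.snd q ((yon S).map πn)) '' (Points.ofPt aW '' D)ᶜ
      rintro ⟨x'', hx'', hx''z⟩
      have h1 : Points.map (pullback.snd q ((yon S).map πn)) x'' =
          Points.map ((yon S).map δ) (Points.schemeHomeo T z) := by
        rw [hx''z]
        exact (Points.map_yon_map_apply δ z).symm
      obtain ⟨t₀, ht₀1, ht₀2⟩ :=
        Groth.Agent.H52.exists_point_of_isPullback sqk x'' (Points.schemeHomeo T z) h1
      obtain ⟨ũ, rfl⟩ := haTs t₀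
      have hũz : pr₂.left ũ = z := by
        apply Groth.Agent.H52.ofScheme_injective
        rw [← hqsndT]
        exact ht₀2
      obtain ⟨g, hgt, hũg⟩ := htK ũ (show ũ ∈ pr₂.left ⁻¹' {z} from hũz)
      apply hx''
      refine ⟨κ.left ũ, Set.mem_iUnion.mpr ⟨⟨g, hgt⟩, (hκD ũ ⟨g, hgt⟩).mpr hũg⟩, ?_⟩
      rw [← Groth.Agent.H52.ofPt_yon_map_comp, hII, ← ht₀1]
      rfl
  simpa using (Points.schemeHomeo T).symm.isClosed_preimage.2 hA

end Groth.Agent.H50.AnClosedSp
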