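import Groth.Agent.H50.AnClosedSp
import Groth.Agent.H50.MonoPts

/-! Universal closedness from closedness over the affine spaces of an etale chart (helper50). -/

set_option autoImplicit false
universe u
open CategoryTheory CategoryTheory.Limits AlgebraicGeometry
open AlgSp

namespace Groth.Agent.H50.AnUnivClosed

variable {S : Scheme.{u}}

/-- A representable etale morphism from an algebraic space is open on points. -/
theorem isOpenMap_map_of_etale {P' P : Sp S} (hP' : IsAlgSpace P') (j : P' ⟶ P)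
    (hj : RepWith @Etale j) : IsOpenMap (Points.map j) := by
  obtain ⟨U, p, hpe, hps⟩ := hP'.atlas
  have h1 := AlgSp.repWith_isMultiplicative (S := S) @Etale
  have hc : RepWith @Etale (p ≫ j) := (RepWith @Etale).comp_mem _ _ hpe hj
  intro V hV
  have heq : Points.map j '' V = Points.ofPt (p ≫ j) '' (Points.ofPt p ⁻¹' V) := by
    ext x
    constructor
    · rintro ⟨y, hy, rfl⟩
      obtain ⟨u, rfl⟩ := Groth.Agent.H52.surjective_ofPt_of_surjective p hps y
      exact ⟨u, hy, (Points.map_ofPt _ _ _).symm⟩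
    · rintro ⟨u, hu, rfl⟩
      exact ⟨Points.ofPt p u, hu, Points.map_ofPt _ _ _⟩
  rw [heq]
  exact Groth.Agent.H52.isOpenMap_ofPt_of_etale _ hc _ (hV.preimage (Points.continuous_ofPt p))

/-- Closedness on points restricts to open subschemes of the base. -/
theorem isClosedMap_of_isPullback_open {P P' : Sp S} {W W₀ : Over S} (hP' : IsAlgSpace P')
    (snd : P ⟶ (yon S).obj W) (j : W₀ ⟶ W) [IsOpenImmersion j.left]
    (j' : P' ⟶ P) (snd' : P' ⟶ (yon S).obj W₀) (sq : IsPullback j' snd' snd ((yon S).map j))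
    (h : IsClosedMap (Points.map snd)) : IsClosedMap (Points.map snd') := by
  have hje : RepWith @Etale ((yon S).map j) := (repWith_yon_map_iff @Etale j).2 inferInstance
  have hj'e : RepWith @Etale j' := Groth.Agent.H50.repWith_fst_of_isPullback sq hje
  have hopen := isOpenMap_map_of_etale hP' j' hj'e
  haveI : Mono j := Over.mono_of_mono_left j
  haveI : Mono ((yon S).map j) := inferInstance
  haveI : Mono j' := ⟨fun x y hxy => sq.hom_ext hxy (by
    rw [← cancel_mono ((yon S).map j), Category.assoc, Category.assoc, ← sq.w, ← Category.assoc,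
      hxy, Category.assoc])⟩
  have hinj := Groth.Agent.H50.injective_map_of_mono j'
  intro C' hC'
  have hA : IsClosed (Points.schemeHomeo W₀ ⁻¹' (Points.map snd' '' C')) := by
    rw [← isOpen_compl_iff, isOpen_iff_forall_mem_open]
    intro w₀ hw₀
    have hw₀' : ¬ (Points.schemeHomeo W₀ w₀ ∈ Points.map snd' '' C') := hw₀
    have hcl : IsClosed (Points.map snd '' closure (Points.map j' '' C')) := h _ isClosed_closure
    refine ⟨j.left ⁻¹' (Points.schemeHomeo W ⁻¹'
      (Points.map snd '' closure (Points.map j' '' C'))ᶜ), ?_, ?_, ?_⟩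
    · intro w hw hmem
      obtain ⟨c', hc', hc'w⟩ := hmem
      apply hw
      refine ⟨Points.map j' c', subset_closure ⟨c', hc', rfl⟩, ?_⟩
      rw [← Points.map_comp, sq.w, Points.map_comp, hc'w]
      exact Points.map_yon_map_apply j w
    · exact (hcl.isOpen_compl.preimage (Points.schemeHomeo W).continuous).preimage
        j.left.continuous
    · show Points.schemeHomeo W (j.left w₀) ∉ Points.map snd '' closure (Points.map j' '' C')
      rintro ⟨x, hx, hxw⟩
      have h1 : Points.map snd x = Points.map ((yon S).map j) (Points.schemeHomeo W₀ w₀) := by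
        rw [hxw]
        exact (Points.map_yon_map_apply j w₀).symm
      obtain ⟨x', hx'1, hx'2⟩ :=
        Groth.Agent.H52.exists_point_of_isPullback sq x (Points.schemeHomeo W₀ w₀) h1
      have hx'C : x' ∉ C' := fun hmem => hw₀' ⟨x', hmem, hx'2⟩
      have hop : IsOpen (Points.map j' '' C'ᶜ) := hopen _ hC'.isOpen_compl
      have hxin : x ∈ Points.map j' '' C'ᶜ := ⟨x', hx'C, hx'1⟩
      obtain ⟨y, hy1, hy2⟩ := mem_closure_iff.mp hx _ hop hxin
      obtain ⟨y', hy'C, rfl⟩ := hy1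
      obtain ⟨c', hc'C, hc'⟩ := hy2
      exact hy'C (hinj hc' ▸ hc'C)
  simpa using (Points.schemeHomeo W₀).symm.isClosed_preimage.2 hA

/-- The local step: over an affine chart, closedness over the affine spaces of the chart gives
closedness of all base changes to affine schemes over the chart. -/
theorem isClosedMap_affine_local {X Y : AlgSp.Space S} (f : X ⟶ Y)
    (hqc : IsQuasiCompactMor f.hom)
    {V₀o T : Over S} [IsAffine V₀o.left] [IsAffine T.left]
    (b₀ : (yon S).obj V₀o ⟶ Y.obj) (d : T ⟶ V₀o)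
    (H₀ : ∀ (n : ℕ) (P : Sp S) (fst : P ⟶ X.obj)
      (snd : P ⟶ (yon S).obj (Over.mk ((𝔸(ULift.{u} (Fin n); V₀o.left) ↘ V₀o.left) ≫ V₀o.hom))),
      IsPullback fst snd f.hom
        ((yon S).map (Over.homMk (𝔸(ULift.{u} (Fin n); V₀o.left) ↘ V₀o.left)) ≫ b₀) →
      IsClosedMap (Points.map snd))
    {Qi : Sp S} (fsti : Qi ⟶ X.obj) (si : Qi ⟶ (yon S).obj T)
    (sqi : IsPullback fsti si f.hom ((yon S).map d ≫ b₀)) :
    IsClosedMap (Points.map si) := by
  have sqF := IsPullback.of_hasPullback f.hom b₀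
  obtain ⟨U', c', hc'e, hc's, hU'c⟩ := hqc (IsAlgSpace.yon_obj _)
    (Groth.Agent.H52.isQuasiCompactSp_yon V₀o) b₀ _ _ sqF
  haveI : CompactSpace ↥U'.left := hU'c
  obtain ⟨U₀, σ, hU₀a, hσe, hσs⟩ :=
    Groth.Agent.H50.AnClosedSch.exists_affine_etale_surjective U'.left
  haveI : IsAffine (Groth.Agent.H52.overOf σ).left := hU₀a
  obtain ⟨a, ha⟩ : ∃ a : (yon S).obj (Groth.Agent.H52.overOf σ) ⟶ pullback f.hom b₀,
      a = (yon S).map (Groth.Agent.H52.overOfHom σ) ≫ c' := ⟨_, rfl⟩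
  have hae : RepWith @Etale a := by
    rw [ha]
    exact Groth.Agent.H52.repWith_yon_map_comp @Etale (Groth.Agent.H52.overOfHom σ) hσe c' hc'e
  have has : Function.Surjective (Points.ofPt a) := by
    intro x
    obtain ⟨u', rfl⟩ := Groth.Agent.H52.surjective_ofPt_of_surjective c' hc's x
    obtain ⟨u, rfl⟩ := hσs.surj u'
    refine ⟨u, ?_⟩
    rw [ha, Groth.Agent.H52.ofPt_yon_map_comp]
    rfl
  obtain ⟨pU, hpU⟩ := (yon S).map_surjective (a ≫ pullback.snd f.hom b₀)
  have hw : fsti ≫ f.hom = (si ≫ (yon S).map d) ≫ b₀ := by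
    rw [Category.assoc]; exact sqi.w
  have sql : IsPullback (sqF.lift fsti (si ≫ (yon S).map d) hw) si (pullback.snd f.hom b₀)
      ((yon S).map d) :=
    Groth.Agent.H52.isPullback_lift_of_comp_right sqF sqi _ (sqF.lift_fst _ _ _)
      (sqF.lift_snd _ _ _)
  refine Groth.Agent.H50.AnClosedSp.isClosedMap_of_affineSpace_closed (pullback.snd f.hom b₀) a hae
    has pU hpU ?_ d _ si sql
  intro n P fst snd sq
  exact H₀ n P (fst ≫ pullback.fst f.hom b₀) snd (sq.paste_horiz sqF)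

/-- Reduction of universal closedness to affine schemes over affine opens of a chart. -/
theorem isUnivClosedMor_of_affine_local {X Y : Sp S} (f : X ⟶ Y) {V : Over S}
    (p : (yon S).obj V ⟶ Y) (hpe : RepWith @Etale p) (hs : Function.Surjective (Points.ofPt p))
    (Hloc : ∀ (V₀ : V.left.Opens), IsAffineOpen V₀ → ∀ (T : Over S), IsAffine T.left →
      ∀ (d : T ⟶ Groth.Agent.H52.overOpen V V₀) (Qi : Sp S) (fsti : Qi ⟶ X)
        (si : Qi ⟶ (yon S).obj T),
        IsPullback fsti si f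
          ((yon S).map d ≫ ((yon S).map (Groth.Agent.H52.overOpenHom V V₀) ≫ p)) →
        IsClosedMap (Points.map si)) :
    IsUnivClosedMor f := by
  apply Groth.Agent.H52.isUnivClosedMor_of_affine
  intro Z hZ g Q qfst qsnd sqQ
  obtain ⟨T', sndT, fstT, sqT⟩ := hpe.1 g
  have hE : Etale sndT.left := hpe.2 _ _ _ sqT
  obtain ⟨φT, rfl⟩ := (yon S).map_surjective fstT
  have hsurj : ∀ z : ↥Z.left, ∃ t : ↥T'.left, sndT.left t = z := fun z => by
    obtain ⟨v, hv⟩ := hs (Points.ofPt g z)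
    obtain ⟨t, -, ht⟩ := Groth.Agent.H52.exists_of_ofPt_eq_ofPt sqT v z hv
    exact ⟨t, ht⟩
  have hV₀ : ∀ t : ↥T'.left, ∃ V₀ : V.left.Opens, IsAffineOpen V₀ ∧ φT.left t ∈ V₀ := fun t => by
    obtain ⟨_, ⟨(V₀ : V.left.Opens), hV₀, rfl⟩, ht, -⟩ :=
      V.left.isBasis_affineOpens.exists_subset_of_mem_open (Set.mem_univ (φT.left t)) isOpen_univ
    exact ⟨V₀, hV₀, ht⟩
  choose V₀ hV₀a hV₀m using hV₀
  have hO : ∀ t : ↥T'.left, ∃ O : T'.left.Opens, IsAffineOpen O ∧ t ∈ O ∧
      (O : Set ↥T'.left) ⊆ ((φT.left ⁻¹ᵁ V₀ t : T'.left.Opens) : Set ↥T'.left) := fun t => by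
    obtain ⟨_, ⟨(O : T'.left.Opens), hO, rfl⟩, ht, hle⟩ :=
      T'.left.isBasis_affineOpens.exists_subset_of_mem_open
        (show t ∈ ((φT.left ⁻¹ᵁ V₀ t : T'.left.Opens) : Set ↥T'.left) from hV₀m t)
        (φT.left ⁻¹ᵁ V₀ t).2
    exact ⟨O, hO, ht, hle⟩
  choose O hOa hOm hOle using hO
  refine Groth.Agent.H52.isClosedMap_of_refinement qsnd
    (fun t : ↥T'.left => Groth.Agent.H52.overOpen T' (O t))
    (fun t => Groth.Agent.H52.overOpenHom T' (O t) ≫ sndT) (fun t => ?_) (fun z => ?_)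
    (fun t => ?_)
  · have : Etale (Groth.Agent.H52.overOpenHom T' (O t) ≫ sndT).left := by
      change Etale ((O t).ι ≫ sndT.left)
      infer_instance
    exact (Groth.Agent.H52.overOpenHom T' (O t) ≫ sndT).left.isOpenMap
  · obtain ⟨t, rfl⟩ := hsurj z
    exact ⟨t, ⟨t, hOm t⟩, rfl⟩
  · have hrange : Set.range ((O t).ι ≫ φT.left) ⊆ Set.range (V₀ t).ι := by
      rintro _ ⟨x, rfl⟩
      rw [Scheme.Opens.range_ι]
      exact hOle t x.2
    have hdw : IsOpenImmersion.lift (V₀ t).ι ((O t).ι ≫ φT.left) hrange ≫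
        (Groth.Agent.H52.overOpen V (V₀ t)).hom = (Groth.Agent.H52.overOpen T' (O t)).hom := by
      show IsOpenImmersion.lift _ _ _ ≫ (V₀ t).ι ≫ V.hom = (O t).ι ≫ T'.hom
      rw [← Category.assoc, IsOpenImmersion.lift_fac, Category.assoc, Over.w φT]
    obtain ⟨d, hd⟩ : ∃ d : Groth.Agent.H52.overOpen T' (O t) ⟶ Groth.Agent.H52.overOpen V (V₀ t),
        d ≫ Groth.Agent.H52.overOpenHom V (V₀ t) = Groth.Agent.H52.overOpenHom T' (O t) ≫ φT := by
      refine ⟨Over.homMk (IsOpenImmersion.lift (V₀ t).ι ((O t).ι ≫ φT.left) hrange) hdw, ?_⟩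
      apply Over.OverMorphism.ext
      exact IsOpenImmersion.lift_fac _ _ _
    have key : (yon S).map (Groth.Agent.H52.overOpenHom T' (O t) ≫ sndT) ≫ g =
        (yon S).map d ≫ ((yon S).map (Groth.Agent.H52.overOpenHom V (V₀ t)) ≫ p) := by
      rw [Functor.map_comp, Category.assoc, ← sqT.w, ← Category.assoc, ← Category.assoc,
        ← Functor.map_comp, ← Functor.map_comp, hd]
    have sq1 := IsPullback.of_hasPullback qsnd
      ((yon S).map (Groth.Agent.H52.overOpenHom T' (O t) ≫ sndT))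
    have big := sq1.paste_horiz sqQ
    rw [key] at big
    exact ⟨_, _, _, sq1, Hloc (V₀ t) (hV₀a t) (Groth.Agent.H52.overOpen T' (O t)) (hOa t) d _ _ _ big⟩

/-- A quasi-compact morphism of algebraic spaces whose base changes to the affine spaces over one
surjective etale chart of the target are closed on points is universally closed. -/
theorem isUnivClosedMor_of_affineSpace_closed {X Y : AlgSp.Space S} (f : X ⟶ Y)
    (hqc : IsQuasiCompactMor f.hom) (V : Over S) (p : (yon S).obj V ⟶ Y.obj)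
    (hpe : RepWith @Etale p) (hps : RepWith @Surjective p)
    (H : ∀ (n : ℕ) (P : Sp S) (fst : P ⟶ X.obj)
      (snd : P ⟶ (yon S).obj (Over.mk ((𝔸(ULift.{u} (Fin n); V.left) ↘ V.left) ≫ V.hom))),
      IsPullback fst snd f.hom
        ((yon S).map (Over.homMk (𝔸(ULift.{u} (Fin n); V.left) ↘ V.left)) ≫ p) →
      IsClosedMap (Points.map snd)) :
    IsUnivClosedMor f.hom := by
  refine isUnivClosedMor_of_affine_local f.hom p hpe
    (Groth.Agent.H52.surjective_ofPt_of_surjective p hps) ?_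
  intro V₀ hV₀ T hT d Qi fsti si sqi
  haveI : IsAffine (Groth.Agent.H52.overOpen V V₀).left := hV₀
  haveI : IsAffine T.left := hT
  refine isClosedMap_affine_local f hqc
    ((yon S).map (Groth.Agent.H52.overOpenHom V V₀) ≫ p) d ?_ fsti si sqi
  intro n P' fst' snd' sq'
  have hjw : AffineSpace.map (ULift.{u} (Fin n)) V₀.ι ≫
      ((𝔸(ULift.{u} (Fin n); V.left) ↘ V.left) ≫ V.hom) =
      (𝔸(ULift.{u} (Fin n); (Groth.Agent.H52.overOpen V V₀).left) ↘
        (Groth.Agent.H52.overOpen V V₀).left) ≫ (Groth.Agent.H52.overOpen V V₀).hom := by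
    show AffineSpace.map _ V₀.ι ≫ (𝔸(_; V.left) ↘ V.left) ≫ V.hom =
      (𝔸(_; (V₀ : Scheme.{u})) ↘ (V₀ : Scheme.{u})) ≫ V₀.ι ≫ V.hom
    rw [AffineSpace.map_over_assoc]
  obtain ⟨jn, hjn⟩ : ∃ jn : Over.mk ((𝔸(ULift.{u} (Fin n); (Groth.Agent.H52.overOpen V V₀).left) ↘
      (Groth.Agent.H52.overOpen V V₀).left) ≫ (Groth.Agent.H52.overOpen V V₀).hom) ⟶
      Over.mk ((𝔸(ULift.{u} (Fin n); V.left) ↘ V.left) ≫ V.hom),
      jn.left = AffineSpace.map (ULift.{u} (Fin n)) V₀.ι :=
    ⟨Over.homMk (AffineSpace.map (ULift.{u} (Fin n)) V₀.ι) hjw, rfl⟩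
  haveI : IsOpenImmersion jn.left := by
    rw [hjn]
    exact MorphismProperty.of_isPullback (P := @IsOpenImmersion)
      (AffineSpace.isPullback_map V₀.ι).flip inferInstance
  have hcomm : jn ≫ (Over.homMk (𝔸(ULift.{u} (Fin n); V.left) ↘ V.left) :
      Over.mk ((𝔸(ULift.{u} (Fin n); V.left) ↘ V.left) ≫ V.hom) ⟶ V) =
      (Over.homMk (𝔸(ULift.{u} (Fin n); (Groth.Agent.H52.overOpen V V₀).left) ↘
        (Groth.Agent.H52.overOpen V V₀).left) :
        Over.mk ((𝔸(ULift.{u} (Fin n); (Groth.Agent.H52.overOpen V V₀).left) ↘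
          (Groth.Agent.H52.overOpen V V₀).left) ≫ (Groth.Agent.H52.overOpen V V₀).hom) ⟶
          Groth.Agent.H52.overOpen V V₀) ≫ Groth.Agent.H52.overOpenHom V V₀ := by
    apply Over.OverMorphism.ext
    rw [Over.comp_left, Over.comp_left, hjn]
    exact AffineSpace.map_over V₀.ι
  have key : (yon S).map (Over.homMk (𝔸(ULift.{u} (Fin n); (Groth.Agent.H52.overOpen V V₀).left) ↘
        (Groth.Agent.H52.overOpen V V₀).left) :
        Over.mk ((𝔸(ULift.{u} (Fin n); (Groth.Agent.H52.overOpen V V₀).left) ↘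
          (Groth.Agent.H52.overOpen V V₀).left) ≫ (Groth.Agent.H52.overOpen V V₀).hom) ⟶
          Groth.Agent.H52.overOpen V V₀) ≫
      ((yon S).map (Groth.Agent.H52.overOpenHom V V₀) ≫ p) =
      (yon S).map jn ≫ ((yon S).map (Over.homMk (𝔸(ULift.{u} (Fin n); V.left) ↘ V.left) :
        Over.mk ((𝔸(ULift.{u} (Fin n); V.left) ↘ V.left) ≫ V.hom) ⟶ V) ≫ p) := by
    rw [← Category.assoc, ← Category.assoc, ← Functor.map_comp, ← Functor.map_comp, hcomm]
  rw [key] at sq'
  have sqP := IsPullback.of_hasPullback f.hom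
    ((yon S).map (Over.homMk (𝔸(ULift.{u} (Fin n); V.left) ↘ V.left) :
      Over.mk ((𝔸(ULift.{u} (Fin n); V.left) ↘ V.left) ≫ V.hom) ⟶ V) ≫ p)
  have hclosed := H n _ _ _ sqP
  have hw : fst' ≫ f.hom = (snd' ≫ (yon S).map jn) ≫
      ((yon S).map (Over.homMk (𝔸(ULift.{u} (Fin n); V.left) ↘ V.left) :
        Over.mk ((𝔸(ULift.{u} (Fin n); V.left) ↘ V.left) ≫ V.hom) ⟶ V) ≫ p) := by
    rw [Category.assoc]; exact sq'.w
  have sqj := Groth.Agent.H52.isPullback_lift_of_comp_right sqP sq'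
    (sqP.lift fst' (snd' ≫ (yon S).map jn) hw) (sqP.lift_fst _ _ _) (sqP.lift_snd _ _ _)
  have hP' : IsAlgSpace P' :=
    Groth.Agent.H52.isAlgSpace_of_isPullback sq' Y.property.diag X.property (IsAlgSpace.yon_obj _)
  exact isClosedMap_of_isPullback_open hP' _ jn _ snd' sqj hclosed

end Groth.Agent.H50.AnUnivClosed
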