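import Groth.Agent.H50.CartierDescent
import Groth.Agent.H50.AtMor
import Groth.Agent.H25.WeakAssRed
import Groth.Agent.S10810

/-!
# helper50: pulling back effective Cartier divisors when weakly associated points avoid them
-/

set_option autoImplicit false
universe u
open CategoryTheory CategoryTheory.Limits AlgebraicGeometry Opposite
open AlgSp

namespace Groth.Agent.H50

variable {S : Scheme.{u}}

/-- A zero divisor on an affine object of the small etale site vanishes at a weakly associated point of `O_X`. -/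
theorem exists_weakAss_of_zeroDivisor {X : Sp S} (E : EtOver X) [IsAffine E.obj.left.left]
    (a r : Γ(E.obj.left.left, ⊤)) (har : a * r = 0) (hr : r ≠ 0) :
    ∃ u : E.obj.left.left, a ∈ primeAtPt E.obj.left.left u ∧
      Points.ofPt E.obj.hom u ∈ WeakAssEt (unitModEt X) := by
  let s : sectModEt (unitModEt X) E :=
    (show ULift.{u + 1} Γ(E.obj.left.left, ⊤) from ULift.up r)
  have hann : ∀ b, b ∈ annSect s ↔ b * r = 0 :=
    fun b => Groth.Agent.H25.WeakAssRed.mem_annSect_unit_iff E s b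
  have hne : annSect s ≠ ⊤ := by
    intro h
    have h1 : (1 : Γ(E.obj.left.left, ⊤)) ∈ annSect s := h ▸ Submodule.mem_top
    rw [hann, one_mul] at h1
    exact hr h1
  obtain ⟨M, hM, hle⟩ := Ideal.exists_le_maximal _ hne
  haveI := hM.isPrime
  obtain ⟨p, hp, -⟩ := Ideal.exists_minimalPrimes_le hle
  haveI : p.IsPrime := hp.1.1
  obtain ⟨u, hu⟩ := Groth.Agent.S10810.exists_primeAtPt_eq E.obj.left.left p
  refine ⟨u, ?_, E, inferInstance, u, rfl, s, by rw [hu]; exact hp⟩
  rw [hu]
  exact hp.1.2 ((hann a).2 har)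

/-- The inverse image of an effective Cartier divisor is effective Cartier as soon as every zero divisor on an affine
open of the source vanishes at some point mapping outside the divisor. -/
theorem isEffCartierIdeal_comap_of_avoid {W V : Scheme.{u}} (g : W ⟶ V) (K : V.IdealSheafData)
    (hK : BlowUp.IsEffCartierIdeal K)
    (H : ∀ (U' : W.Opens) (_ : IsAffineOpen U') (a r : Γ(U'.toScheme, ⊤)), a * r = 0 → r ≠ 0 →
      ∃ u : U'.toScheme, a ∈ primeAtPt U'.toScheme u ∧ g (U'.ι u) ∉ K.support) :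
    BlowUp.IsEffCartierIdeal (K.comap g) := by
  intro x
  obtain ⟨U, hgxU, t, ht, hI⟩ := hK (g x)
  obtain ⟨U', hU', hxU', hU'U⟩ :=
    exists_isAffineOpen_mem_and_subset (x := x) (U := g ⁻¹ᵁ U.1) hgxU
  haveI : IsAffine U'.toScheme := hU'
  have hmemU' : ∀ z : U'.toScheme, U'.ι z ∈ (U' : Set W) := by
    intro z
    have : U'.ι z ∈ Set.range U'.ι := ⟨z, rfl⟩
    rwa [Scheme.Opens.range_ι] at this
  have hle : (⊤ : U'.toScheme.Opens) ≤ (U'.ι ≫ g) ⁻¹ᵁ U.1 := by
    intro z _
    exact hU'U (hmemU' z)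
  have hEff : BlowUp.IsEffCartierIdeal ((K.comap g).comap U'.ι) := by
    rw [← Scheme.IdealSheafData.comap_comp]
    intro y
    refine ⟨⟨⊤, isAffineOpen_top _⟩, trivial, ((U'.ι ≫ g).appLE U.1 ⊤ hle).hom t, ?_, ?_⟩
    · rw [mem_nonZeroDivisors_iff_right]
      intro r hr0
      by_contra hr
      obtain ⟨u, hu1, hu2⟩ := H U' hU' _ r (by rw [mul_comm]; exact hr0) hr
      apply hu2
      have hguU : g (U'.ι u) ∈ U.1 := hU'U (hmemU' u)
      rw [Scheme.IdealSheafData.mem_support_iff_of_mem hguU, hI, Scheme.mem_zeroLocus_iff]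
      intro f hf hmem
      obtain ⟨c, rfl⟩ := Ideal.mem_span_singleton'.1 hf
      rw [Scheme.basicOpen_mul] at hmem
      have hmem' : g (U'.ι u) ∈ V.basicOpen t := hmem.2
      have h3 : u ∈ U'.toScheme.basicOpen (((U'.ι ≫ g).appLE U.1 ⊤ hle).hom t) := by
        rw [Scheme.basicOpen_appLE]
        exact ⟨trivial, hmem'⟩
      rw [Scheme.mem_basicOpen_top] at h3
      rw [primeAtPt, Ideal.mem_comap, IsLocalRing.mem_maximalIdeal, mem_nonunits_iff] at hu1
      exact hu1 h3
    · rw [Groth.Agent.H9.comap_ideal (U'.ι ≫ g) K U ⟨⊤, isAffineOpen_top _⟩ hle, hI,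
        Ideal.map_span, Set.image_singleton]
  obtain ⟨U₁, hU₁, hp⟩ := exists_isPrincipalNZD_of_comap U'.ι (K.comap g) hEff ⟨x, hxU'⟩
  exact ⟨U₁, hU₁, hp⟩

end Groth.Agent.H50
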