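import Groth.Agent.H50.CartierSp
import Groth.Agent.H50.RingCartier
import Groth.Agent.H9.BlowUp
import Groth.Agent.H52.Topology

/-!
# Etale (flat, locally finitely presented) descent of effective Cartier divisors

* `exists_isPrincipalNZD_of_comap`: if `g : W ⟶ V` is flat and locally of finite presentation and `I.comap g` is an
  effective Cartier ideal sheaf, then `I` is generated by one nonzerodivisor on an affine neighbourhood of every point in
  the image of `g`.
* `isEffCartierIdeal_of_isEffCartierSub`: an effective Cartier divisor (one-chart sense) on a sheaf is cut out by an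
  effective Cartier ideal sheaf on EVERY etale chart.
-/

set_option autoImplicit false
universe u
open CategoryTheory CategoryTheory.Limits AlgebraicGeometry Opposite
open AlgSp

namespace Groth.Agent.H50

theorem mem_basicOpen_of_notMem_primeIdealOf {W : Scheme.{u}} {U : W.Opens} (hU : IsAffineOpen U)
    (w : W) (hw : w ∈ U) (f : Γ(W, U)) (hf : f ∉ (hU.primeIdealOf ⟨w, hw⟩).asIdeal) :
    w ∈ W.basicOpen f := by
  have e := hU.fromSpec_preimage_basicOpen f
  have h1 : hU.primeIdealOf ⟨w, hw⟩ ∈ hU.fromSpec ⁻¹ᵁ W.basicOpen f := by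
    rw [e]
    exact hf
  have h2 : hU.fromSpec (hU.primeIdealOf ⟨w, hw⟩) ∈ W.basicOpen f := h1
  rwa [hU.fromSpec_primeIdealOf ⟨w, hw⟩] at h2

theorem exists_isPrincipalNZD_of_comap {W V : Scheme.{u}} (g : W ⟶ V) [Flat g]
    [LocallyOfFinitePresentation g] (I : V.IdealSheafData)
    (h : BlowUp.IsEffCartierIdeal (I.comap g)) (w : W) :
    ∃ U : V.affineOpens, g w ∈ U.1 ∧ H9.IsPrincipalNZD I U := by
  obtain ⟨_, ⟨U₀, hU₀, rfl⟩, hwU₀, -⟩ := V.isBasis_affineOpens.exists_subset_of_mem_open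
    (Set.mem_univ (g w)) isOpen_univ
  obtain ⟨U', hwU', hU'le, t, ht, hIt⟩ := H9.exists_affine_isPrincipalNZD h (g ⁻¹ᵁ U₀) w hwU₀
  have hflat : (g.appLE U₀ U'.1 hU'le).hom.Flat :=
    HasRingHomProperty.appLE (P := @Flat) g inferInstance ⟨U₀, hU₀⟩ U' hU'le
  have hfp : (g.appLE U₀ U'.1 hU'le).hom.FinitePresentation :=
    HasRingHomProperty.appLE (P := @LocallyOfFinitePresentation) g inferInstance ⟨U₀, hU₀⟩ U' hU'le
  have hI : (I.ideal ⟨U₀, hU₀⟩).map (g.appLE U₀ U'.1 hU'le).hom = Ideal.span {t} := by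
    rw [← H9.comap_ideal g I ⟨U₀, hU₀⟩ U' hU'le, hIt]
  obtain ⟨s, hs, hloc⟩ := exists_away_span_singleton_of_flat _ hflat hfp _ t ht hI
    (U'.2.primeIdealOf ⟨w, hwU'⟩).asIdeal
  haveI := hU₀.isLocalization_basicOpen s
  obtain ⟨a, ha, hIa⟩ := hloc Γ(V, V.basicOpen s)
  refine ⟨V.affineBasicOpen (U := ⟨U₀, hU₀⟩) s, ?_, a, ha, ?_⟩
  · have h1 := mem_basicOpen_of_notMem_primeIdealOf U'.2 w hwU' _ hs
    rw [Scheme.basicOpen_appLE] at h1
    exact h1.2
  · rw [← I.map_ideal_basicOpen ⟨U₀, hU₀⟩ s]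
    exact hIa

variable {S : Scheme.{u}}

/-- Two closed subschemes of charts that are both inverse images of the same closed subspace have the same inverse image
ideal sheaf on a common refinement of the charts. -/
theorem comap_eq_comap_of_isPullback {F D : Sp S} (i : D ⟶ F) (hcl : RepWith @IsClosedImmersion i)
    {U V W : Over S} (ψ : (yon S).obj U ⟶ F) (φ : (yon S).obj V ⟶ F) (pU : W ⟶ U) (pV : W ⟶ V)
    (hw : (yon S).map pV ≫ φ = (yon S).map pU ≫ ψ)
    (I : U.left.IdealSheafData) (fstI : (yon S).obj (vOver U I) ⟶ D)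
    (sqI : IsPullback fstI ((yon S).map (vOverι U I)) i ψ)
    (K : V.left.IdealSheafData) (fstK : (yon S).obj (vOver V K) ⟶ D)
    (sqK : IsPullback fstK ((yon S).map (vOverι V K)) i φ) :
    I.comap pU.left = K.comap pV.left := by
  have sqR1 := hcl.1.isPullback ((yon S).map pU ≫ ψ)
  have sqR2 : IsPullback (hcl.1.fst ((yon S).map pU ≫ ψ))
      ((yon S).map (hcl.1.snd ((yon S).map pU ≫ ψ))) i ((yon S).map pV ≫ φ) := by
    rw [hw]
    exact sqR1
  obtain ⟨l₁, hl₁⟩ := exists_isPullback_of_pullbacks i ψ pU fstI (vOverι U I) sqI _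
    (hcl.1.snd ((yon S).map pU ≫ ψ)) sqR1
  obtain ⟨l₂, hl₂⟩ := exists_isPullback_of_pullbacks i φ pV fstK (vOverι V K) sqK _
    (hcl.1.snd ((yon S).map pU ≫ ψ)) sqR2
  haveI : IsClosedImmersion (vOverι U I).left := inferInstanceAs (IsClosedImmersion I.subschemeι)
  haveI : IsClosedImmersion (vOverι V K).left := inferInstanceAs (IsClosedImmersion K.subschemeι)
  have k1 : (hcl.1.snd ((yon S).map pU ≫ ψ)).left.ker = I.comap pU.left := by
    rw [ker_eq_comap_of_isClosedImmersion hl₁]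
    show (I.subschemeι).ker.comap _ = _
    rw [Scheme.IdealSheafData.ker_subschemeι]
  have k2 : (hcl.1.snd ((yon S).map pU ≫ ψ)).left.ker = K.comap pV.left := by
    rw [ker_eq_comap_of_isClosedImmersion hl₂]
    show (K.subschemeι).ker.comap _ = _
    rw [Scheme.IdealSheafData.ker_subschemeι]
  rw [← k1, k2]

/-- An effective Cartier divisor (one-chart sense) is cut out by an effective Cartier ideal sheaf on every etale chart. -/
theorem isEffCartierIdeal_of_isEffCartierSub {F D : Sp S} {i : D ⟶ F} (hD : IsEffCartierSub i)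
    {U : Over S} (ψ : (yon S).obj U ⟶ F) (hψ : RepWith @Etale ψ) (I : U.left.IdealSheafData)
    (fst : (yon S).obj (vOver U I) ⟶ D) (sq : IsPullback fst ((yon S).map (vOverι U I)) i ψ) :
    BlowUp.IsEffCartierIdeal I := by
  obtain ⟨hcl, V, φ, K, fstK, hφe, hφs, sqK, hK⟩ := hD
  have hrep : Representable φ := hφe.1
  obtain ⟨pV, hpV⟩ := (yon S).map_surjective (hrep.fst ψ)
  have sqW : IsPullback ((yon S).map pV) ((yon S).map (hrep.snd ψ)) φ ψ := by
    rw [hpV]
    exact hrep.isPullback ψ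
  haveI hpUe : Etale (hrep.snd ψ).left := hφe.property ψ _ _ sqW
  have hpUs : Surjective (hrep.snd ψ).left := hφs.property ψ _ _ sqW
  haveI hpVe : Etale pV.left := hψ.property φ _ _ sqW.flip
  have hc : BlowUp.IsEffCartierIdeal (I.comap (hrep.snd ψ).left) := by
    rw [comap_eq_comap_of_isPullback i hcl ψ φ (hrep.snd ψ) pV sqW.w I fst sq K fstK sqK]
    exact H9.isEffCartierIdeal_comap_of_flat pV.left K hK
  intro x
  obtain ⟨w, rfl⟩ := hpUs.surj x
  obtain ⟨U₁, hU₁, f, hf, hIf⟩ := exists_isPrincipalNZD_of_comap (hrep.snd ψ).left I hc w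
  exact ⟨U₁, hU₁, f, hf, hIf⟩

end Groth.Agent.H50
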