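import Groth.Agent.H50.IdealChart
import Groth.Agent.H9.FactorPrincipal

/-!
# Closed subspaces cut out by quasi-coherent ideal families, on arbitrary etale charts

* `ker_eq_chartIdeal_of_isCutOutBy`: if `i : Z ⟶ X` is cut out by the quasi-coherent family `I`, then on EVERY etale chart
  `b : h_T ⟶ X` the ideal sheaf of the pulled back closed subscheme is `chartIdeal I hI b hb`.
* `exists_isPullback_vOver_of_ker_eq`: a represented pullback of a closed immersion may be replaced by the closed subscheme
  of its ideal sheaf.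
* `chartIdeal_mul`: the chart ideal sheaf of a product of families.
-/

set_option autoImplicit false
universe u
open CategoryTheory CategoryTheory.Limits AlgebraicGeometry Opposite
open AlgSp

namespace Groth.Agent.H50

variable {S : Scheme.{u}} {X : Sp S}

theorem isQCoh_mul {I J : IdealEt X} (hI : I.IsQCoh) (hJ : J.IsQCoh) : (I * J).IsQCoh := by
  intro E E' g hE hE'
  show I.ideal E' hE' * J.ideal E' hE' ≤ (I.ideal E hE * J.ideal E hE).map _
  rw [Ideal.map_mul]
  exact Ideal.mul_mono (hI g hE hE') (hJ g hE hE')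

theorem chartIdeal_mul (I J : IdealEt X) (hI : I.IsQCoh) (hJ : J.IsQCoh) {T : Over S}
    (b : (yon S).obj T ⟶ X) (hb : RepWith @Etale b) :
    chartIdeal (I * J) (isQCoh_mul hI hJ) b hb = chartIdeal I hI b hb * chartIdeal J hJ b hb := by
  apply Scheme.IdealSheafData.ext
  funext W
  rw [Scheme.IdealSheafData.ideal_mul, Pi.mul_apply, chartIdeal_ideal, chartIdeal_ideal,
    chartIdeal_ideal, ← Ideal.map_mul]
  rfl

/-- If `i` is cut out by the quasi-coherent family `I`, then on every etale chart (affine or not) the ideal sheaf of the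
pulled back closed subscheme is the chart ideal sheaf of `I`. -/
theorem ker_eq_chartIdeal_of_isCutOutBy (I : IdealEt X) (hI : I.IsQCoh) {Z : Sp S} {i : Z ⟶ X}
    (hcut : IsCutOutBy I i) {T W : Over S} (b : (yon S).obj T ⟶ X) (hb : RepWith @Etale b)
    (fst : (yon S).obj W ⟶ Z) (snd : W ⟶ T) (sq : IsPullback fst ((yon S).map snd) i b) :
    snd.left.ker = chartIdeal I hI b hb := by
  obtain ⟨hi, heq⟩ := hcut
  haveI : IsClosedImmersion snd.left := hi.2 _ _ _ sq
  refine idealSheaf_eq_of_flat_family _ _ (fun Q : T.left.affineOpens => Q.1.ι)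
    (fun Q => inferInstance) (fun x => ?_) (fun Q => ?_)
  · obtain ⟨_, ⟨Q, hQ, rfl⟩, hxQ, -⟩ := T.left.isBasis_affineOpens.exists_subset_of_mem_open
      (Set.mem_univ x) isOpen_univ
    exact ⟨⟨Q, hQ⟩, ⟨x, hxQ⟩, rfl⟩
  · have hbQ := repWith_etale_opOverι_comp b hb Q.1
    have sqQ := hi.1.isPullback ((yon S).map (opOverι T Q.1) ≫ b)
    obtain ⟨l, hl⟩ := exists_isPullback_of_pullbacks i b (opOverι T Q.1) fst snd sq _
      (hi.1.snd ((yon S).map (opOverι T Q.1) ≫ b)) sqQ
    haveI : IsClosedImmersion (hi.1.snd ((yon S).map (opOverι T Q.1) ≫ b)).left :=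
      hi.2 _ _ _ sqQ
    have k1 : (hi.1.snd ((yon S).map (opOverι T Q.1) ≫ b)).left.ker =
        snd.left.ker.comap Q.1.ι := ker_eq_comap_of_isClosedImmersion hl
    have k2 : (chartIdeal I hI b hb).comap Q.1.ι =
        chartIdeal I hI ((yon S).map (opOverι T Q.1) ≫ b) hbQ :=
      comap_chartIdeal I hI b hb _ hbQ (opOverι T Q.1) rfl
    rw [← k1, k2]
    have hQa : IsAffine (opOver T Q.1).left := Q.2
    apply Scheme.IdealSheafData.ext_of_isAffine
    rw [Scheme.Hom.ker_apply]
    have h3 := congrArg (fun K : IdealEt X =>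
      K.ideal (EtOver.mk ((yon S).map (opOverι T Q.1) ≫ b) hbQ) hQa) heq
    exact h3.trans (ideal_eq_chartIdeal_top I hI hQa _ hbQ)

/-- A represented pullback of a closed immersion may be replaced by the closed subscheme of its ideal sheaf. -/
theorem exists_isPullback_vOver_of_ker_eq {Z : Sp S} (i : Z ⟶ X) {T W : Over S}
    (b : (yon S).obj T ⟶ X) (fst : (yon S).obj W ⟶ Z) (snd : W ⟶ T)
    (sq : IsPullback fst ((yon S).map snd) i b) [IsClosedImmersion snd.left]
    (K : T.left.IdealSheafData) (hK : snd.left.ker = K) :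
    ∃ fst' : (yon S).obj (vOver T K) ⟶ Z, IsPullback fst' ((yon S).map (vOverι T K)) i b := by
  subst hK
  obtain ⟨δ, hδ⟩ := exists_lift_vOver snd.left.ker snd le_rfl
  have hle : snd.left.ker ≤ (snd.left.ker.subschemeι).ker := by
    rw [Scheme.IdealSheafData.ker_subschemeι]
  have hε₀ : IsClosedImmersion.lift snd.left snd.left.ker.subschemeι hle ≫ snd.left =
      snd.left.ker.subschemeι := IsClosedImmersion.lift_fac _ _ _
  let ε : vOver T snd.left.ker ⟶ W :=
    Over.homMk (IsClosedImmersion.lift snd.left snd.left.ker.subschemeι hle) (by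
      show _ ≫ W.hom = snd.left.ker.subschemeι ≫ T.hom
      rw [← Over.w snd, ← Category.assoc, hε₀])
  have hε : ε ≫ snd = vOverι T snd.left.ker := by
    apply Over.OverMorphism.ext
    exact hε₀
  have h1 : δ ≫ ε = 𝟙 W := by
    apply Over.OverMorphism.ext
    show δ.left ≫ ε.left = 𝟙 W.left
    rw [← cancel_mono snd.left, Category.assoc, Category.id_comp]
    have := congrArg CommaMorphism.left hε
    simp only [Over.comp_left] at this
    rw [this]
    exact congrArg CommaMorphism.left hδ
  have h2 : ε ≫ δ = 𝟙 (vOver T snd.left.ker) := by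
    apply Over.OverMorphism.ext
    show ε.left ≫ δ.left = 𝟙 _
    rw [← cancel_mono snd.left.ker.subschemeι, Category.assoc, Category.id_comp]
    have := congrArg CommaMorphism.left hδ
    simp only [Over.comp_left] at this
    rw [show δ.left ≫ snd.left.ker.subschemeι = snd.left from this]
    exact hε₀
  refine ⟨(yon S).map ε ≫ fst, ?_⟩
  refine IsPullback.of_iso sq ((yon S).mapIso ⟨δ, ε, h1, h2⟩) (Iso.refl _) (Iso.refl _)
    (Iso.refl _) ?_ ?_ ?_ ?_
  · show fst ≫ 𝟙 _ = (yon S).map δ ≫ (yon S).map ε ≫ fst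
    rw [← Category.assoc, ← Functor.map_comp, h1, CategoryTheory.Functor.map_id, Category.id_comp,
      Category.comp_id]
  · show (yon S).map snd ≫ 𝟙 _ = (yon S).map δ ≫ (yon S).map (vOverι T snd.left.ker)
    rw [← Functor.map_comp, hδ, Category.comp_id]
  · simp
  · simp

end Groth.Agent.H50
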