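import Groth.Agent.H50.ClosedDescSch
import Groth.Agent.H50.OpenSub
import Groth.Agent.H52.EpiFppf
import Groth.Agent.H52.EpiBC
import Mathlib.CategoryTheory.Sites.RegularEpi

/-!
# helper50: closed subspaces of a sheaf from an invariant ideal sheaf on an etale chart

For `a : h_U ⟶ X` representable etale surjective and an ideal sheaf `I` on `U` whose closed subscheme is invariant
under the equivalence relation `U ×_X U`, `closedSub a I` is the image of `V(I) ⟶ U ⟶ X`, a closed subspace of `X`
whose pullback to `U` is `V(I)`.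
-/

set_option autoImplicit false
universe u
open CategoryTheory CategoryTheory.Limits AlgebraicGeometry Opposite

namespace Groth.Agent.H50

open AlgSp Groth.Agent.H52

variable {S : Scheme.{u}}

/-- Diagonal fill-in in the topos of fppf sheaves. -/
theorem factor_of_epi_mono {A B C D : Sp S} (π : A ⟶ B) [Epi π] (j : C ⟶ D) [Mono j]
    (x : A ⟶ C) (y : B ⟶ D) (w : π ≫ y = x ≫ j) : ∃ k : B ⟶ C, k ≫ j = y ∧ π ≫ k = x := by
  have : StrongEpi π := strongEpi_of_epi π
  have sq : CommSq x π j y := ⟨w.symm⟩
  exact ⟨sq.lift, sq.fac_right, sq.fac_left⟩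

/-- The closed subscheme of a scheme over `S` cut out by an ideal sheaf, as a scheme over `S`. -/
noncomputable abbrev vOver (T : Over S) (I : T.left.IdealSheafData) : Over S := Over.mk (I.subschemeι ≫ T.hom)

/-- The inclusion of the closed subscheme cut out by an ideal sheaf. -/
noncomputable abbrev vOverι (T : Over S) (I : T.left.IdealSheafData) : vOver T I ⟶ T := Over.homMk I.subschemeι rfl

theorem exists_lift_vOver {T W : Over S} (I : T.left.IdealSheafData) (β : W ⟶ T)
    (h : I ≤ β.left.ker) : ∃ δ : W ⟶ vOver T I, δ ≫ vOverι T I = β := by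
  obtain ⟨v, hv⟩ := (le_ker_iff_factors I β.left).1 h
  refine ⟨Over.homMk v ?_, ?_⟩
  · change v ≫ (I.subschemeι ≫ T.hom) = W.hom
    rw [← Category.assoc, hv, Over.w]
  · apply Over.OverMorphism.ext
    exact hv

theorem le_ker_of_factors {T W : Over S} (I : T.left.IdealSheafData) (β : W ⟶ T)
    (δ : W ⟶ vOver T I) (h : δ ≫ vOverι T I = β) : I ≤ β.left.ker := by
  refine (le_ker_iff_factors I β.left).2 ⟨δ.left, ?_⟩
  rw [← h]
  rfl

instance mono_yon_map_vOverι (T : Over S) (I : T.left.IdealSheafData) :
    Mono ((yon S).map (vOverι T I)) := by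
  have hml : Mono (vOverι T I).left := inferInstanceAs (Mono I.subschemeι)
  exact mono_yon_map _

section closedSub

variable {X : Sp S} {U : Over S} (a : (yon S).obj U ⟶ X) (I : U.left.IdealSheafData)

/-- The closed subscheme `V(I)` of the chart `U` is invariant under the equivalence relation `U ×_X U`. -/
def Invariant : Prop :=
  ∀ ⦃W : Over S⦄ (w₁ w₂ : W ⟶ U), (yon S).map w₁ ≫ a = (yon S).map w₂ ≫ a →
    I ≤ w₁.left.ker → I ≤ w₂.left.ker

/-- The image of `V(I) ⟶ U ⟶ X`. -/
noncomputable def closedSub : Sp S := Sheaf.image ((yon S).map (vOverι U I) ≫ a)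

/-- The inclusion of `closedSub a I` in `X`. -/
noncomputable def closedSubι : closedSub a I ⟶ X := Sheaf.imageι _

/-- The chart `V(I) ⟶ closedSub a I`. -/
noncomputable def closedSubπ : (yon S).obj (vOver U I) ⟶ closedSub a I := Sheaf.toImage _

instance : Mono (closedSubι a I) :=
  inferInstanceAs (Mono (Sheaf.imageι ((yon S).map (vOverι U I) ≫ a)))

instance : Epi (closedSubπ a I) :=
  inferInstanceAs (Epi (Sheaf.toImage ((yon S).map (vOverι U I) ≫ a)))

theorem closedSubπ_ι : closedSubπ a I ≫ closedSubι a I = (yon S).map (vOverι U I) ≫ a :=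
  Sheaf.toImage_ι _

variable {a I}

/-- Equivalent points of the chart pull `I` back to the same ideal sheaf. -/
theorem Invariant.comap_eq (hI : Invariant a I) {W : Over S} (w₁ w₂ : W ⟶ U)
    (h : (yon S).map w₁ ≫ a = (yon S).map w₂ ≫ a) : I.comap w₁.left = I.comap w₂.left := by
  have key : ∀ (w₁ w₂ : W ⟶ U), (yon S).map w₁ ≫ a = (yon S).map w₂ ≫ a →
      I.comap w₂.left ≤ I.comap w₁.left := by
    intro w₁ w₂ h
    have h1 : I ≤ (vOverι W (I.comap w₁.left) ≫ w₁).left.ker := by
      rw [← comap_eq_bot_iff_le_ker]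
      change I.comap ((I.comap w₁.left).subschemeι ≫ w₁.left) = ⊥
      rw [Scheme.IdealSheafData.comap_comp, comap_subschemeι_eq_bot]
    have h2 : I ≤ (vOverι W (I.comap w₁.left) ≫ w₂).left.ker := by
      refine hI _ _ ?_ h1
      rw [Functor.map_comp, Functor.map_comp, Category.assoc, Category.assoc, h]
    rw [← comap_eq_bot_iff_le_ker] at h2
    change I.comap ((I.comap w₁.left).subschemeι ≫ w₂.left) = ⊥ at h2
    rw [Scheme.IdealSheafData.comap_comp, comap_eq_bot_iff_le_ker,
      Scheme.IdealSheafData.ker_subschemeι] at h2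
    exact h2
  exact le_antisymm (key w₂ w₁ h.symm) (key w₁ w₂ h)

/-- The pullback of `closedSub a I` to the chart `U` is `V(I)`. -/
theorem isPullback_closedSub (hI : Invariant a I) :
    IsPullback (closedSubπ a I) ((yon S).map (vOverι U I)) (closedSubι a I) a := by
  have w := closedSubπ_ι a I
  have hmono : Mono (pullback.lift (closedSubπ a I) ((yon S).map (vOverι U I)) w) := by
    have : Mono (pullback.lift (closedSubπ a I) ((yon S).map (vOverι U I)) w ≫
        pullback.snd (closedSubι a I) a) := by
      rw [pullback.lift_snd]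
      infer_instance
    exact mono_of_mono _ (pullback.snd _ _)
  have hepi : Epi (pullback.lift (closedSubπ a I) ((yon S).map (vOverι U I)) w) := by
    apply epi_of_local_lift
    intro T₂ y
    obtain ⟨Sg, hSg, hlift⟩ := exists_local_lift (closedSubπ a I) (y ≫ pullback.fst _ _)
    refine ⟨Sg, hSg, fun T₃ f hf => ?_⟩
    obtain ⟨v, hv⟩ := hlift f hf
    obtain ⟨v', rfl⟩ := (yon S).map_surjective v
    obtain ⟨β, hβ⟩ := (yon S).map_surjective (((yon S).map f ≫ y) ≫ pullback.snd _ _)
    have heq : (yon S).map (v' ≫ vOverι U I) ≫ a = (yon S).map β ≫ a := by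
      rw [Functor.map_comp, Category.assoc, ← w, ← Category.assoc, hv, hβ]
      simp only [Category.assoc]
      rw [pullback.condition]
    have hle : I ≤ β.left.ker := hI _ _ heq (le_ker_of_factors I _ v' rfl)
    obtain ⟨δ, hδ⟩ := exists_lift_vOver I β hle
    refine ⟨(yon S).map δ, ?_⟩
    apply pullback.hom_ext
    · rw [← cancel_mono (closedSubι a I)]
      simp only [Category.assoc]
      rw [pullback.lift_fst_assoc, w, ← Category.assoc, ← Functor.map_comp, hδ, hβ]
      simp only [Category.assoc]
      rw [pullback.condition]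
    · rw [Category.assoc, pullback.lift_snd, ← Functor.map_comp, hδ, hβ]
  have hiso : IsIso (pullback.lift (closedSubπ a I) ((yon S).map (vOverι U I)) w) :=
    isIso_of_mono_of_epi _
  exact IsPullback.of_iso_pullback ⟨w⟩ (asIso (pullback.lift _ _ w)) (pullback.lift_fst _ _ _)
    (pullback.lift_snd _ _ _)

end closedSub

section rep

variable {X : Sp S} {U : Over S} {a : (yon S).obj U ⟶ X} {I : U.left.IdealSheafData}

/-- Base change of `closedSub a I` along a morphism from a scheme: it is a closed subscheme. -/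
theorem exists_isPullback_closedSubι (ha : RepWith @Etale a) (has : RepWith @Surjective a)
    (hI : Invariant a I) {T : Over S} (ξ : (yon S).obj T ⟶ X) :
    ∃ (J : T.left.IdealSheafData) (k : (yon S).obj (vOver T J) ⟶ closedSub a I),
      IsPullback k ((yon S).map (vOverι T J)) (closedSubι a I) ξ := by
  have hrep : Representable a := ha.rep
  obtain ⟨g, hg⟩ := (yon S).map_surjective (hrep.fst ξ)
  obtain ⟨p, hp⟩ : ∃ p : hrep.pullback ξ ⟶ T, p = hrep.snd ξ := ⟨_, rfl⟩
  have sqT : IsPullback ((yon S).map g) ((yon S).map p) a ξ := by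
    rw [hg, hp]
    exact hrep.isPullback ξ
  haveI hpe : Etale p.left := by rw [hp]; exact ha.property_snd ξ
  haveI hps : Surjective p.left := by rw [hp]; exact has.property_snd ξ
  -- the ideal on the chart and its descent
  have hcompat : (I.comap g.left).comap (pullback.fst p.left p.left) =
      (I.comap g.left).comap (pullback.snd p.left p.left) := by
    rw [← Scheme.IdealSheafData.comap_comp, ← Scheme.IdealSheafData.comap_comp]
    let Q : Over S := Over.mk (pullback.fst p.left p.left ≫ (hrep.pullback ξ).hom)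
    let pr1 : Q ⟶ hrep.pullback ξ := Over.homMk (pullback.fst p.left p.left) rfl
    let pr2 : Q ⟶ hrep.pullback ξ := Over.homMk (pullback.snd p.left p.left) (by
      change pullback.snd p.left p.left ≫ (hrep.pullback ξ).hom =
        pullback.fst p.left p.left ≫ (hrep.pullback ξ).hom
      rw [← Over.w p, ← Category.assoc, ← Category.assoc, pullback.condition])
    have hpr : pr1 ≫ p = pr2 ≫ p := by
      apply Over.OverMorphism.ext
      exact pullback.condition
    have h := hI.comap_eq (pr1 ≫ g) (pr2 ≫ g) (by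
      rw [Functor.map_comp, Functor.map_comp, Category.assoc, Category.assoc, sqT.w,
        ← Category.assoc, ← Category.assoc, ← Functor.map_comp, ← Functor.map_comp, hpr])
    exact h
  obtain ⟨J, hJ⟩ := exists_comap_eq_of_fppf p.left (I.comap g.left) hcompat
  -- maps of closed subschemes
  have hm : J ≤ (vOverι (hrep.pullback ξ) (I.comap g.left) ≫ p).left.ker := by
    rw [← comap_eq_bot_iff_le_ker]
    change J.comap ((I.comap g.left).subschemeι ≫ p.left) = ⊥
    rw [Scheme.IdealSheafData.comap_comp, hJ, comap_subschemeι_eq_bot]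
  obtain ⟨m, hm'⟩ := exists_lift_vOver J _ hm
  have hn : I ≤ (vOverι (hrep.pullback ξ) (I.comap g.left) ≫ g).left.ker := by
    rw [← comap_eq_bot_iff_le_ker]
    change I.comap ((I.comap g.left).subschemeι ≫ g.left) = ⊥
    rw [Scheme.IdealSheafData.comap_comp, comap_subschemeι_eq_bot]
  obtain ⟨n, hn'⟩ := exists_lift_vOver I _ hn
  have sqm : IsPullback (I.comap g.left).subschemeι m.left p.left J.subschemeι :=
    isPullback_of_isClosedImmersion _ _ m.left p.left (by
      have := congrArg (fun φ => φ.left) hm'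
      exact this.symm) (by
      rw [Scheme.IdealSheafData.ker_subschemeι, Scheme.IdealSheafData.ker_subschemeι, hJ])
  haveI : Etale m.left := MorphismProperty.of_isPullback (P := @Etale) sqm hpe
  haveI : Surjective m.left := MorphismProperty.of_isPullback (P := @Surjective) sqm hps
  haveI : Epi ((yon S).map m) := epi_yon_map_of_fppf m
  have e1 : (yon S).map m ≫ (yon S).map (vOverι T J) =
      (yon S).map (vOverι _ (I.comap g.left)) ≫ (yon S).map p := by
    rw [← Functor.map_comp, hm', Functor.map_comp]
  have e2 : (yon S).map n ≫ (yon S).map (vOverι U I) =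
      (yon S).map (vOverι _ (I.comap g.left)) ≫ (yon S).map g := by
    rw [← Functor.map_comp, hn', Functor.map_comp]
  have w' : (yon S).map m ≫ (yon S).map (vOverι T J) ≫ ξ =
      ((yon S).map n ≫ closedSubπ a I) ≫ closedSubι a I := by
    calc (yon S).map m ≫ (yon S).map (vOverι T J) ≫ ξ
        = ((yon S).map m ≫ (yon S).map (vOverι T J)) ≫ ξ := (Category.assoc _ _ _).symm
      _ = ((yon S).map (vOverι _ (I.comap g.left)) ≫ (yon S).map p) ≫ ξ := by rw [e1]
      _ = (yon S).map (vOverι _ (I.comap g.left)) ≫ (yon S).map g ≫ a := by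
        rw [Category.assoc, sqT.w]
      _ = ((yon S).map n ≫ (yon S).map (vOverι U I)) ≫ a := by rw [e2, Category.assoc]
      _ = ((yon S).map n ≫ closedSubπ a I) ≫ closedSubι a I := by
        rw [Category.assoc, Category.assoc, closedSubπ_ι]
  obtain ⟨k, hk, -⟩ := factor_of_epi_mono ((yon S).map m) (closedSubι a I)
    ((yon S).map n ≫ closedSubπ a I) ((yon S).map (vOverι T J) ≫ ξ) w'
  refine ⟨J, k, ?_⟩
  have hmono : Mono (pullback.lift k ((yon S).map (vOverι T J)) hk) := by
    have : Mono (pullback.lift k ((yon S).map (vOverι T J)) hk ≫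
        pullback.snd (closedSubι a I) ξ) := by
      rw [pullback.lift_snd]
      infer_instance
    exact mono_of_mono _ (pullback.snd _ _)
  have hepi : Epi (pullback.lift k ((yon S).map (vOverι T J)) hk) := by
    apply epi_of_local_lift
    intro T₂ y
    refine ⟨⊤, (AlgSp.J S).top_mem T₂, fun T₃ f _ => ?_⟩
    obtain ⟨β, hβ⟩ := (yon S).map_surjective (((yon S).map f ≫ y) ≫ pullback.snd _ _)
    have hβξ : (yon S).map β ≫ ξ =
        (((yon S).map f ≫ y) ≫ pullback.fst _ _) ≫ closedSubι a I := by
      rw [hβ]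
      simp only [Category.assoc]
      rw [pullback.condition]
    obtain ⟨g₂, hg₂⟩ := (yon S).map_surjective (hrep.fst ((yon S).map β ≫ ξ))
    obtain ⟨p₂, hp₂⟩ : ∃ p₂ : hrep.pullback ((yon S).map β ≫ ξ) ⟶ T₃,
      p₂ = hrep.snd ((yon S).map β ≫ ξ) := ⟨_, rfl⟩
    have sq₂ : IsPullback ((yon S).map g₂) ((yon S).map p₂) a ((yon S).map β ≫ ξ) := by
      rw [hg₂, hp₂]
      exact hrep.isPullback _
    haveI : Etale p₂.left := by rw [hp₂]; exact ha.property_snd _
    haveI : Surjective p₂.left := by rw [hp₂]; exact has.property_snd _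
    have hg₂I : I ≤ g₂.left.ker := by
      obtain ⟨l, hl⟩ := (yon S).map_surjective ((isPullback_closedSub hI).lift
        ((yon S).map p₂ ≫ ((yon S).map f ≫ y) ≫ pullback.fst _ _) ((yon S).map g₂) (by
          rw [Category.assoc, ← hβξ, sq₂.w]))
      exact le_ker_of_factors I g₂ l ((yon S).map_injective (by
        rw [Functor.map_comp, hl, IsPullback.lift_snd]))
    obtain ⟨h₂, hh₂⟩ := (yon S).map_surjective (sqT.lift ((yon S).map g₂)
      ((yon S).map (p₂ ≫ β)) (by rw [sq₂.w, Functor.map_comp, Category.assoc]))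
    have hh₂g : h₂ ≫ g = g₂ :=
      (yon S).map_injective (by rw [Functor.map_comp, hh₂, IsPullback.lift_fst])
    have hh₂p : h₂ ≫ p = p₂ ≫ β :=
      (yon S).map_injective (by rw [Functor.map_comp, hh₂, IsPullback.lift_snd])
    have hJβ : J ≤ β.left.ker := by
      rw [← comap_eq_bot_iff_le_ker]
      apply eq_of_comap_eq_of_fppf p₂.left
      rw [Scheme.IdealSheafData.comap_bot, ← Scheme.IdealSheafData.comap_comp]
      have e : p₂.left ≫ β.left = h₂.left ≫ p.left := by
        have := congrArg (fun φ => φ.left) hh₂p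
        exact this.symm
      rw [e, Scheme.IdealSheafData.comap_comp, hJ, ← Scheme.IdealSheafData.comap_comp]
      have e' : h₂.left ≫ g.left = g₂.left := congrArg (fun φ => φ.left) hh₂g
      rw [e', comap_eq_bot_iff_le_ker]
      exact hg₂I
    obtain ⟨δ, hδ⟩ := exists_lift_vOver J β hJβ
    refine ⟨(yon S).map δ, ?_⟩
    apply pullback.hom_ext
    · rw [← cancel_mono (closedSubι a I)]
      simp only [Category.assoc]
      rw [pullback.lift_fst_assoc, hk, ← Category.assoc, ← Functor.map_comp, hδ, hβξ]
      simp only [Category.assoc]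
    · rw [Category.assoc, pullback.lift_snd, ← Functor.map_comp, hδ, hβ]
  have hiso : IsIso (pullback.lift k ((yon S).map (vOverι T J)) hk) := isIso_of_mono_of_epi _
  exact IsPullback.of_iso_pullback ⟨hk⟩ (asIso (pullback.lift _ _ hk)) (pullback.lift_fst _ _ _)
    (pullback.lift_snd _ _ _)

/-- `closedSub a I` is a closed subspace. -/
theorem repWith_isClosedImmersion_closedSubι (ha : RepWith @Etale a) (has : RepWith @Surjective a)
    (hI : Invariant a I) : RepWith @IsClosedImmersion (closedSubι a I) := by
  refine MorphismProperty.relative.of_exists (fun T ξ => ?_)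
  obtain ⟨J, k, sq⟩ := exists_isPullback_closedSubι ha has hI ξ
  refine ⟨_, k, _, sq, ?_⟩
  show IsClosedImmersion J.subschemeι
  infer_instance

theorem isAlgSpace_closedSub (ha : RepWith @Etale a) (has : RepWith @Surjective a)
    (hI : Invariant a I) (hX : IsAlgSpace X) : IsAlgSpace (closedSub a I) :=
  isAlgSpace_of_representable (repWith_isClosedImmersion_closedSubι ha has hI).rep hX

end rep

section compare

variable {X : Sp S} {U : Over S} {a : (yon S).obj U ⟶ X} {I : U.left.IdealSheafData}

/-- If `V(I)` is the pullback to the chart of some morphism to `X`, then `I` is invariant. -/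
theorem invariant_of_isPullback {F : Sp S} (i : F ⟶ X) (b : (yon S).obj (vOver U I) ⟶ F)
    (sq : IsPullback b ((yon S).map (vOverι U I)) i a) : Invariant a I := by
  intro W w₁ w₂ h h1
  obtain ⟨δ, hδ⟩ := exists_lift_vOver I w₁ h1
  obtain ⟨l, hl⟩ := (yon S).map_surjective (sq.lift ((yon S).map δ ≫ b) ((yon S).map w₂) (by
    rw [Category.assoc, sq.w, ← Category.assoc, ← Functor.map_comp, hδ, h]))
  exact le_ker_of_factors I w₂ l ((yon S).map_injective (by
    rw [Functor.map_comp, hl, IsPullback.lift_snd]))

/-- A subobject of `X` whose pullback to the chart is `V(I)` is `closedSub a I`. -/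
theorem exists_iso_closedSub [Epi a] {F : Sp S} (i : F ⟶ X) [Mono i]
    (b : (yon S).obj (vOver U I) ⟶ F) (sq : IsPullback b ((yon S).map (vOverι U I)) i a) :
    ∃ e : F ≅ closedSub a I, e.hom ≫ closedSubι a I = i := by
  haveI : Epi b := epi_fst_of_isPullback sq
  obtain ⟨k₁, hk₁, -⟩ := factor_of_epi_mono b (closedSubι a I) (closedSubπ a I) i (by
    rw [sq.w, closedSubπ_ι])
  obtain ⟨k₂, hk₂, -⟩ := factor_of_epi_mono (closedSubπ a I) i b (closedSubι a I) (by
    rw [closedSubπ_ι, sq.w])
  refine ⟨⟨k₁, k₂, ?_, ?_⟩, hk₁⟩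
  · rw [← cancel_mono i, Category.assoc, hk₂, hk₁, Category.id_comp]
  · rw [← cancel_mono (closedSubι a I), Category.assoc, hk₁, hk₂, Category.id_comp]

/-- Monotonicity of `closedSub` in the ideal. -/
theorem exists_hom_closedSub_of_le {I I' : U.left.IdealSheafData} (h : I' ≤ I) :
    ∃ k : closedSub a I ⟶ closedSub a I', k ≫ closedSubι a I' = closedSubι a I := by
  obtain ⟨δ, hδ⟩ := exists_lift_vOver I' (vOverι U I) (by
    show I' ≤ I.subschemeι.ker
    rw [Scheme.IdealSheafData.ker_subschemeι]
    exact h)
  obtain ⟨k, hk, -⟩ := factor_of_epi_mono (closedSubπ a I) (closedSubι a I')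
    ((yon S).map δ ≫ closedSubπ a I') (closedSubι a I) (by
      rw [closedSubπ_ι, Category.assoc, closedSubπ_ι, ← Category.assoc, ← Functor.map_comp, hδ])
  exact ⟨k, hk⟩

/-- A morphism factors through `closedSub a I` as soon as one epimorphic chart of its source does. -/
theorem exists_factor_closedSub {F : Sp S} (f : F ⟶ X) {W : Over S} (x : (yon S).obj W ⟶ F) [Epi x]
    (v : W ⟶ U) (hxv : x ≫ f = (yon S).map v ≫ a) (hv : I ≤ v.left.ker) :
    ∃ f' : F ⟶ closedSub a I, f' ≫ closedSubι a I = f := by
  obtain ⟨δ, hδ⟩ := exists_lift_vOver I v hv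
  obtain ⟨k, hk, -⟩ := factor_of_epi_mono x (closedSubι a I) ((yon S).map δ ≫ closedSubπ a I) f (by
    rw [hxv, Category.assoc, closedSubπ_ι, ← Category.assoc, ← Functor.map_comp, hδ])
  exact ⟨k, hk⟩

/-- If a morphism factors through `closedSub a I`, every lift of one of its points to the chart factors through
`V(I)`. -/
theorem le_ker_of_factor_closedSub (hI : Invariant a I) {F : Sp S} (f : F ⟶ X)
    (f' : F ⟶ closedSub a I) (hf' : f' ≫ closedSubι a I = f) {W : Over S} (x : (yon S).obj W ⟶ F)
    (v : W ⟶ U) (hxv : x ≫ f = (yon S).map v ≫ a) : I ≤ v.left.ker := by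
  obtain ⟨l, hl⟩ := (yon S).map_surjective ((isPullback_closedSub hI).lift (x ≫ f')
    ((yon S).map v) (by rw [Category.assoc, hf', hxv]))
  exact le_ker_of_factors I v l ((yon S).map_injective (by
    rw [Functor.map_comp, hl, IsPullback.lift_snd]))

theorem repWith_etale_closedSubπ (ha : RepWith @Etale a) (hI : Invariant a I) :
    RepWith @Etale (closedSubπ a I) :=
  repWith_fst_of_isPullback (isPullback_closedSub hI) ha

theorem repWith_surjective_closedSubπ (has : RepWith @Surjective a) (hI : Invariant a I) :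
    RepWith @Surjective (closedSubπ a I) :=
  repWith_fst_of_isPullback (isPullback_closedSub hI) has

/-- The points of `closedSub a I` are the image of the support of `I`. -/
theorem range_map_closedSubι (has : RepWith @Surjective a) (hI : Invariant a I) :
    Set.range (Points.map (closedSubι a I)) = Points.ofPt a '' (I.support : Set ↥U.left) := by
  apply Set.Subset.antisymm
  · rintro _ ⟨z, rfl⟩
    obtain ⟨v, rfl⟩ := surjective_ofPt_of_surjective (closedSubπ a I)
      (repWith_surjective_closedSubπ has hI) z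
    refine ⟨(vOverι U I).left v, ?_, ?_⟩
    · rw [← Scheme.IdealSheafData.range_subschemeι]
      exact ⟨v, rfl⟩
    · rw [← ofPt_yon_map_comp, ← closedSubπ_ι]
      rfl
  · rintro _ ⟨u, hu, rfl⟩
    rw [← Scheme.IdealSheafData.range_subschemeι] at hu
    obtain ⟨v, rfl⟩ := hu
    refine ⟨Points.ofPt (closedSubπ a I) v, ?_⟩
    rw [Points.map_ofPt, closedSubπ_ι, ofPt_yon_map_comp]
    rfl

/-- Invariance from equality of the two pullbacks to the kernel pair. -/
theorem invariant_of_comap_eq {R : Over S} (s t : R ⟶ U)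
    (hR : IsPullback ((yon S).map s) ((yon S).map t) a a)
    (h : I.comap s.left = I.comap t.left) : Invariant a I := by
  intro W w₁ w₂ hw h1
  obtain ⟨r, hr⟩ := (yon S).map_surjective (hR.lift ((yon S).map w₁) ((yon S).map w₂) hw)
  have hr1 : r ≫ s = w₁ :=
    (yon S).map_injective (by rw [Functor.map_comp, hr, IsPullback.lift_fst])
  have hr2 : r ≫ t = w₂ :=
    (yon S).map_injective (by rw [Functor.map_comp, hr, IsPullback.lift_snd])
  rw [← comap_eq_bot_iff_le_ker] at h1 ⊢
  rw [← hr1] at h1
  rw [← hr2]
  change I.comap (r.left ≫ s.left) = ⊥ at h1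
  change I.comap (r.left ≫ t.left) = ⊥
  rw [Scheme.IdealSheafData.comap_comp] at h1 ⊢
  rw [← h]
  exact h1

end compare

/-- Existence of the reduced induced closed subspace structure on a closed subset of the points of an algebraic
space. -/
theorem exists_isRedInduced {X : Sp S} (hX : IsAlgSpace X) (T : Set (Points X)) (hT : IsClosed T) :
    ∃ (Z : Sp S) (i : Z ⟶ X), IsAlgSpace Z ∧ IsRedInduced T i := by
  obtain ⟨U, a, ha, has⟩ := hX.atlas
  let C : TopologicalSpace.Closeds ↥U.left := ⟨Points.ofPt a ⁻¹' T, hT.preimage (Points.continuous_ofPt a)⟩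
  have hrep : Representable a := ha.rep
  obtain ⟨s, hs⟩ := (yon S).map_surjective (hrep.fst a)
  have hR : IsPullback ((yon S).map s) ((yon S).map (hrep.snd a)) a a := by
    rw [hs]
    exact hrep.isPullback a
  haveI hte : Etale (hrep.snd a).left := ha.2 _ _ _ hR
  haveI hse : Etale s.left := ha.2 _ _ _ hR.flip
  have hpre : C.preimage s.left.continuous = C.preimage (hrep.snd a).left.continuous := by
    apply TopologicalSpace.Closeds.ext
    ext r
    show Points.ofPt a (s.left r) ∈ T ↔ Points.ofPt a ((hrep.snd a).left r) ∈ T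
    rw [← ofPt_yon_map_comp, ← ofPt_yon_map_comp, hR.w]
  have hI : Invariant a (Scheme.IdealSheafData.vanishingIdeal C) :=
    invariant_of_comap_eq s (hrep.snd a) hR (by
      rw [comap_vanishingIdeal_of_etale, comap_vanishingIdeal_of_etale, hpre])
  refine ⟨closedSub a (Scheme.IdealSheafData.vanishingIdeal C), closedSubι a _,
    isAlgSpace_closedSub ha has hI hX, repWith_isClosedImmersion_closedSubι ha has hI, ?_, ?_⟩
  · rw [range_map_closedSubι has hI, Scheme.IdealSheafData.coe_support_vanishingIdeal]
    exact Set.image_preimage_eq T (surjective_ofPt_of_surjective a has)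
  · exact ⟨vOver U (Scheme.IdealSheafData.vanishingIdeal C), closedSubπ a _,
      repWith_etale_closedSubπ ha hI, repWith_surjective_closedSubπ has hI,
      isReduced_vanishingIdeal_subscheme C⟩

end Groth.Agent.H50
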