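import Groth.Agent.H50.Descent
import Groth.Prelude.Def_AlgSpSub
import Groth.Agent.H52.Iso
import Mathlib.AlgebraicGeometry.Morphisms.FlatDescent

/-!
# helper50: surjective closed subspaces of reduced spaces
-/

set_option autoImplicit false
universe u
open CategoryTheory CategoryTheory.Limits AlgebraicGeometry Opposite

namespace Groth.Agent.H50

open AlgSp Groth.Agent.H52

variable {S : Scheme.{u}}

/-- If `j` is surjective on points, every base change of `j` to a scheme is surjective. -/
theorem surjective_left_of_surjective_map {F G : Sp S} (j : F ⟶ G)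
    (hs : Function.Surjective (Points.map j)) {T V : Over S} (g : (yon S).obj T ⟶ G)
    (fst : (yon S).obj V ⟶ F) (snd : V ⟶ T) (sq : IsPullback fst ((yon S).map snd) j g) :
    Surjective snd.left := ⟨fun t => by
  obtain ⟨x, hx⟩ := hs (Points.ofPt g t)
  rw [Points.ofPt_eq_map_ofScheme] at hx
  obtain ⟨z, -, hz⟩ := Groth.Agent.H52.exists_point_of_isPullback sq x _ hx
  obtain ⟨v, rfl⟩ := (Points.schemeEquiv V).surjective z
  change Points.map _ (Points.ofScheme V v) = _ at hz
  rw [map_yon_map_ofScheme] at hz
  exact ⟨v, ofScheme_injective T hz⟩⟩

/-- A representable morphism with all base changes isomorphisms is an isomorphism. -/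
theorem isIso_of_repWith_isomorphisms {F G : Sp S} (j : F ⟶ G)
    (hj : RepWith (MorphismProperty.isomorphisms Scheme.{u}) j) : IsIso j := by
  apply isIso_of_representable_of_forall_isIso _ hj.rep
  intro T V' g fst snd sq'
  have h3 : IsIso snd.left := hj.2 _ _ _ sq'
  have h4 : IsIso ((Over.forget S).map snd) := h3
  exact isIso_of_reflects_iso snd (Over.forget S)

/-- A closed subspace of a reduced sheaf (with an etale surjective reduced chart) which is surjective on points is
everything. -/
theorem isIso_of_repWith_isClosedImmersion_of_surjective {F G : Sp S} (j : F ⟶ G)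
    (hj : RepWith @IsClosedImmersion j) (hs : Function.Surjective (Points.map j))
    (hG : IsReducedSp G) : IsIso j := by
  obtain ⟨V, b, hbe, hbs, hV⟩ := hG
  have sqV := hj.rep.isPullback b
  have hci : IsClosedImmersion (hj.rep.snd b).left := hj.property_snd b
  have hsurj : Surjective (hj.rep.snd b).left := surjective_left_of_surjective_map j hs b _ _ sqV
  have : IsReduced V.left := hV
  have hiso : IsIso (hj.rep.snd b).left := isIso_of_isClosedImmersion_of_surjective _
  have hrw : RepWith (MorphismProperty.isomorphisms Scheme.{u}) ((yon S).map (hj.rep.snd b)) :=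
    (repWith_yon_map_iff _ _).2 hiso
  have hdesc : MorphismProperty.DescendsAlong (MorphismProperty.isomorphisms Scheme.{u}) fppfProp :=
    inferInstance
  exact isIso_of_repWith_isomorphisms j (repWith_of_isPullback_atlas hdesc hj.rep hbe hbs sqV hrw)

end Groth.Agent.H50
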