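import Mathlib.AlgebraicGeometry.Morphisms.FinitePresentation
import Mathlib.AlgebraicGeometry.Morphisms.Etale
import Mathlib.AlgebraicGeometry.Morphisms.UniversallyOpen
import Mathlib.AlgebraicGeometry.Morphisms.Flat
import Mathlib.AlgebraicGeometry.PullbackCarrier
import Mathlib.Topology.Constructible

/-!
# helper50: locally constructible sets on schemes: preimages and etale descent
-/

set_option autoImplicit false
universe u
open CategoryTheory CategoryTheory.Limits AlgebraicGeometry Topology
open scoped Set.Notation

namespace Groth.Agent.H50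

theorem isLocallyConstructible_restrict_range {A X : Type*} [TopologicalSpace A] [TopologicalSpace X]
    {j : A → X} (hj : IsOpenEmbedding j) {s : Set X} (hs : IsLocallyConstructible (j ⁻¹' s)) :
    IsLocallyConstructible ((Set.range j) ↓∩ s) := by
  have : (Set.range j) ↓∩ s = hj.isEmbedding.toHomeomorph.symm ⁻¹' (j ⁻¹' s) := by
    ext y
    obtain ⟨a, rfl⟩ := hj.isEmbedding.toHomeomorph.surjective y
    simp only [Set.mem_preimage, Homeomorph.symm_apply_apply]
    rfl
  rw [this]
  exact hs.preimage_of_isOpenEmbedding hj.isEmbedding.toHomeomorph.symm.isOpenEmbedding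

/-- Local constructibility can be checked on open immersions through every point. -/
theorem isLocallyConstructible_of_forall_openImmersion {X : Scheme.{u}} {s : Set X}
    (h : ∀ x : X, ∃ (A : Scheme.{u}) (j : A ⟶ X), IsOpenImmersion j ∧ x ∈ Set.range j ∧
      IsLocallyConstructible (j ⁻¹' s)) : IsLocallyConstructible s := by
  choose A j hj hx hs using h
  haveI := hj
  have hcov : TopologicalSpace.IsOpenCover (fun x : X => (j x).opensRange) := by
    apply TopologicalSpace.IsOpenCover.mk
    rw [eq_top_iff]
    intro x _
    exact TopologicalSpace.Opens.mem_iSup.2 ⟨x, hx x⟩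
  refine IsLocallyConstructible.of_isOpenCover hcov (fun x => ?_)
  exact isLocallyConstructible_restrict_range (j x).isOpenEmbedding (hs x)

/-- The preimage of a locally constructible set under a morphism of schemes is locally constructible. -/
theorem isLocallyConstructible_preimage {X Y : Scheme.{u}} (f : X ⟶ Y) {s : Set Y}
    (hs : IsLocallyConstructible s) : IsLocallyConstructible (f ⁻¹' s) := by
  apply isLocallyConstructible_of_forall_openImmersion
  intro x
  obtain ⟨y, hy⟩ := Y.affineCover.covers (f x)
  obtain ⟨z, hz1, hz2⟩ := Scheme.Pullback.exists_preimage_pullback (f := f)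
    (g := Y.affineCover.f (Y.affineCover.idx (f x))) x y hy.symm
  obtain ⟨a, ha⟩ := (pullback f (Y.affineCover.f (Y.affineCover.idx (f x)))).affineCover.covers z
  refine ⟨_, (pullback f (Y.affineCover.f (Y.affineCover.idx (f x)))).affineCover.f _ ≫
    pullback.fst f (Y.affineCover.f (Y.affineCover.idx (f x))), inferInstance, ⟨a, ?_⟩, ?_⟩
  · rw [Scheme.Hom.comp_apply, ha, hz1]
  · have hs' : IsLocallyConstructible ((Y.affineCover.f (Y.affineCover.idx (f x))) ⁻¹' s) :=
      hs.preimage_of_isOpenEmbedding (Y.affineCover.f _).isOpenEmbedding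
    have hc : IsConstructible ((Y.affineCover.f (Y.affineCover.idx (f x))) ⁻¹' s) := hs'.isConstructible
    have hc' := Scheme.Hom.isConstructible_preimage
      ((pullback f (Y.affineCover.f (Y.affineCover.idx (f x)))).affineCover.f
        ((pullback f (Y.affineCover.f (Y.affineCover.idx (f x)))).affineCover.idx z) ≫
        pullback.snd f (Y.affineCover.f (Y.affineCover.idx (f x)))) hc
    have e : ((pullback f (Y.affineCover.f (Y.affineCover.idx (f x)))).affineCover.f
        ((pullback f (Y.affineCover.f (Y.affineCover.idx (f x)))).affineCover.idx z) ≫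
        pullback.fst f (Y.affineCover.f (Y.affineCover.idx (f x)))) ⁻¹' (f ⁻¹' s) =
        ((pullback f (Y.affineCover.f (Y.affineCover.idx (f x)))).affineCover.f
        ((pullback f (Y.affineCover.f (Y.affineCover.idx (f x)))).affineCover.idx z) ≫
        pullback.snd f (Y.affineCover.f (Y.affineCover.idx (f x)))) ⁻¹'
          ((Y.affineCover.f (Y.affineCover.idx (f x))) ⁻¹' s) := by
      ext w
      simp only [Set.mem_preimage]
      rw [← Scheme.Hom.comp_apply, ← Scheme.Hom.comp_apply, Category.assoc, Category.assoc,
        pullback.condition]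
    rw [e]
    exact hc'.isLocallyConstructible

/-- Local constructibility descends along etale surjective morphisms. -/
theorem isLocallyConstructible_of_preimage_of_etale_surjective {W V : Scheme.{u}} (f : W ⟶ V)
    [Etale f] [Surjective f] {s : Set V} (hs : IsLocallyConstructible (f ⁻¹' s)) :
    IsLocallyConstructible s := by
  apply isLocallyConstructible_of_forall_openImmersion
  intro v
  obtain ⟨w, hw⟩ := ‹Surjective f›.surj v
  obtain ⟨y, hy⟩ := V.affineCover.covers v
  obtain ⟨z, hz1, hz2⟩ := Scheme.Pullback.exists_preimage_pullback (f := f)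
    (g := V.affineCover.f (V.affineCover.idx v)) w y (hw.trans hy.symm)
  obtain ⟨a, ha⟩ := (pullback f (V.affineCover.f (V.affineCover.idx v))).affineCover.covers z
  let g₀ := (pullback f (V.affineCover.f (V.affineCover.idx v))).affineCover.f
      ((pullback f (V.affineCover.f (V.affineCover.idx v))).affineCover.idx z) ≫
      pullback.snd f (V.affineCover.f (V.affineCover.idx v))
  let k₀ := (pullback f (V.affineCover.f (V.affineCover.idx v))).affineCover.f
      ((pullback f (V.affineCover.f (V.affineCover.idx v))).affineCover.idx z) ≫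
      pullback.fst f (V.affineCover.f (V.affineCover.idx v))
  have hsq : k₀ ≫ f = g₀ ≫ V.affineCover.f (V.affineCover.idx v) := by
    simp only [k₀, g₀, Category.assoc, pullback.condition]
  haveI : Etale g₀ := inferInstance
  haveI : QuasiCompact g₀ := inferInstance
  have hs₀ : IsLocallyConstructible (k₀ ⁻¹' (f ⁻¹' s)) :=
    hs.preimage_of_isOpenEmbedding k₀.isOpenEmbedding
  have e₀ : k₀ ⁻¹' (f ⁻¹' s) = g₀ ⁻¹' ((V.affineCover.f (V.affineCover.idx v)) ⁻¹' s) := by
    ext x
    simp only [Set.mem_preimage]
    rw [← Scheme.Hom.comp_apply, ← Scheme.Hom.comp_apply, hsq]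
  rw [e₀] at hs₀
  have him := g₀.isLocallyConstructible_image hs₀
  rw [Set.image_preimage_eq_inter_range] at him
  let V₁ : (V.affineCover.X (V.affineCover.idx v)).Opens := ⟨Set.range g₀, g₀.isOpenMap.isOpen_range⟩
  refine ⟨V₁.toScheme, V₁.ι ≫ V.affineCover.f (V.affineCover.idx v), inferInstance, ?_, ?_⟩
  · refine ⟨⟨g₀ a, a, rfl⟩, ?_⟩
    show (V.affineCover.f (V.affineCover.idx v)) (g₀ a) = v
    rw [← Scheme.Hom.comp_apply, ← hsq, Scheme.Hom.comp_apply]
    have h1 : k₀ a = w := by
      simp only [k₀, Scheme.Hom.comp_apply, ha, hz1]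
    rw [h1, hw]
  · have h2 : (V₁.ι ≫ V.affineCover.f (V.affineCover.idx v)) ⁻¹' s =
        V₁.ι ⁻¹' ((V.affineCover.f (V.affineCover.idx v)) ⁻¹' s ∩ Set.range g₀) := by
      ext x
      simp only [Set.mem_preimage, Set.mem_inter_iff, Scheme.Hom.comp_apply]
      constructor
      · intro h
        exact ⟨h, x.2⟩
      · intro h
        exact h.1
    rw [h2]
    exact him.preimage_of_isOpenEmbedding V₁.ι.isOpenEmbedding

end Groth.Agent.H50
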