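import Groth.Agent.H50.FOThick
import Groth.Prelude.Def_AlgSpModX

/-!
# Closed subspaces cut out by ideals on the affine etale site: factorisation criterion
-/

set_option autoImplicit false
universe u
open CategoryTheory CategoryTheory.Limits AlgebraicGeometry AlgSp

namespace Groth.Agent.H50

variable {S : Scheme.{u}}

/-- Every map from a scheme to an algebraic space factors, locally for an etale covering of the scheme, through affine
etale charts of the space. -/
theorem exists_affine_etale_refinement {X : Sp S} (hX : IsAlgSpace X) {T : Over S}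
    (t : (yon S).obj T ⟶ X) :
    ∃ (A : Type u) (Tk : A → Over S) (g : ∀ k, Tk k ⟶ T) (Vk : A → Over S)
      (c : ∀ k, (yon S).obj (Vk k) ⟶ X) (tk : ∀ k, Tk k ⟶ Vk k),
      (∀ k, IsAffine (Vk k).left) ∧ (∀ k, RepWith @Etale (c k)) ∧ (∀ k, Etale (g k).left) ∧
      (∀ x : T.left, ∃ (k : A) (y : (Tk k).left), (g k).left y = x) ∧
      ∀ k, (yon S).map (g k) ≫ t = (yon S).map (tk k) ≫ c k := by
  obtain ⟨V, b, hb, hbs⟩ := hX.atlas
  obtain ⟨TV, r, tv', sqTV⟩ := hb.1 t
  obtain ⟨tv, rfl⟩ := (yon S).map_surjective tv'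
  have hre : Etale r.left := hb.2 _ _ _ sqTV
  have hrs : Surjective r.left := hbs.2 _ _ _ sqTV
  let Vk : V.left.affineCover.I₀ → Over S := fun k => Over.mk (V.left.affineCover.f k ≫ V.hom)
  let e : ∀ k, Vk k ⟶ V := fun k => Over.homMk (V.left.affineCover.f k) rfl
  have heo : ∀ k, IsOpenImmersion (e k).left := fun k =>
    inferInstanceAs (IsOpenImmersion (V.left.affineCover.f k))
  have hVk : ∀ k, IsAffine (Vk k).left := fun k =>
    inferInstanceAs (IsAffine (V.left.affineCover.X k))
  have hbk : ∀ k, RepWith @Etale ((yon S).map (e k) ≫ b) := fun k =>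
    (repWith_isMultiplicative (S := S) @Etale).comp_mem _ _
      ((repWith_yon_map_iff _ _).2 (haveI := heo k; inferInstance)) hb
  have hrepe : ∀ k, RepWith @IsOpenImmersion ((yon S).map (e k)) := fun k =>
    (repWith_yon_map_iff @IsOpenImmersion (e k)).2 (heo k)
  choose Tk rk tvk' sqTk using fun k => (hrepe k).1 ((yon S).map tv)
  let tvk : ∀ k, Tk k ⟶ Vk k := fun k => (yon S).preimage (tvk' k)
  have htvk : ∀ k, (yon S).map (tvk k) = tvk' k := fun k => (yon S).map_preimage _
  have hrko : ∀ k, IsOpenImmersion (rk k).left := fun k => (hrepe k).2 _ _ _ (sqTk k)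
  refine ⟨V.left.affineCover.I₀, Tk, fun k => rk k ≫ r, Vk, fun k => (yon S).map (e k) ≫ b, tvk,
    hVk, hbk, ?_, ?_, ?_⟩
  · intro k
    haveI := hrko k
    show Etale ((rk k).left ≫ r.left)
    infer_instance
  · intro x
    obtain ⟨z, hz⟩ := hrs.surj x
    obtain ⟨v, hv⟩ := V.left.affineCover.covers (tv.left z)
    have sqS : IsPullback (tvk (V.left.affineCover.idx (tv.left z))).left
        (rk (V.left.affineCover.idx (tv.left z))).left
        (e (V.left.affineCover.idx (tv.left z))).left tv.left := by
      have : IsPullback (tvk (V.left.affineCover.idx (tv.left z)))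
          (rk (V.left.affineCover.idx (tv.left z))) (e (V.left.affineCover.idx (tv.left z))) tv :=
        IsPullback.of_map (yon S) (by
          apply (yon S).map_injective
          rw [Functor.map_comp, Functor.map_comp, htvk]
          exact (sqTk _).w) (by rw [htvk]; exact sqTk _)
      exact this.map (Over.forget S)
    obtain ⟨y, -, hy2⟩ := Scheme.exists_preimage_of_isPullback sqS v z hv
    refine ⟨_, y, ?_⟩
    show ((rk _).left ≫ r.left) y = x
    rw [Scheme.Hom.comp_apply, hy2, hz]
  · intro k
    rw [Functor.map_comp, Category.assoc, ← sqTV.w, ← Category.assoc, ← (sqTk k).w, htvk,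
      Category.assoc]

/-- A morphism to an algebraic space factors through a monomorphism as soon as it does so on all affine etale charts of
the target, compatibly with given represented pullbacks. -/
theorem exists_factor_of_charts {X Z Z' : Sp S} (hX : IsAlgSpace X) (i : Z ⟶ X) [Mono i]
    (i' : Z' ⟶ X) (hi : Representable i) (hi' : Representable i')
    (H : ∀ ⦃V : Over S⦄ (c : (yon S).obj V ⟶ X), IsAffine V.left → RepWith @Etale c →
      ∃ l : hi'.pullback c ⟶ hi.pullback c, l ≫ hi.snd c = hi'.snd c) :
    ∃ k : Z' ⟶ Z, k ≫ i = i' := by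
  have hepi : Epi (pullback.snd i i') := by
    apply epi_of_local_lift
    intro T y
    obtain ⟨A, Tk, g, Vk, c, tk, hVk, hc, hge, hgs, hgt⟩ :=
      exists_affine_etale_refinement hX (y ≫ i')
    refine ⟨Sieve.generate (Presieve.ofArrows Tk g), ?_, ?_⟩
    · refine mem_J_of_fppf_family Tk g hgs (fun k => ?_) (fun k => ?_) _
        (fun k => ⟨_, 𝟙 _, g k, Presieve.ofArrows.mk k, Category.id_comp _⟩)
      · haveI := hge k; infer_instance
      · haveI := hge k; infer_instance
    · rintro T' f ⟨Y, h, g', ⟨k⟩, rfl⟩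
      obtain ⟨l, hl⟩ := H (c k) (hVk k) (hc k)
      have hcomm : ((yon S).map (g k) ≫ y) ≫ i' = (yon S).map (tk k) ≫ c k := by
        rw [Category.assoc]; exact hgt k
      let m : Tk k ⟶ hi'.pullback (c k) := hi'.lift ((yon S).map (g k) ≫ y) (tk k) hcomm
      have hm : m ≫ hi'.snd (c k) = tk k := hi'.lift_snd _ _ _
      have hxz : ((yon S).map (m ≫ l) ≫ hi.fst (c k)) ≫ i = ((yon S).map (g k) ≫ y) ≫ i' := by
        rw [Category.assoc, (hi.isPullback (c k)).w, ← Category.assoc, ← Functor.map_comp,
          Category.assoc, hl, hm, hcomm]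
      refine ⟨(yon S).map h ≫ pullback.lift ((yon S).map (m ≫ l) ≫ hi.fst (c k))
        ((yon S).map (g k) ≫ y) hxz, ?_⟩
      rw [Category.assoc, pullback.lift_snd, Functor.map_comp, Category.assoc]
  obtain ⟨k, hk, -⟩ := factor_of_epi_mono (pullback.snd i i') i (pullback.fst i i') i'
    pullback.condition.symm
  exact ⟨k, hk⟩

/-- Over an affine scheme, a morphism factors through a closed immersion as soon as the kernels on global sections are
nested. -/
theorem exists_lift_of_ker_appTop_le {A B E : Scheme.{u}} [IsAffine E] (π : A ⟶ E) (π' : B ⟶ E)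
    [IsClosedImmersion π]
    (h : RingHom.ker π.appTop.hom ≤ RingHom.ker π'.appTop.hom) : ∃ l : B ⟶ A, l ≫ π = π' := by
  have H : π.ker ≤ π'.ker := by
    rw [Scheme.ker_of_isAffine, Scheme.ker_of_isAffine]
    exact (map_le_map_iff (Scheme.IdealSheafData.equivOfIsAffine (X := E)).symm).2 h
  exact ⟨IsClosedImmersion.lift π π' H, IsClosedImmersion.lift_fac π π' H⟩

end Groth.Agent.H50
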