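import Groth.Agent.H50.AnClosedSch
import Groth.Agent.H52.Charts
import Groth.Agent.H52.FibProd
import Groth.Agent.H52.Points
import Groth.Agent.H52.Univ
import Groth.Agent.H50.Basic
import Groth.Agent.S9984
import Groth.Prelude.Def_AlgSpMor5

/-! Closedness over Noetherian affine bases from lifting along discrete valuation rings (helper50). -/

set_option autoImplicit false
universe u
open CategoryTheory CategoryTheory.Limits AlgebraicGeometry
open AlgSp

namespace Groth.Agent.H50.DVRClosedSp

variable {S : Scheme.{u}}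

/-- If every valuative square of `f` over a discrete valuation ring has a lift after extension, then
the base change of the finite type morphism `f` to a Noetherian affine scheme is closed on points. -/
theorem isClosedMap_of_dvr_lift {X Y : AlgSp.Space S} (f : X ⟶ Y) (hft : IsFiniteTypeMor f.hom)
    (hl : ∀ sq : ValSq f.hom, IsDiscreteValuationRing sq.A → sq.HasLiftExt)
    {W : Over S} [IsAffine W.left] [IsLocallyNoetherian W.left] (g : (yon S).obj W ⟶ Y.obj)
    {P : Sp S} (fst : P ⟶ X.obj) (snd : P ⟶ (yon S).obj W) (sq : IsPullback fst snd f.hom g) :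
    IsClosedMap (Points.map snd) := by
  obtain ⟨hlft, hqc⟩ := hft
  have hP : IsAlgSpace P :=
    Groth.Agent.H52.isAlgSpace_of_isPullback sq Y.property.diag X.property (IsAlgSpace.yon_obj W)
  let PP : AlgSp.Space S := ⟨P, hP⟩
  let WW : AlgSp.Space S := ⟨(yon S).obj W, IsAlgSpace.yon_obj W⟩
  let gW : WW ⟶ Y := ObjectProperty.homMk g
  let fstP : PP ⟶ X := ObjectProperty.homMk fst
  let sndP : PP ⟶ WW := ObjectProperty.homMk snd
  have hsnd : LocP @LocallyOfFiniteType snd :=
    Groth.Agent.S9984.result @LocallyOfFiniteType (Or.inl rfl) f gW fstP sndP sq hlft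
  have hWqc : IsQuasiCompactSp ((yon S).obj W) := Groth.Agent.H52.isQuasiCompactSp_yon W
  obtain ⟨U, c, hce, hcs, hUc⟩ := hqc (IsAlgSpace.yon_obj _) hWqc g fst snd sq
  haveI : CompactSpace ↥U.left := hUc
  obtain ⟨p, hp⟩ := (yon S).map_surjective (c ≫ snd)
  haveI : LocallyOfFiniteType p.left :=
    hsnd c (𝟙 _) p hce (repWith_id @Etale _) (by rw [Category.comp_id, hp])
  have hsurj := Groth.Agent.H52.surjective_ofPt_of_surjective c hcs
  have hsndc : ∀ u : ↥U.left, Points.map snd (Points.ofPt c u) = Points.ofScheme W (p.left u) := by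
    intro u
    rw [← Groth.Agent.H52.map_yon_map_ofScheme, hp, Points.map_comp, ← Points.ofPt_eq_map_ofScheme]
  intro Tc hTc
  have hA : IsClosed (Points.schemeHomeo W ⁻¹' (Points.map snd '' Tc)) := by
    have hC : IsClosed (Points.ofPt c ⁻¹' Tc) := hTc.preimage (Points.continuous_ofPt c)
    have himg : Points.schemeHomeo W ⁻¹' (Points.map snd '' Tc) =
        p.left '' (Points.ofPt c ⁻¹' Tc) := by
      ext w
      constructor
      · rintro ⟨t, ht, htw⟩
        obtain ⟨u, rfl⟩ := hsurj t
        refine ⟨u, ht, ?_⟩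
        apply Groth.Agent.H52.ofScheme_injective
        rw [← hsndc]
        exact htw
      · rintro ⟨u, hu, rfl⟩
        exact ⟨Points.ofPt c u, hu, hsndc u⟩
    rw [himg]
    apply Groth.Agent.H50.AnClosedSch.isClosed_image_of_stableUnderSpecialization p.left _ hC
    intro w w' hww' hw
    obtain ⟨u, hu, rfl⟩ := hw
    obtain ⟨A, iA, iD, iV, h, x, hxh, hcl, hxu⟩ :=
      Groth.Agent.H50.AnClosedSch.exists_dvr_of_specializes p.left u w' hww'
    have hx0 : x ≫ U.hom =
        Spec.map (CommRingCat.ofHom (algebraMap A (FractionRing A))) ≫ h ≫ W.hom := by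
      rw [← Over.w p, ← Category.assoc, hxh, Category.assoc]
    obtain ⟨Hh, hHh⟩ : ∃ Hh : Over.mk (h ≫ W.hom) ⟶ W, Hh.left = h := ⟨Over.homMk h rfl, rfl⟩
    obtain ⟨X', hX'⟩ : ∃ X' : Over.mk (Spec.map (CommRingCat.ofHom
        (algebraMap A (FractionRing A))) ≫ h ≫ W.hom) ⟶ U, X'.left = x := ⟨Over.homMk x hx0, rfl⟩
    have key : X' ≫ p = (Over.homMk (Spec.map (CommRingCat.ofHom
        (algebraMap A (FractionRing A)))) rfl :
        Over.mk (Spec.map (CommRingCat.ofHom (algebraMap A (FractionRing A))) ≫ h ≫ W.hom) ⟶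
          Over.mk (h ≫ W.hom)) ≫ Hh := by
      apply Over.OverMorphism.ext
      rw [Over.comp_left, Over.comp_left, hX', hHh, hxh]
      rfl
    let sqv : ValSq f.hom :=
      { A := A
        K := FractionRing A
        str := h ≫ W.hom
        top := (yon S).map X' ≫ c ≫ fst
        bot := (yon S).map Hh ≫ g
        comm := by
          have e1 : ((yon S).map X' ≫ c ≫ fst) ≫ f.hom = (yon S).map (X' ≫ p) ≫ g := by
            rw [Functor.map_comp, hp]
            simp only [Category.assoc]
            rw [sq.w]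
          rw [e1, key, Functor.map_comp, Category.assoc] }
    obtain ⟨e, l, hl1, hl2⟩ := hl sqv iV
    haveI : IsLocalHom e.φ := e.isLocalHom
    -- the morphisms over `S` between the spectra
    obtain ⟨φm, hφm⟩ : ∃ φm : e.ptA' ⟶ Over.mk (h ≫ W.hom),
        φm = Over.homMk (Spec.map (CommRingCat.ofHom e.φ)) rfl := ⟨_, rfl⟩
    obtain ⟨jA', hjA'⟩ : ∃ jA' : e.ptK' ⟶ e.ptA',
        jA' = Over.homMk (Spec.map (CommRingCat.ofHom (algebraMap e.A' e.K'))) rfl := ⟨_, rfl⟩
    have hψw : Spec.map (CommRingCat.ofHom e.ψ) ≫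
        (Spec.map (CommRingCat.ofHom (algebraMap A (FractionRing A))) ≫ h ≫ W.hom) =
        e.ptK'.hom := by
      change Spec.map _ ≫ Spec.map _ ≫ _ = Spec.map _ ≫ Spec.map _ ≫ _
      rw [← Spec.map_comp_assoc, ← Spec.map_comp_assoc, ← CommRingCat.ofHom_comp,
        ← CommRingCat.ofHom_comp, e.comm]
    obtain ⟨ψm, hψm⟩ : ∃ ψm : e.ptK' ⟶ Over.mk (Spec.map (CommRingCat.ofHom
        (algebraMap A (FractionRing A))) ≫ h ≫ W.hom),
        ψm = Over.homMk (Spec.map (CommRingCat.ofHom e.ψ)) hψw := ⟨_, rfl⟩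
    have hl1' : (yon S).map jA' ≫ l = (yon S).map ψm ≫ (yon S).map X' ≫ c ≫ fst := by
      rw [hjA', hψm]; exact hl1
    have hl2' : l ≫ f.hom = ((yon S).map φm ≫ (yon S).map Hh) ≫ g := by
      rw [hφm, Category.assoc]; exact hl2
    have hcomm : jA' ≫ φm = ψm ≫ (Over.homMk (Spec.map (CommRingCat.ofHom
        (algebraMap A (FractionRing A)))) rfl :
        Over.mk (Spec.map (CommRingCat.ofHom (algebraMap A (FractionRing A))) ≫ h ≫ W.hom) ⟶
          Over.mk (h ≫ W.hom)) := by
      apply Over.OverMorphism.ext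
      rw [hjA', hφm, hψm]
      change Spec.map _ ≫ Spec.map _ = Spec.map _ ≫ Spec.map _
      rw [← Spec.map_comp, ← Spec.map_comp, ← CommRingCat.ofHom_comp, ← CommRingCat.ofHom_comp,
        e.comm]
    obtain ⟨l', hl'1, hl'2⟩ : ∃ l' : (yon S).obj e.ptA' ⟶ P, l' ≫ fst = l ∧
        l' ≫ snd = (yon S).map φm ≫ (yon S).map Hh :=
      ⟨sq.lift l _ hl2', sq.lift_fst _ _ _, sq.lift_snd _ _ _⟩
    -- the image of the closed point lies over `w'`
    have hφs : φm.left (IsLocalRing.closedPoint e.A') = IsLocalRing.closedPoint A := by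
      rw [hφm]
      exact IsLocalRing.comap_closedPoint e.φ
    have hcl' : Points.map snd (Points.ofPt l' (IsLocalRing.closedPoint e.A')) =
        Points.ofScheme W w' := by
      rw [Points.map_ofPt, hl'2, ← Functor.map_comp, Points.ofPt_eq_map_ofScheme,
        Groth.Agent.H52.map_yon_map_ofScheme, Over.comp_left, hHh, Scheme.Hom.comp_apply, hφs, hcl]
    -- the image of the generic point is the image of `u`
    have hjl : (yon S).map jA' ≫ l' = (yon S).map (ψm ≫ X') ≫ c := by
      apply sq.hom_ext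
      · rw [Category.assoc, hl'1, hl1', Functor.map_comp]
        simp only [Category.assoc]
      · rw [Category.assoc, hl'2, Category.assoc, ← hp, ← Functor.map_comp, ← Functor.map_comp,
          ← Functor.map_comp]
        exact congrArg (fun m => (yon S).map m)
          (by rw [← Category.assoc, hcomm, Category.assoc, Category.assoc, key])
    have hgen : Points.ofPt l' (jA'.left (IsLocalRing.closedPoint e.K')) = Points.ofPt c u := by
      rw [← Groth.Agent.H52.ofPt_yon_map_comp, hjl, Groth.Agent.H52.ofPt_yon_map_comp,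
        Over.comp_left, hX', Scheme.Hom.comp_apply, hxu]
    have hsp : Points.ofPt l' (jA'.left (IsLocalRing.closedPoint e.K')) ⤳
        Points.ofPt l' (IsLocalRing.closedPoint e.A') :=
      (IsLocalRing.specializes_closedPoint (R := e.A')
        (jA'.left (IsLocalRing.closedPoint e.K'))).map (Points.continuous_ofPt l')
    have hmem : Points.ofPt l' (IsLocalRing.closedPoint e.A') ∈ Tc := by
      refine hTc.stableUnderSpecialization hsp ?_
      rw [hgen]
      exact hu
    obtain ⟨u'', hu''⟩ := hsurj (Points.ofPt l' (IsLocalRing.closedPoint e.A'))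
    refine ⟨u'', ?_, ?_⟩
    · show Points.ofPt c u'' ∈ Tc
      rw [hu'']
      exact hmem
    · apply Groth.Agent.H52.ofScheme_injective
      rw [← hsndc, hu'', hcl']
  simpa using (Points.schemeHomeo W).symm.isClosed_preimage.2 hA

end Groth.Agent.H50.DVRClosedSp
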