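import Mathlib
import Groth.Agent.H73.KAVal

/-! A valuation ring dominating a discrete valuation ring in a finite separable extension of the
fraction field is a discrete valuation ring (helper50). -/

set_option autoImplicit false
universe u

namespace Groth.Agent.H50.DVRExt

theorem isDiscreteValuationRing_of_domExt {A K A' K' : Type u} [CommRing A] [IsDomain A]
    [IsDiscreteValuationRing A] [Field K] [Algebra A K] [IsFractionRing A K]
    [CommRing A'] [IsDomain A'] [ValuationRing A'] [Field K'] [Algebra A' K'] [IsFractionRing A' K']
    (φ : A →+* A') (ψ : K →+* K') (hcomm : (algebraMap A' K').comp φ = ψ.comp (algebraMap A K))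
    (hloc : IsLocalHom φ)
    (hfin : letI := ψ.toAlgebra; Module.Finite K K')
    (hsep : letI := ψ.toAlgebra; Algebra.IsSeparable K K') :
    IsDiscreteValuationRing A' := by
  letI iKK' : Algebra K K' := ψ.toAlgebra
  letI iAK' : Algebra A K' := ((algebraMap A' K').comp φ).toAlgebra
  letI iAA' : Algebra A A' := φ.toAlgebra
  haveI : IsScalarTower A K K' := IsScalarTower.of_algebraMap_eq (fun a => by
    show ((algebraMap A' K').comp φ) a = ψ (algebraMap A K a)
    rw [hcomm]; rfl)
  haveI : IsScalarTower A A' K' := IsScalarTower.of_algebraMap_eq (fun a => rfl)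
  haveI : FiniteDimensional K K' := hfin
  haveI : Algebra.IsSeparable K K' := hsep
  haveI : IsDedekindDomain (integralClosure A K') := integralClosure.isDedekindDomain A K K'
  haveI : IsFractionRing (integralClosure A K') K' :=
    integralClosure.isFractionRing_of_finite_extension K K'
  let V : ValuationSubring K' := (ValuationRing.valuation A' K').valuationSubring
  have hV : ∀ x : K', x ∈ V ↔ ∃ a : A', algebraMap A' K' a = x :=
    fun x => ValuationRing.mem_integer_iff A' K' x
  have hRV : ∀ r : integralClosure A K', algebraMap (integralClosure A K') K' r ∈ V := by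
    intro r
    rw [hV]
    have h1 : IsIntegral A (r : K') := r.2
    have h2 : IsIntegral A' (r : K') := h1.tower_top
    exact IsIntegrallyClosed.isIntegral_iff.mp h2
  obtain ⟨π, hπ⟩ := IsDiscreteValuationRing.exists_irreducible A
  have hinj : Function.Injective (algebraMap A K') := by
    show Function.Injective ((algebraMap A' K').comp φ)
    rw [hcomm]
    exact ψ.injective.comp (IsFractionRing.injective A K)
  have ha₀ : algebraMap A (integralClosure A K') π ≠ 0 := by
    intro h0
    have h1 : algebraMap A K' π = 0 := by
      have := congrArg (algebraMap (integralClosure A K') K') h0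
      rwa [← IsScalarTower.algebraMap_apply, map_zero] at this
    exact hπ.ne_zero (hinj (by rw [h1, map_zero]))
  have hv : V.valuation (algebraMap (integralClosure A K') K'
      (algebraMap A (integralClosure A K') π)) < 1 := by
    rw [← IsScalarTower.algebraMap_apply]
    have hmem : algebraMap A K' π ∈ V := (hV _).mpr ⟨φ π, rfl⟩
    refine (V.valuation_lt_one_iff ⟨algebraMap A K' π, hmem⟩).mp ?_
    rw [IsLocalRing.mem_maximalIdeal, mem_nonunits_iff]
    intro hu
    obtain ⟨⟨z, hz⟩, hzu⟩ := hu.exists_right_inv
    obtain ⟨y', rfl⟩ := (hV z).mp hz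
    have h1 : algebraMap A' K' (φ π * y') = 1 := by
      rw [map_mul]
      exact congrArg Subtype.val hzu
    have h2 : φ π * y' = 1 := (IsFractionRing.injective A' K') (by rw [h1, map_one])
    have h3 : IsUnit (φ π) := IsUnit.of_mul_eq_one _ h2
    exact hπ.not_isUnit (hloc.map_nonunit π h3)
  haveI : IsDiscreteValuationRing V :=
    Groth.Agent.H73.KA.isDiscreteValuationRing_of_le (R := integralClosure A K') V hRV _ ha₀ hv
  let e : A' ≃+* V := RingEquiv.ofBijective
    ((algebraMap A' K').codRestrict V.toSubring (fun a => (hV _).mpr ⟨a, rfl⟩))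
    ⟨fun a b hab => IsFractionRing.injective A' K' (congrArg Subtype.val hab), fun ⟨x, hx⟩ => by
      obtain ⟨a, rfl⟩ := (hV x).mp hx
      exact ⟨a, rfl⟩⟩
  exact IsDiscreteValuationRing.RingEquivClass.isDiscreteValuationRing e.symm

end Groth.Agent.H50.DVRExt
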