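import Groth.Agent.H50.AnClosedSp
import Groth.Agent.H50.DVRClosedSp

/-! Universal closedness from lifting along discrete valuation rings, over a locally Noetherian base
(helper50). -/

set_option autoImplicit false
universe u
open CategoryTheory CategoryTheory.Limits AlgebraicGeometry
open AlgSp

namespace Groth.Agent.H50.DVRUnivClosed

variable {S : Scheme.{u}}

/-- The local step: base changes to affine schemes over a Noetherian affine chart are closed. -/
theorem isClosedMap_of_dvr_lift_affine_local {X Y : AlgSp.Space S} (f : X ⟶ Y)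
    (hft : IsFiniteTypeMor f.hom)
    (hl : ∀ sq : ValSq f.hom, IsDiscreteValuationRing sq.A → sq.HasLiftExt)
    {V₀o T : Over S} [IsAffine V₀o.left] [IsLocallyNoetherian V₀o.left] [IsAffine T.left]
    (b₀ : (yon S).obj V₀o ⟶ Y.obj) (d : T ⟶ V₀o)
    {Qi : Sp S} (fsti : Qi ⟶ X.obj) (si : Qi ⟶ (yon S).obj T)
    (sqi : IsPullback fsti si f.hom ((yon S).map d ≫ b₀)) :
    IsClosedMap (Points.map si) := by
  obtain ⟨hlft, hqc⟩ := hft
  have sqF := IsPullback.of_hasPullback f.hom b₀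
  obtain ⟨U', c', hc'e, hc's, hU'c⟩ := hqc (IsAlgSpace.yon_obj _)
    (Groth.Agent.H52.isQuasiCompactSp_yon V₀o) b₀ _ _ sqF
  haveI : CompactSpace ↥U'.left := hU'c
  obtain ⟨U₀, σ, hU₀a, hσe, hσs⟩ :=
    Groth.Agent.H50.AnClosedSch.exists_affine_etale_surjective U'.left
  haveI : IsAffine (Groth.Agent.H52.overOf σ).left := hU₀a
  obtain ⟨a, ha⟩ : ∃ a : (yon S).obj (Groth.Agent.H52.overOf σ) ⟶ pullback f.hom b₀,
      a = (yon S).map (Groth.Agent.H52.overOfHom σ) ≫ c' := ⟨_, rfl⟩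
  have hae : RepWith @Etale a := by
    rw [ha]
    exact Groth.Agent.H52.repWith_yon_map_comp @Etale (Groth.Agent.H52.overOfHom σ) hσe c' hc'e
  have has : Function.Surjective (Points.ofPt a) := by
    intro x
    obtain ⟨u', rfl⟩ := Groth.Agent.H52.surjective_ofPt_of_surjective c' hc's x
    obtain ⟨u, rfl⟩ := hσs.surj u'
    refine ⟨u, ?_⟩
    rw [ha, Groth.Agent.H52.ofPt_yon_map_comp]
    rfl
  obtain ⟨pU, hpU⟩ := (yon S).map_surjective (a ≫ pullback.snd f.hom b₀)
  have hw : fsti ≫ f.hom = (si ≫ (yon S).map d) ≫ b₀ := by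
    rw [Category.assoc]; exact sqi.w
  have sql : IsPullback (sqF.lift fsti (si ≫ (yon S).map d) hw) si (pullback.snd f.hom b₀)
      ((yon S).map d) :=
    Groth.Agent.H52.isPullback_lift_of_comp_right sqF sqi _ (sqF.lift_fst _ _ _)
      (sqF.lift_snd _ _ _)
  refine Groth.Agent.H50.AnClosedSp.isClosedMap_of_affineSpace_closed (pullback.snd f.hom b₀) a hae
    has pU hpU ?_ d _ si sql
  intro n P fst snd sq
  haveI h1 : IsAffine (Over.mk ((𝔸(ULift.{u} (Fin n); V₀o.left) ↘ V₀o.left) ≫ V₀o.hom)).left :=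
    (inferInstance : IsAffine 𝔸(ULift.{u} (Fin n); V₀o.left))
  haveI h2 : IsLocallyNoetherian
      (Over.mk ((𝔸(ULift.{u} (Fin n); V₀o.left) ↘ V₀o.left) ≫ V₀o.hom)).left :=
    LocallyOfFiniteType.isLocallyNoetherian (𝔸(ULift.{u} (Fin n); V₀o.left) ↘ V₀o.left)
  exact Groth.Agent.H50.DVRClosedSp.isClosedMap_of_dvr_lift f ⟨hlft, hqc⟩ hl _
    (fst ≫ pullback.fst f.hom b₀) snd (sq.paste_horiz sqF)

/-- Over a locally Noetherian base, a morphism of finite type all of whose valuative squares over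
discrete valuation rings have a lift after extension is universally closed. -/
theorem isUnivClosedMor_of_dvr_lift {X Y : AlgSp.Space S} (f : X ⟶ Y) (hft : IsFiniteTypeMor f.hom)
    (hY : IsLocNoethSp Y.obj)
    (hl : ∀ sq : ValSq f.hom, IsDiscreteValuationRing sq.A → sq.HasLiftExt) :
    IsUnivClosedMor f.hom := by
  obtain ⟨V, p, hpe, hps, hVn⟩ := hY
  haveI : IsLocallyNoetherian V.left := hVn
  have hs := Groth.Agent.H52.surjective_ofPt_of_surjective p hps
  apply Groth.Agent.H52.isUnivClosedMor_of_affine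
  intro Z hZ g Q qfst qsnd sqQ
  obtain ⟨T', sndT, fstT, sqT⟩ := hpe.1 g
  have hE : Etale sndT.left := hpe.2 _ _ _ sqT
  obtain ⟨φT, rfl⟩ := (yon S).map_surjective fstT
  have hsurj : ∀ z : ↥Z.left, ∃ t : ↥T'.left, sndT.left t = z := fun z => by
    obtain ⟨v, hv⟩ := hs (Points.ofPt g z)
    obtain ⟨t, -, ht⟩ := Groth.Agent.H52.exists_of_ofPt_eq_ofPt sqT v z hv
    exact ⟨t, ht⟩
  have hV₀ : ∀ t : ↥T'.left, ∃ V₀ : V.left.Opens, IsAffineOpen V₀ ∧ φT.left t ∈ V₀ := fun t => by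
    obtain ⟨_, ⟨(V₀ : V.left.Opens), hV₀, rfl⟩, ht, -⟩ :=
      V.left.isBasis_affineOpens.exists_subset_of_mem_open (Set.mem_univ (φT.left t)) isOpen_univ
    exact ⟨V₀, hV₀, ht⟩
  choose V₀ hV₀a hV₀m using hV₀
  have hO : ∀ t : ↥T'.left, ∃ O : T'.left.Opens, IsAffineOpen O ∧ t ∈ O ∧
      (O : Set ↥T'.left) ⊆ ((φT.left ⁻¹ᵁ V₀ t : T'.left.Opens) : Set ↥T'.left) := fun t => by
    obtain ⟨_, ⟨(O : T'.left.Opens), hO, rfl⟩, ht, hle⟩ :=
      T'.left.isBasis_affineOpens.exists_subset_of_mem_open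
        (show t ∈ ((φT.left ⁻¹ᵁ V₀ t : T'.left.Opens) : Set ↥T'.left) from hV₀m t)
        (φT.left ⁻¹ᵁ V₀ t).2
    exact ⟨O, hO, ht, hle⟩
  choose O hOa hOm hOle using hO
  refine Groth.Agent.H52.isClosedMap_of_refinement qsnd
    (fun t : ↥T'.left => Groth.Agent.H52.overOpen T' (O t))
    (fun t => Groth.Agent.H52.overOpenHom T' (O t) ≫ sndT) (fun t => ?_) (fun z => ?_)
    (fun t => ?_)
  · have : Etale (Groth.Agent.H52.overOpenHom T' (O t) ≫ sndT).left := by
      change Etale ((O t).ι ≫ sndT.left)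
      infer_instance
    exact (Groth.Agent.H52.overOpenHom T' (O t) ≫ sndT).left.isOpenMap
  · obtain ⟨t, rfl⟩ := hsurj z
    exact ⟨t, ⟨t, hOm t⟩, rfl⟩
  · haveI : IsAffine (Groth.Agent.H52.overOpen V (V₀ t)).left := hV₀a t
    haveI : IsLocallyNoetherian (Groth.Agent.H52.overOpen V (V₀ t)).left :=
      isLocallyNoetherian_of_isOpenImmersion (V₀ t).ι
    haveI : IsAffine (Groth.Agent.H52.overOpen T' (O t)).left := hOa t
    have hrange : Set.range ((O t).ι ≫ φT.left) ⊆ Set.range (V₀ t).ι := by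
      rintro _ ⟨x, rfl⟩
      rw [Scheme.Opens.range_ι]
      exact hOle t x.2
    have hdw : IsOpenImmersion.lift (V₀ t).ι ((O t).ι ≫ φT.left) hrange ≫
        (Groth.Agent.H52.overOpen V (V₀ t)).hom = (Groth.Agent.H52.overOpen T' (O t)).hom := by
      show IsOpenImmersion.lift _ _ _ ≫ (V₀ t).ι ≫ V.hom = (O t).ι ≫ T'.hom
      rw [← Category.assoc, IsOpenImmersion.lift_fac, Category.assoc, Over.w φT]
    obtain ⟨d, hd⟩ : ∃ d : Groth.Agent.H52.overOpen T' (O t) ⟶ Groth.Agent.H52.overOpen V (V₀ t),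
        d ≫ Groth.Agent.H52.overOpenHom V (V₀ t) = Groth.Agent.H52.overOpenHom T' (O t) ≫ φT := by
      refine ⟨Over.homMk (IsOpenImmersion.lift (V₀ t).ι ((O t).ι ≫ φT.left) hrange) hdw, ?_⟩
      apply Over.OverMorphism.ext
      exact IsOpenImmersion.lift_fac _ _ _
    have key : (yon S).map (Groth.Agent.H52.overOpenHom T' (O t) ≫ sndT) ≫ g =
        (yon S).map d ≫ ((yon S).map (Groth.Agent.H52.overOpenHom V (V₀ t)) ≫ p) := by
      rw [Functor.map_comp, Category.assoc, ← sqT.w, ← Category.assoc, ← Category.assoc,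
        ← Functor.map_comp, ← Functor.map_comp, hd]
    have sq1 := IsPullback.of_hasPullback qsnd
      ((yon S).map (Groth.Agent.H52.overOpenHom T' (O t) ≫ sndT))
    have big := sq1.paste_horiz sqQ
    rw [key] at big
    exact ⟨_, _, _, sq1, isClosedMap_of_dvr_lift_affine_local f hft hl
      ((yon S).map (Groth.Agent.H52.overOpenHom V (V₀ t)) ≫ p) d _ _ big⟩

end Groth.Agent.H50.DVRUnivClosed
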