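import Groth.Agent.H50.CutOut
import Groth.Agent.H52.Iso

/-!
# Infinitesimal neighbourhoods of closed subspaces
-/

set_option autoImplicit false
universe u
open CategoryTheory CategoryTheory.Limits AlgebraicGeometry AlgSp

namespace Groth.Agent.H50

variable {S : Scheme.{u}}

/-- A morphism representable and surjective is surjective on points. -/
theorem surjective_map_of_repWith_surjective {F G : Sp S} (f : F ⟶ G) (hs : RepWith @Surjective f) :
    Function.Surjective (Points.map f) := by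
  intro x
  induction x using Points.ind with
  | h p =>
  obtain ⟨V, ψ, fst, sq⟩ := hs.1 p.toHom
  have hψ : Surjective ψ.left := hs.2 _ _ _ sq
  obtain ⟨v, -⟩ := hψ.surj (IsLocalRing.closedPoint p.K : PrimeSpectrum p.K)
  refine ⟨Points.ofPt fst v, ?_⟩
  rw [Points.map_ofPt, sq.w, H52.ofPt_yon_map_comp, Points.ofPt_toHom]

/-- A morphism to `X` factors through a monomorphism as soon as all its scheme valued points do. -/
theorem exists_factor_of_forall_yon {Z X T' : Sp S} (m : Z ⟶ X) [Mono m] (b : T' ⟶ X)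
    (h : ∀ (Y : Over S) (y : (yon S).obj Y ⟶ T'), ∃ w : (yon S).obj Y ⟶ Z, w ≫ m = y ≫ b) :
    ∃ a' : T' ⟶ Z, a' ≫ m = b := by
  have hepi : Epi (pullback.snd m b) := by
    apply epi_of_local_lift
    intro Y y
    obtain ⟨w, hw⟩ := h Y y
    refine ⟨⊤, (J S).top_mem Y, fun T₁ f _ => ⟨(yon S).map f ≫ pullback.lift w y hw, ?_⟩⟩
    rw [Category.assoc, pullback.lift_snd]
  obtain ⟨k, hk, -⟩ := factor_of_epi_mono (pullback.snd m b) m (pullback.fst m b) b
    pullback.condition.symm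
  exact ⟨k, hk⟩

/-- A morphism whose points land in the image of an open immersion factors through it. -/
theorem exists_factor_of_range_subset_openImmersion {U X T' : Sp S} (u : U ⟶ X)
    (hu : RepWith @IsOpenImmersion u) (b : T' ⟶ X)
    (h : Set.range (Points.map b) ⊆ Set.range (Points.map u)) : ∃ b' : T' ⟶ U, b' ≫ u = b := by
  have sq := IsPullback.of_hasPullback u b
  have h1 : RepWith @IsOpenImmersion (pullback.snd u b) := repWith_snd_of_isPullback sq hu
  have h2 : Function.Surjective (Points.map (pullback.snd u b)) := by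
    intro x
    obtain ⟨z, hz⟩ := h ⟨x, rfl⟩
    obtain ⟨w, -, hw⟩ := H52.exists_point_of_isPullback sq z x hz
    exact ⟨w, hw⟩
  haveI : IsIso (pullback.snd u b) := H52.isIso_of_repWith_isOpenImmersion_of_surjective _ h1 h2
  exact ⟨inv (pullback.snd u b) ≫ pullback.fst u b, by
    rw [Category.assoc, pullback.condition, IsIso.inv_hom_id_assoc]⟩

theorem isPullback_id_of_mono {A B C : Sp S} (y : A ⟶ B) (k : B ⟶ C) [Mono k] :
    IsPullback y (𝟙 A) k (y ≫ k) :=
  ⟨⟨by simp⟩, ⟨PullbackCone.IsLimit.mk _ (fun s => s.snd)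
    (fun s => by rw [← cancel_mono k, Category.assoc, s.condition])
    (fun s => by simp) (fun s m _ h2 => by simpa using h2)⟩⟩

/-- Inclusion of ideal sheaves can be checked after a jointly surjective flat family. -/
theorem idealSheaf_le_of_flat_family {T : Scheme.{u}} (K K' : T.IdealSheafData) {ι : Type*}
    {Q : ι → Scheme.{u}} (g : ∀ k, Q k ⟶ T) (hfl : ∀ k, Flat (g k))
    (hsurj : ∀ x : T, ∃ (k : ι) (y : Q k), g k y = x) (h : ∀ k, K.comap (g k) ≤ K'.comap (g k)) :
    K ≤ K' := by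
  rw [Scheme.IdealSheafData.le_def]
  intro U t ht
  apply H49.IdealDescent.mem_of_forall_point U.2 (K'.ideal U) t
  intro y hy
  obtain ⟨k, w, hw⟩ := hsurj y
  have hwU : w ∈ ((g k) ⁻¹ᵁ U.1 : Set (Q k)) := by
    show g k w ∈ U.1
    rw [hw]; exact hy
  obtain ⟨_, ⟨W, hW, rfl⟩, hwW, hWU⟩ :=
    (Q k).isBasis_affineOpens.exists_subset_of_mem_open hwU ((g k) ⁻¹ᵁ U.1).2
  have hW' : IsAffineOpen W := hW
  have e : W ≤ (g k) ⁻¹ᵁ U.1 := hWU
  refine ⟨Q k, g k, W, hW', e, w, hwW, hw, ?_, ?_⟩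
  · haveI := hfl k
    exact HasRingHomProperty.appLE (P := @Flat) (g k) inferInstance U ⟨W, hW'⟩ e
  · have h1 := H9.comap_ideal (g k) K U ⟨W, hW'⟩ e
    have h2 := H9.comap_ideal (g k) K' U ⟨W, hW'⟩ e
    rw [← h2]
    apply (Scheme.IdealSheafData.le_def.1 (h k)) ⟨W, hW'⟩
    rw [h1]
    exact Ideal.mem_map_of_mem _ ht

theorem idealSheaf_eq_of_flat_family {T : Scheme.{u}} (K K' : T.IdealSheafData) {ι : Type*}
    {Q : ι → Scheme.{u}} (g : ∀ k, Q k ⟶ T) (hfl : ∀ k, Flat (g k))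
    (hsurj : ∀ x : T, ∃ (k : ι) (y : Q k), g k y = x) (h : ∀ k, K.comap (g k) = K'.comap (g k)) :
    K = K' :=
  le_antisymm (idealSheaf_le_of_flat_family K K' g hfl hsurj (fun k => (h k).le))
    (idealSheaf_le_of_flat_family K' K g hfl hsurj (fun k => (h k).ge))

theorem comap_pow_succ {X Y : Scheme.{u}} (f : X ⟶ Y) (I : Y.IdealSheafData) (n : ℕ) :
    (I ^ (n + 1)).comap f = I.comap f ^ (n + 1) := by
  induction n with
  | zero => simp
  | succ n ih => rw [pow_succ, H9.comap_mul, ih, ← pow_succ]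

/-- A closed immersion with nilpotent kernel is surjective. -/
theorem surjective_of_ker_pow_eq_bot {W Y : Scheme.{u}} (f : W ⟶ Y) [IsClosedImmersion f] (n : ℕ)
    (h : f.ker ^ (n + 1) = ⊥) : Surjective f := by
  have h1 : f.ker.support = ⊤ := by
    rw [← Scheme.IdealSheafData.support_pow_succ f.ker n, h, Scheme.IdealSheafData.support_bot]
  have h2 : (f.ker.support : Set Y) = closure (Set.range f) := f.support_ker
  rw [h1, TopologicalSpace.Closeds.coe_top, f.isClosedEmbedding.isClosed_range.closure_eq] at h2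
  exact ⟨fun y => by rw [← Set.mem_range, ← h2]; trivial⟩

/-- On EVERY scheme over `U` (not only affine etale charts) the kernel of the pullback of the `n`th infinitesimal
neighbourhood is the `(n+1)`st power of the kernel of the pullback of the closed subspace. -/
theorem ker_eq_pow_of_isInfNbhd {Z Zn U : Sp S} (hU : IsAlgSpace U) {n : ℕ} {c : Z ⟶ U}
    {j : Z ⟶ Zn} {k : Zn ⟶ U} (hN : IsInfNbhd n c j k) {T W Wn : Over S}
    (t : (yon S).obj T ⟶ U) (fst : (yon S).obj W ⟶ Z) (snd : W ⟶ T)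
    (fstn : (yon S).obj Wn ⟶ Zn) (sndn : Wn ⟶ T) (sq : IsPullback fst ((yon S).map snd) c t)
    (sqn : IsPullback fstn ((yon S).map sndn) k t) : sndn.left.ker = snd.left.ker ^ (n + 1) := by
  obtain ⟨-, hc, hk, hloc⟩ := hN
  obtain ⟨A, Tk, g, Vk, ck, tk, hVk, hck, hge, hgs, hgt⟩ := exists_affine_etale_refinement hU t
  choose Wa sa fa sqa using fun a => hc.1 (ck a)
  choose Wna sna fna sqna using fun a => hk.1 (ck a)
  have hR : ∀ a, (sna a).left.ker = (sa a).left.ker ^ (n + 1) := fun a =>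
    hloc (ck a) (fa a) (sa a) (fna a) (sna a) (hVk a) (hck a) (sqa a) (sqna a)
  choose WT sT fT sqT using fun a => hc.1 ((yon S).map (g a) ≫ t)
  choose WnT snT fnT sqnT using fun a => hk.1 ((yon S).map (g a) ≫ t)
  haveI : IsClosedImmersion snd.left := hc.2 _ _ _ sq
  haveI : IsClosedImmersion sndn.left := hk.2 _ _ _ sqn
  have hfl : ∀ a, Flat (g a).left := fun a => by haveI := hge a; infer_instance
  apply idealSheaf_eq_of_flat_family _ _ (fun a => (g a).left) hfl hgs
  intro a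
  haveI := hfl a
  haveI : IsClosedImmersion (sa a).left := hc.2 _ _ _ (sqa a)
  haveI : IsClosedImmersion (sna a).left := hk.2 _ _ _ (sqna a)
  obtain ⟨l1, hl1⟩ := exists_isPullback_of_pullbacks c (ck a) (tk a) (fa a) (sa a) (sqa a) (fT a)
    (sT a) (by rw [← hgt a]; exact sqT a)
  obtain ⟨l2, hl2⟩ := exists_isPullback_of_pullbacks k (ck a) (tk a) (fna a) (sna a) (sqna a)
    (fnT a) (snT a) (by rw [← hgt a]; exact sqnT a)
  obtain ⟨l3, hl3⟩ := exists_isPullback_of_pullbacks c t (g a) fst snd sq (fT a) (sT a) (sqT a)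
  obtain ⟨l4, hl4⟩ := exists_isPullback_of_pullbacks k t (g a) fstn sndn sqn (fnT a) (snT a)
    (sqnT a)
  rw [comap_pow_succ, ← ker_eq_comap_of_isPullback hl4, ← ker_eq_comap_of_isPullback hl3,
    ker_eq_comap_of_isClosedImmersion hl2, ker_eq_comap_of_isClosedImmersion hl1, hR a,
    comap_pow_succ]

/-- Every represented pullback of `j : Z ⟶ Z_n` has nilpotent kernel. -/
theorem ker_pow_eq_bot_of_isInfNbhd {Z Zn U : Sp S} (hU : IsAlgSpace U) {n : ℕ} {c : Z ⟶ U}
    {j : Z ⟶ Zn} {k : Zn ⟶ U} (hN : IsInfNbhd n c j k) [Mono k] {Y WY : Over S}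
    (y : (yon S).obj Y ⟶ Zn) (fY : (yon S).obj WY ⟶ Z) (sY : WY ⟶ Y)
    (sqY : IsPullback fY ((yon S).map sY) j y) : sY.left.ker ^ (n + 1) = ⊥ := by
  have sqId : IsPullback (𝟙 Z) j c k := by
    have := isPullback_id_of_mono j k
    rw [hN.1] at this
    exact this.flip
  have sq1 : IsPullback (fY ≫ 𝟙 Z) ((yon S).map sY) c (y ≫ k) := sqY.paste_horiz sqId
  have sq2 : IsPullback y ((yon S).map (𝟙 Y)) k (y ≫ k) := by
    rw [CategoryTheory.Functor.map_id]
    exact isPullback_id_of_mono y k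
  have h := ker_eq_pow_of_isInfNbhd hU hN (y ≫ k) (fY ≫ 𝟙 Z) sY y (𝟙 Y) sq1 sq2
  rw [← h]
  exact Scheme.Hom.ker_eq_bot_of_isIso _

/-- `j : Z ⟶ Z_1` is a first order thickening. -/
theorem isFOThickMor_of_isInfNbhd {Z Z₁ U : Sp S} (hU : IsAlgSpace U) {c : Z ⟶ U}
    {j : Z ⟶ Z₁} {k : Z₁ ⟶ U} (hN : IsInfNbhd 1 c j k) : IsFOThickMor j := by
  haveI : Mono k := mono_of_repWith
    (fun _ _ g hg => by haveI : IsClosedImmersion g := hg; infer_instance) hN.2.2.1
  have sqId : IsPullback (𝟙 Z) j c k := by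
    have := isPullback_id_of_mono j k
    rw [hN.1] at this
    exact this.flip
  have hjc : RepWith @IsClosedImmersion j := repWith_snd_of_isPullback sqId hN.2.1
  refine ⟨⟨hjc.1, fun Y WY y fY sY sqY => ?_⟩, fun V W b fst snd _ _ sq => ?_⟩
  · haveI : IsClosedImmersion sY.left := hjc.2 _ _ _ sqY
    exact ⟨hjc.2 _ _ _ sqY,
      surjective_of_ker_pow_eq_bot sY.left 1 (ker_pow_eq_bot_of_isInfNbhd hU hN y fY sY sqY)⟩
  · have h := ker_pow_eq_bot_of_isInfNbhd hU hN b fst snd sq
    show snd.left.ker * snd.left.ker = ⊥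
    rw [← pow_two]
    exact h

end Groth.Agent.H50
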