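import Groth.Agent.H50.ThickBridge
import Groth.Agent.H50.InfNbhd
import Groth.Agent.H50.Points
import Groth.Agent.H52.SrcFlat
import Groth.Agent.H52.LocPBC

/-!
# Three-level chart diagrams of a cartesian morphism of thickenings, and transfer of etale-local properties

For `X ⟶ Y ⟶ B` the base change of `X' ⟶ Y' ⟶ B'` along a thickening `B ⟶ B'` of sheaves, every etale chart diagram
`U' ⟶ V' ⟶ C'` of `X' ⟶ Y' ⟶ B'` restricts to an etale chart diagram `U ⟶ V ⟶ C` of `X ⟶ Y ⟶ B`, and the two chart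
diagrams form a cartesian morphism of thickenings of schemes.
-/

set_option autoImplicit false
universe u
open CategoryTheory CategoryTheory.Limits AlgebraicGeometry Opposite
open AlgSp

namespace Groth.Agent.H50

variable {S : Scheme.{u}}

theorem isPullback_top_of_thick3 {X X' Y Y' B B' : Sp S} (iX : X ⟶ X') (iY : Y ⟶ Y') (iB : B ⟶ B')
    (f : X ⟶ Y) (f' : X' ⟶ Y') (g : Y ⟶ B) (g' : Y' ⟶ B')
    (hcX : IsPullback iX (f ≫ g) (f' ≫ g') iB) (hcY : IsPullback iY g g' iB)
    (w : iX ≫ f' = f ≫ iY) : IsPullback iX f f' iY :=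
  (IsPullback.of_right hcX.flip w.symm hcY.flip).flip

theorem isThickMor_of_isPullback {F G F' G' : Sp S} {i : F ⟶ G} {p : G' ⟶ G} {i' : F' ⟶ G'}
    {q : F' ⟶ F} (sq : IsPullback i' q p i) (hi : IsThickMor i) : IsThickMor i' := by
  haveI := AlgSp.repWith_isStableUnderBaseChange (S := S) thick
  exact MorphismProperty.of_isPullback (P := RepWith thick) sq.flip hi

theorem exists_thick_chart3 {X X' Y Y' B B' : Sp S} (iX : X ⟶ X') (iY : Y ⟶ Y') (iB : B ⟶ B')
    (f : X ⟶ Y) (f' : X' ⟶ Y') (g : Y ⟶ B) (g' : Y' ⟶ B') (hB : IsThickMor iB)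
    (hcX : IsPullback iX (f ≫ g) (f' ≫ g') iB) (hcY : IsPullback iY g g' iB)
    (w : iX ≫ f' = f ≫ iY)
    {U' V' C' : Over S} (a' : (yon S).obj U' ⟶ X') (b' : (yon S).obj V' ⟶ Y')
    (c' : (yon S).obj C' ⟶ B') (k' : U' ⟶ V') (l' : V' ⟶ C')
    (ha' : RepWith @Etale a') (hb' : RepWith @Etale b') (hc' : RepWith @Etale c')
    (comm1 : a' ≫ f' = (yon S).map k' ≫ b') (comm2 : b' ≫ g' = (yon S).map l' ≫ c') :
    ∃ (U V C : Over S) (iU : U ⟶ U') (iV : V ⟶ V') (iC : C ⟶ C') (a : (yon S).obj U ⟶ X)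
      (b : (yon S).obj V ⟶ Y) (c : (yon S).obj C ⟶ B) (k : U ⟶ V) (l : V ⟶ C),
      RepWith @Etale a ∧ RepWith @Etale b ∧ RepWith @Etale c ∧
      a ≫ f = (yon S).map k ≫ b ∧ b ≫ g = (yon S).map l ≫ c ∧
      IsPullback a ((yon S).map iU) iX a' ∧ IsPullback b ((yon S).map iV) iY b' ∧
      IsPullback c ((yon S).map iC) iB c' ∧
      MoreMor.IsThickening iU.left ∧ MoreMor.IsThickening iV.left ∧ MoreMor.IsThickening iC.left ∧
      IsPullback iU.left k.left k'.left iV.left ∧ IsPullback iV.left l.left l'.left iC.left ∧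
      IsPullback iU.left (k.left ≫ l.left) (k'.left ≫ l'.left) iC.left := by
  haveI := AlgSp.repWith_isStableUnderBaseChange (S := S) @Etale
  have hcXY : IsPullback iX f f' iY := isPullback_top_of_thick3 iX iY iB f f' g g' hcX hcY w
  have hY : IsThickMor iY := isThickMor_of_isPullback hcY hB
  have hX : IsThickMor iX := isThickMor_of_isPullback hcXY hY
  have sqU := hX.1.isPullback a'
  have sqV := hY.1.isPullback b'
  have sqC := hB.1.isPullback c'
  -- the map `U ⟶ V`
  have sqUY : IsPullback (hX.1.fst a' ≫ f) ((yon S).map (hX.1.snd a')) iY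
      ((yon S).map k' ≫ b') := by
    rw [← comm1]
    exact sqU.paste_horiz hcXY.flip
  obtain ⟨k₀, hk1, hk2⟩ := sqV.exists_lift (hX.1.fst a' ≫ f)
    ((yon S).map (hX.1.snd a') ≫ (yon S).map k') (by rw [sqUY.w, Category.assoc])
  have sqK : IsPullback k₀ ((yon S).map (hX.1.snd a')) ((yon S).map (hY.1.snd b'))
      ((yon S).map k') :=
    IsPullback.of_right (by rw [hk1]; exact sqUY) hk2 sqV
  obtain ⟨k, rfl⟩ := (yon S).map_surjective k₀
  have sqKO : IsPullback k (hX.1.snd a') (hY.1.snd b') k' :=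
    IsPullback.of_map (yon S) (by
      apply (yon S).map_injective
      rw [Functor.map_comp, Functor.map_comp]
      exact hk2) sqK
  -- the map `V ⟶ C`
  have sqVB : IsPullback (hY.1.fst b' ≫ g) ((yon S).map (hY.1.snd b')) iB
      ((yon S).map l' ≫ c') := by
    rw [← comm2]
    exact sqV.paste_horiz hcY.flip
  obtain ⟨l₀, hl1, hl2⟩ := sqC.exists_lift (hY.1.fst b' ≫ g)
    ((yon S).map (hY.1.snd b') ≫ (yon S).map l') (by rw [sqVB.w, Category.assoc])
  have sqL : IsPullback l₀ ((yon S).map (hY.1.snd b')) ((yon S).map (hB.1.snd c'))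
      ((yon S).map l') :=
    IsPullback.of_right (by rw [hl1]; exact sqVB) hl2 sqC
  obtain ⟨l, rfl⟩ := (yon S).map_surjective l₀
  have sqLO : IsPullback l (hY.1.snd b') (hB.1.snd c') l' :=
    IsPullback.of_map (yon S) (by
      apply (yon S).map_injective
      rw [Functor.map_comp, Functor.map_comp]
      exact hl2) sqL
  have s1 : IsPullback (hX.1.snd a').left k.left k'.left (hY.1.snd b').left :=
    (sqKO.map (Over.forget S)).flip
  have s2 : IsPullback (hY.1.snd b').left l.left l'.left (hB.1.snd c').left :=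
    (sqLO.map (Over.forget S)).flip
  exact ⟨_, _, _, hX.1.snd a', hY.1.snd b', hB.1.snd c', hX.1.fst a', hY.1.fst b', hB.1.fst c', k, l,
    MorphismProperty.of_isPullback sqU.flip ha', MorphismProperty.of_isPullback sqV.flip hb',
    MorphismProperty.of_isPullback sqC.flip hc', hk1.symm, hl1.symm, sqU, sqV, sqC,
    hX.2 _ _ _ sqU, hY.2 _ _ _ sqV, hB.2 _ _ _ sqC, s1, s2, s1.paste_vert s2⟩

/-- Transfer of an etale-local property from `f` to `f'` along a cartesian morphism of thickenings over a thickening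
`B ⟶ B'` of the base, given the scheme-level transfer on three-level chart diagrams. -/
theorem locP_of_thick3 {P : MorphismProperty Scheme.{u}} (hP : Groth.Agent.H52.EtLocal P)
    {X X' Y Y' B B' : Sp S} (hB' : IsAlgSpace B') (iX : X ⟶ X') (iY : Y ⟶ Y') (iB : B ⟶ B')
    (f : X ⟶ Y) (f' : X' ⟶ Y') (g : Y ⟶ B) (g' : Y' ⟶ B') (hB : IsThickMor iB)
    (hcX : IsPullback iX (f ≫ g) (f' ≫ g') iB) (hcY : IsPullback iY g g' iB)
    (w : iX ≫ f' = f ≫ iY)
    (htr : ∀ {U U' V V' C C' : Over S} (iU : U ⟶ U') (iV : V ⟶ V') (iC : C ⟶ C') (k : U ⟶ V)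
      (k' : U' ⟶ V') (l : V ⟶ C) (l' : V' ⟶ C') (a' : (yon S).obj U' ⟶ X')
      (b' : (yon S).obj V' ⟶ Y') (c' : (yon S).obj C' ⟶ B') (c : (yon S).obj C ⟶ B),
      RepWith @Etale a' → RepWith @Etale b' → RepWith @Etale c' →
      a' ≫ f' = (yon S).map k' ≫ b' → b' ≫ g' = (yon S).map l' ≫ c' →
      IsPullback c ((yon S).map iC) iB c' →
      MoreMor.IsThickening iU.left → MoreMor.IsThickening iV.left → MoreMor.IsThickening iC.left →
      IsPullback iU.left k.left k'.left iV.left → IsPullback iV.left l.left l'.left iC.left →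
      IsPullback iU.left (k.left ≫ l.left) (k'.left ≫ l'.left) iC.left →
      P k.left → P k'.left)
    (hf : LocP P f) : LocP P f' := by
  intro U' V' a' b' k' ha' hb' comm
  obtain ⟨C', c', hc', hcs'⟩ := hB'.atlas
  obtain ⟨V₁, pV, qV, sqV, hpVe⟩ : ∃ (V₁ : Over S) (pV : V₁ ⟶ V') (qV : V₁ ⟶ C'),
      IsPullback ((yon S).map pV) ((yon S).map qV) (b' ≫ g') c' ∧ Etale pV.left :=
    ⟨_, hc'.rep.snd (b' ≫ g'), hc'.rep.fst' (b' ≫ g'), (hc'.rep.isPullback' (b' ≫ g')).flip,
      hc'.property_snd (b' ≫ g')⟩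
  obtain ⟨U₁, pU, qU, sqU0, hpUe, hpUs⟩ : ∃ (U₁ : Over S) (pU : U₁ ⟶ U') (qU : U₁ ⟶ C'),
      IsPullback ((yon S).map pU) ((yon S).map qU) (a' ≫ f' ≫ g') c' ∧ Etale pU.left ∧
        Surjective pU.left :=
    ⟨_, hc'.rep.snd (a' ≫ f' ≫ g'), hc'.rep.fst' (a' ≫ f' ≫ g'),
      (hc'.rep.isPullback' (a' ≫ f' ≫ g')).flip, hc'.property_snd _, hcs'.property_snd _⟩
  have w1 : (yon S).map (pU ≫ k') ≫ (b' ≫ g') = (yon S).map qU ≫ c' := by
    calc (yon S).map (pU ≫ k') ≫ (b' ≫ g')
        = (yon S).map pU ≫ ((yon S).map k' ≫ b') ≫ g' := by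
          rw [Functor.map_comp, Category.assoc, Category.assoc]
      _ = (yon S).map pU ≫ (a' ≫ f' ≫ g') := by rw [← comm, Category.assoc]
      _ = (yon S).map qU ≫ c' := sqU0.w
  obtain ⟨k₁, hk₁⟩ := (yon S).map_surjective (sqV.lift _ _ w1)
  have hk₁p : k₁ ≫ pV = pU ≫ k' := by
    apply (yon S).map_injective
    rw [Functor.map_comp, hk₁, sqV.lift_fst]
  haveI := AlgSp.repWith_isMultiplicative (S := S) @Etale
  have hA : RepWith @Etale ((yon S).map pU ≫ a') :=
    (RepWith @Etale).comp_mem _ _ ((repWith_yon_map_iff _ _).2 hpUe) ha'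
  have hBb : RepWith @Etale ((yon S).map pV ≫ b') :=
    (RepWith @Etale).comp_mem _ _ ((repWith_yon_map_iff _ _).2 hpVe) hb'
  have comm1 : ((yon S).map pU ≫ a') ≫ f' = (yon S).map k₁ ≫ ((yon S).map pV ≫ b') := by
    rw [Category.assoc, comm, ← Category.assoc, ← Functor.map_comp, ← hk₁p, Functor.map_comp,
      Category.assoc]
  have comm2 : ((yon S).map pV ≫ b') ≫ g' = (yon S).map qV ≫ c' := by
    rw [Category.assoc]; exact sqV.w
  obtain ⟨U, V, C, iU, iV, iC, a, b, c, k, l, hae, hbe, hce, hc1, hc2, -, -, sqC, hUt, hVt, hCt,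
    s1, s2, s3⟩ := exists_thick_chart3 iX iY iB f f' g g' hB hcX hcY w ((yon S).map pU ≫ a')
      ((yon S).map pV ≫ b') c' k₁ qV hA hBb hc' comm1 comm2
  have hk₁P : P k₁.left := htr iU iV iC k k₁ l qV _ _ c' c hA hBb hc' comm1 comm2 sqC hUt hVt hCt
    s1 s2 s3 (hf a b k hae hbe hc1)
  have h1 : P (k₁.left ≫ pV.left) := hP.postcomp _ _ hpVe hk₁P
  have h2 : P (pU.left ≫ k'.left) := by
    rw [← Over.comp_left, ← hk₁p, Over.comp_left]; exact h1
  exact Groth.Agent.H52.SrcLocal.of_single (P := P) hP.src _ _ hpUe hpUs h2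

/-- If `f` and `f ≫ g` are flat, then `g` is flat at every point of the image of `f`. -/
theorem isFlatAtMor_map_of_flat {X Y B : Sp S} (hX : IsAlgSpace X) (f : X ⟶ Y) (g : Y ⟶ B)
    (hf : LocP @Flat f) (hfg : LocP @Flat (f ≫ g)) (x : Points X) :
    IsFlatAtMor g (Points.map f x) := by
  intro V C b c l v hb hc comm hv
  obtain ⟨A, a₀, ha₀, ha₀s⟩ := hX.atlas
  obtain ⟨α, hα⟩ := surjective_map_of_repWith_surjective a₀ ha₀s x
  obtain ⟨U, k, pA, sq, hpA⟩ : ∃ (U : Over S) (k : U ⟶ V) (pA : U ⟶ A),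
      IsPullback ((yon S).map k) ((yon S).map pA) b (a₀ ≫ f) ∧ Etale pA.left :=
    ⟨_, hb.rep.fst' (a₀ ≫ f), hb.rep.snd (a₀ ≫ f), hb.rep.isPullback' _, hb.property_snd _⟩
  have hxy : Points.map b (Points.ofScheme V v) = Points.map (a₀ ≫ f) α := by
    rw [Points.map_comp, hα, ← hv, Points.ofPt_eq_map_ofScheme]
  obtain ⟨ζ, hζ1, hζ2⟩ := exists_point_of_isPullback sq _ _ hxy
  haveI := AlgSp.repWith_isMultiplicative (S := S) @Etale
  have hA : RepWith @Etale ((yon S).map pA ≫ a₀) :=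
    (RepWith @Etale).comp_mem _ _ ((repWith_yon_map_iff _ _).2 hpA) ha₀
  have commf : ((yon S).map pA ≫ a₀) ≫ f = (yon S).map k ≫ b := by
    rw [Category.assoc]; exact sq.w.symm
  have commfg : ((yon S).map pA ≫ a₀) ≫ (f ≫ g) = (yon S).map (k ≫ l) ≫ c := by
    calc ((yon S).map pA ≫ a₀) ≫ (f ≫ g)
        = (((yon S).map pA ≫ a₀) ≫ f) ≫ g := (Category.assoc _ _ _).symm
      _ = (yon S).map k ≫ (b ≫ g) := by rw [commf, Category.assoc]
      _ = (yon S).map k ≫ (yon S).map l ≫ c := by rw [comm]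
      _ = (yon S).map (k ≫ l) ≫ c := by rw [Functor.map_comp, Category.assoc]
  haveI hkf : Flat k.left := hf _ b k hA hb commf
  haveI hklf : Flat (k.left ≫ l.left) := hfg _ c (k ≫ l) hA hc commfg
  have e1 : Points.ofPt ((yon S).map k) (Points.toScheme U ζ) = Points.ofScheme V v := by
    rw [Points.ofPt_eq_map_ofScheme, Points.ofScheme_toScheme]; exact hζ1
  have e2 := congrArg (Points.toScheme V) e1
  rw [Points.toScheme_ofScheme, Points.toScheme_ofPt] at e2
  have key : (l.left.stalkMap (k.left (Points.toScheme U ζ))).hom.Flat := by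
    have h1 : ((k.left ≫ l.left).stalkMap (Points.toScheme U ζ)).hom.Flat := Flat.stalkMap _ _
    rw [Scheme.Hom.stalkMap_comp] at h1
    have h2 : (k.left.stalkMap (Points.toScheme U ζ)).hom.Flat := Flat.stalkMap _ _
    refine RingHom.Flat.of_comp_of_faithfullyFlat
      (l.left.stalkMap (k.left (Points.toScheme U ζ))).hom
      (k.left.stalkMap (Points.toScheme U ζ)).hom ?_ h1
    algebraize [(k.left.stalkMap (Points.toScheme U ζ)).hom]
    have : Module.Flat (V.left.presheaf.stalk (k.left (Points.toScheme U ζ)))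
        (U.left.presheaf.stalk (Points.toScheme U ζ)) := h2
    have : IsLocalHom (algebraMap (V.left.presheaf.stalk (k.left (Points.toScheme U ζ)))
        (U.left.presheaf.stalk (Points.toScheme U ζ))) :=
      inferInstanceAs (IsLocalHom (k.left.stalkMap (Points.toScheme U ζ)).hom)
    exact Module.FaithfullyFlat.of_flat_of_isLocalHom
  rw [← e2]
  exact key

/-- Cancellation on the right: if `f ≫ q` has `P'` etale locally and `P' (k ≫ l)` implies `P k` for schemes, then `f`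
has `P` etale locally (for `P` etale local on the source-and-target and `Z` an algebraic space). -/
theorem locP_cancel {P P' : MorphismProperty Scheme.{u}}
    (hcancel : ∀ ⦃A B C : Scheme.{u}⦄ (k : A ⟶ B) (l : B ⟶ C), P' (k ≫ l) → P k)
    (hP : Groth.Agent.H52.EtLocal P) {X Y Z : Sp S} (hZ : IsAlgSpace Z) (f : X ⟶ Y) (q : Y ⟶ Z)
    (hp : LocP P' (f ≫ q)) : LocP P f := by
  intro U V a b h ha hb comm
  obtain ⟨W, c, hc, hcs⟩ := hZ.atlas
  haveI := AlgSp.repWith_isMultiplicative (S := S) @Etale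
  have sqV := hc.rep.isPullback' (b ≫ q)
  have hv₂e : Etale (hc.rep.snd (b ≫ q)).left := hc.property_snd (b ≫ q)
  have sqU := hc.rep.isPullback' (a ≫ f ≫ q)
  have hu₂e : Etale (hc.rep.snd (a ≫ f ≫ q)).left := hc.property_snd (a ≫ f ≫ q)
  have hu₂s : Surjective (hc.rep.snd (a ≫ f ≫ q)).left := hcs.property_snd (a ≫ f ≫ q)
  have hcomp : (yon S).map (hc.rep.fst' (a ≫ f ≫ q)) ≫ c =
      (yon S).map (hc.rep.snd (a ≫ f ≫ q) ≫ h) ≫ (b ≫ q) := by
    rw [sqU.w, Functor.map_comp, Category.assoc, ← Category.assoc ((yon S).map h) b q, ← comm,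
      Category.assoc]
  obtain ⟨k, hk⟩ := (yon S).map_surjective (sqV.lift _ _ hcomp)
  have hk₁ : k ≫ hc.rep.fst' (b ≫ q) = hc.rep.fst' (a ≫ f ≫ q) := by
    apply (yon S).map_injective
    rw [Functor.map_comp, hk, sqV.lift_fst]
  have hk₂ : k ≫ hc.rep.snd (b ≫ q) = hc.rep.snd (a ≫ f ≫ q) ≫ h := by
    apply (yon S).map_injective
    rw [Functor.map_comp, hk, sqV.lift_snd]
  have hP' : P' (hc.rep.fst' (a ≫ f ≫ q)).left := by
    refine hp ((yon S).map (hc.rep.snd (a ≫ f ≫ q)) ≫ a) c (hc.rep.fst' (a ≫ f ≫ q)) ?_ hc ?_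
    · exact (RepWith @Etale).comp_mem _ _ ((AlgSp.repWith_yon_map_iff @Etale _).2 hu₂e) ha
    · rw [Category.assoc]
      exact sqU.w.symm
  have h1 : P' (k.left ≫ (hc.rep.fst' (b ≫ q)).left) := by
    rw [← Over.comp_left, hk₁]
    exact hP'
  have h2 : P k.left := hcancel _ _ h1
  have h3 : P (k.left ≫ (hc.rep.snd (b ≫ q)).left) := hP.postcomp _ _ hv₂e h2
  have h4 : P ((hc.rep.snd (a ≫ f ≫ q)).left ≫ h.left) := by
    rw [← Over.comp_left, ← hk₂, Over.comp_left]
    exact h3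
  exact Groth.Agent.H52.SrcLocal.of_single (P := P) hP.src _ _ hu₂e hu₂s h4

/-! ## Finite order thickenings on all scheme charts -/

theorem powZero_of_isPullback_of_isClosedImmersion {Z X X' Z' : Scheme.{u}} {i : Z ⟶ X} {g : X' ⟶ X}
    {pZ : Z' ⟶ Z} {i' : Z' ⟶ X'} (sq : IsPullback pZ i' i g) [IsClosedImmersion i] (n : ℕ)
    (h : powZero n i) : powZero n i' := by
  show i'.ker ^ (n + 1) = ⊥
  rw [ker_eq_comap_of_isClosedImmersion sq, ← comap_pow_succ, (show i.ker ^ (n + 1) = ⊥ from h),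
    Scheme.IdealSheafData.comap_bot]

theorem powZero_of_flat_family {Z X : Scheme.{u}} (i : Z ⟶ X) [QuasiCompact i] (n : ℕ) {ι : Type*}
    {Q ZQ : ι → Scheme.{u}} (g : ∀ k, Q k ⟶ X) (hfl : ∀ k, Flat (g k))
    (hsurj : ∀ x : X, ∃ (k : ι) (y : Q k), g k y = x) (pZ : ∀ k, ZQ k ⟶ Z) (i' : ∀ k, ZQ k ⟶ Q k)
    (sq : ∀ k, IsPullback (pZ k) (i' k) i (g k)) (h : ∀ k, powZero n (i' k)) : powZero n i := by
  apply idealSheaf_eq_bot_of_flat_family (i.ker ^ (n + 1)) g hfl hsurj
  intro k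
  haveI := hfl k
  rw [comap_pow_succ, ← ker_eq_comap_of_isPullback (sq k)]
  exact h k

/-- For an `n`th order thickening `i : F ⟶ G` of an algebraic space `G`, every represented pullback of `i` to a
scheme has kernel with vanishing `(n+1)`st power. -/
theorem powZero_of_isNThickMor {F G : Sp S} (hG : IsAlgSpace G) (n : ℕ) (i : F ⟶ G)
    (hi : IsNThickMor n i)
    {T W : Over S} (t : (yon S).obj T ⟶ G) (fst : (yon S).obj W ⟶ F) (snd : W ⟶ T)
    (sq : IsPullback fst ((yon S).map snd) i t) : powZero n snd.left := by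
  obtain ⟨V, b, hb, hbs⟩ := hG.atlas
  obtain ⟨TV, r, tv', sqTV⟩ := hb.1 t
  obtain ⟨tv, rfl⟩ := (yon S).map_surjective tv'
  have hre : Etale r.left := hb.2 _ _ _ sqTV
  have hrs : Surjective r.left := hbs.2 _ _ _ sqTV
  let Vk : V.left.affineCover.I₀ → Over S := fun k => Over.mk (V.left.affineCover.f k ≫ V.hom)
  let e : ∀ k, Vk k ⟶ V := fun k => Over.homMk (V.left.affineCover.f k) rfl
  have heo : ∀ k, IsOpenImmersion (e k).left := fun k =>
    inferInstanceAs (IsOpenImmersion (V.left.affineCover.f k))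
  have hVk : ∀ k, IsAffine (Vk k).left := fun k =>
    inferInstanceAs (IsAffine (V.left.affineCover.X k))
  have hbk : ∀ k, RepWith @Etale ((yon S).map (e k) ≫ b) := fun k =>
    (repWith_isMultiplicative (S := S) @Etale).comp_mem _ _
      ((repWith_yon_map_iff _ _).2 (haveI := heo k; inferInstance)) hb
  have hirep : Representable i := hi.1.1
  choose Wk sk fk sqk using fun k => hirep ((yon S).map (e k) ≫ b)
  have hsqz : ∀ k, powZero n (sk k).left := fun k => hi.2 _ (fk k) (sk k) (hVk k) (hbk k) (sqk k)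
  have hthk : ∀ k, IsClosedImmersion (sk k).left := fun k => (hi.1.2 _ _ _ (sqk k)).1
  have hrepe : ∀ k, RepWith @IsOpenImmersion ((yon S).map (e k)) := fun k =>
    (repWith_yon_map_iff @IsOpenImmersion (e k)).2 (heo k)
  choose Tk rk tvk' sqTk using fun k => (hrepe k).1 ((yon S).map tv)
  let tvk : ∀ k, Tk k ⟶ Vk k := fun k => (yon S).preimage (tvk' k)
  have htvk : ∀ k, (yon S).map (tvk k) = tvk' k := fun k => (yon S).map_preimage _
  have hrko : ∀ k, IsOpenImmersion (rk k).left := fun k => (hrepe k).2 _ _ _ (sqTk k)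
  let g : ∀ k, Tk k ⟶ T := fun k => rk k ≫ r
  have hgfl : ∀ k, Flat (g k).left := by
    intro k
    haveI := hrko k
    show Flat ((rk k).left ≫ r.left)
    infer_instance
  have hgt : ∀ k, (yon S).map (g k) ≫ t = (yon S).map (tvk k) ≫ (yon S).map (e k) ≫ b := by
    intro k
    show (yon S).map (rk k ≫ r) ≫ t = _
    rw [Functor.map_comp, Category.assoc, ← sqTV.w, ← Category.assoc, ← (sqTk k).w, htvk,
      Category.assoc]
  have hgsurj : ∀ x : T.left, ∃ (k : V.left.affineCover.I₀) (y : (Tk k).left), (g k).left y = x := by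
    intro x
    obtain ⟨z, hz⟩ := hrs.surj x
    obtain ⟨v, hv⟩ := V.left.affineCover.covers (tv.left z)
    have sqS : IsPullback (tvk (V.left.affineCover.idx (tv.left z))).left
        (rk (V.left.affineCover.idx (tv.left z))).left
        (e (V.left.affineCover.idx (tv.left z))).left tv.left := by
      have : IsPullback (tvk (V.left.affineCover.idx (tv.left z)))
          (rk (V.left.affineCover.idx (tv.left z))) (e (V.left.affineCover.idx (tv.left z))) tv :=
        IsPullback.of_map (yon S) (by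
          apply (yon S).map_injective
          rw [Functor.map_comp, Functor.map_comp, htvk]
          exact (sqTk _).w) (by rw [htvk]; exact sqTk _)
      exact this.map (Over.forget S)
    obtain ⟨y, -, hy2⟩ := Scheme.exists_preimage_of_isPullback sqS v z hv
    refine ⟨_, y, ?_⟩
    show ((rk _).left ≫ r.left) y = x
    rw [Scheme.Hom.comp_apply, hy2, hz]
  choose WT sT fT sqT using fun k => hirep ((yon S).map (g k) ≫ t)
  have hsqT : ∀ k, powZero n (sT k).left := by
    intro k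
    obtain ⟨l, hl⟩ := exists_isPullback_of_pullbacks i ((yon S).map (e k) ≫ b) (tvk k) (fk k) (sk k)
      (sqk k) (fT k) (sT k) (by rw [← hgt k]; exact sqT k)
    haveI := hthk k
    exact powZero_of_isPullback_of_isClosedImmersion hl n (hsqz k)
  have hl' : ∀ k, ∃ l : WT k ⟶ W, IsPullback l.left (sT k).left snd.left (g k).left := fun k =>
    exists_isPullback_of_pullbacks i t (g k) fst snd sq (fT k) (sT k) (sqT k)
  choose l' hl' using hl'
  haveI : IsClosedImmersion snd.left := (hi.1.2 _ _ _ sq).1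
  exact powZero_of_flat_family snd.left n (fun k => (g k).left) hgfl hgsurj (fun k => (l' k).left)
    (fun k => (sT k).left) hl' hsqT

/-- Every represented pullback of a finite order thickening of an algebraic space is a finite order thickening of
schemes. -/
theorem isFiniteOrderThickening_of_isFinThickMor {F G : Sp S} (hG : IsAlgSpace G) (i : F ⟶ G)
    (hi : IsFinThickMor i)
    {T W : Over S} (t : (yon S).obj T ⟶ G) (fst : (yon S).obj W ⟶ F) (snd : W ⟶ T)
    (sq : IsPullback fst ((yon S).map snd) i t) : MoreMor.IsFiniteOrderThickening snd.left := by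
  obtain ⟨n, hn⟩ := hi
  exact ⟨hn.1.2 _ _ _ sq, n + 1, powZero_of_isNThickMor hG n i hn t fst snd sq⟩

/-- A base change of a finite order thickening of schemes is one. -/
theorem isFiniteOrderThickening_of_isPullback {Z X X' Z' : Scheme.{u}} {i : Z ⟶ X} {g : X' ⟶ X}
    {pZ : Z' ⟶ Z} {i' : Z' ⟶ X'} (sq : IsPullback pZ i' i g)
    (h : MoreMor.IsFiniteOrderThickening i) : MoreMor.IsFiniteOrderThickening i' := by
  obtain ⟨⟨hci, hsi⟩, n, hn⟩ := h
  haveI := hci
  haveI := hsi
  have hn' : i.ker ^ (n + 1) = ⊥ := by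
    rw [pow_succ, hn, zero_mul]; rfl
  refine ⟨⟨MorphismProperty.of_isPullback sq hci, MorphismProperty.of_isPullback sq hsi⟩, n + 1, ?_⟩
  rw [ker_eq_comap_of_isClosedImmersion sq, ← comap_pow_succ, hn',
    Scheme.IdealSheafData.comap_bot]
  rfl

end Groth.Agent.H50
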