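import Groth.Agent.H50.WhereIso
import Groth.Agent.H50.FOThick
import Groth.Agent.H50.ThickFlat
import Groth.Agent.H51.EtSmoothST
import Groth.Agent.H51.Thick
import Groth.Agent.S10587
import Groth.Agent.S10261
import Groth.Agent.S10267
import Groth.Agent.S10613

/-!
# helper50: isomorphisms, open immersions, finite locally free morphisms along a cartesian morphism of
thickenings, from the transfer of closed immersions, flatness, etaleness, finiteness and local finite presentation.
-/

set_option autoImplicit false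
universe u
open CategoryTheory CategoryTheory.Limits AlgebraicGeometry Opposite Topology

namespace Groth.Agent.H50

open AlgSp

variable {S : Scheme.{u}}

theorem isSurjectiveMor_of_isIso {F G : Sp S} (f : F ⟶ G) [IsIso f] : IsSurjectiveMor f := by
  intro y
  refine ⟨Points.map (inv f) y, ?_⟩
  rw [← Points.map_comp, IsIso.inv_hom_id, Points.map_id]

theorem isUnivInjectiveMor_of_openImmersion {X Y : AlgSp.Space S} (f : X ⟶ Y)
    (hf : RepWith @IsOpenImmersion f.hom) : IsUnivInjectiveMor f.hom := by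
  have hmult := (Groth.Agent.H52.etLocal_unramified.{u}).mult
  have hm : Mono f.hom :=
    mono_of_repWith (fun _ _ g (hg : IsOpenImmersion g) => (inferInstance : Mono g)) hf
  have hunr : LocP (@LocallyOfFiniteType ⊓ @FormallyUnramified) f.hom :=
    locP_of_repWith (P := @LocallyOfFiniteType ⊓ @FormallyUnramified)
      (Groth.Agent.H52.etLocal_unramified.{u}).etale
      (repWith_mono (fun _ _ g (hg : IsOpenImmersion g) => ⟨inferInstance, inferInstance⟩) hf)
  exact ((Groth.Agent.S10613.result f).1.1 ⟨hunr, hm⟩).2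

theorem deform_core {X X' Y Y' : AlgSp.Space S} (iX : X ⟶ X') (iY : Y ⟶ Y') (f : X ⟶ Y)
    (f' : X' ⟶ Y') (hXt : IsThickMor iX.hom) (hYt : IsThickMor iY.hom) (w : iX ≫ f' = f ≫ iY)
    (hcart : IsPullback iX.hom f.hom f'.hom iY.hom)
    (hCI : RepWith @IsClosedImmersion f.hom ↔ RepWith @IsClosedImmersion f'.hom)
    (hFlat : LocP @Flat f.hom ↔ LocP @Flat f'.hom)
    (hEt : IsEtaleMor f.hom ↔ IsEtaleMor f'.hom)
    (hFin : IsFiniteMor f.hom ↔ IsFiniteMor f'.hom)
    (hLfp : LocP @LocallyOfFinitePresentation f.hom ↔ LocP @LocallyOfFinitePresentation f'.hom) :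
    (IsIso f.hom ↔ IsIso f'.hom) ∧
    (RepWith @IsOpenImmersion f.hom ↔ RepWith @IsOpenImmersion f'.hom) ∧
    (IsFinLocFreeMor f.hom ↔ IsFinLocFreeMor f'.hom) ∧
    (∀ d : ℕ, IsFinLocFreeOfDegMor d f.hom ↔ IsFinLocFreeOfDegMor d f'.hom) := by
  obtain ⟨hSurj, -, -, hUI, -⟩ := Groth.Agent.S10587.result iX iY f f' hXt hYt w
  have bcRep : ∀ (P : MorphismProperty Scheme.{u}), RepWith P f'.hom → RepWith P f.hom := by
    intro P h'
    have := AlgSp.repWith_isStableUnderBaseChange (S := S) P
    exact MorphismProperty.of_isPullback (P := RepWith P) hcart h'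
  have part4 : RepWith finLocFree f.hom → RepWith finLocFree f'.hom := by
    intro hf
    have hfinR : RepWith @IsFinite f.hom := repWith_mono (fun _ _ g hg => hg.1) hf
    have hF : IsFiniteMor f.hom := (Groth.Agent.S10267.result f).2.2 hfinR
    have hflR : RepWith @Flat f.hom := repWith_mono (fun _ _ g hg => hg.2.1) hf
    have hlfpR : RepWith @LocallyOfFinitePresentation f.hom :=
      repWith_mono (fun _ _ g hg => hg.2.2) hf
    have hmF := (goodProp_flat.{u}).mult
    have hmP := (goodProp_lfp.{u}).mult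
    have hfl : LocP @Flat f.hom := locP_of_repWith (goodProp_flat.{u}).etale hflR
    have hlp : LocP @LocallyOfFinitePresentation f.hom :=
      locP_of_repWith (goodProp_lfp.{u}).etale hlfpR
    have hfinR' : RepWith @IsFinite f'.hom := (Groth.Agent.S10267.result f').2.1 (hFin.1 hF)
    have hflR' : RepWith @Flat f'.hom :=
      repWith_of_locP (goodProp_flat.{u}).desc hfinR'.1 Y'.property.atlas (hFlat.1 hfl)
    have hlfpR' : RepWith @LocallyOfFinitePresentation f'.hom :=
      repWith_of_locP (goodProp_lfp.{u}).desc hfinR'.1 Y'.property.atlas (hLfp.1 hlp)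
    exact ⟨hfinR'.1, fun T W t a b sq => ⟨hfinR'.2 t a b sq, hflR'.2 t a b sq, hlfpR'.2 t a b sq⟩⟩
  refine ⟨⟨fun hf => ?_, fun hf' => hcart.isIso_snd_of_isIso hf'⟩,
    ⟨fun hf => ?_, bcRep _⟩, ⟨part4, bcRep _⟩, fun d => ⟨fun hf => ?_, bcRep _⟩⟩
  · -- isomorphisms
    haveI := hf
    have hci : RepWith @IsClosedImmersion f.hom := repWith_of_isIso @IsClosedImmersion f.hom
    have hmF := (goodProp_flat.{u}).mult
    have hfl : LocP @Flat f.hom :=
      locP_of_repWith (goodProp_flat.{u}).etale (repWith_of_isIso @Flat f.hom)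
    exact Groth.Agent.H50.WhereIso.isIso_of_ci_flat_surj f' (hCI.1 hci)
      (hSurj.1 (isSurjectiveMor_of_isIso f.hom)) (hFlat.1 hfl)
  · -- open immersions
    have het : IsEtaleMor f.hom := Groth.Agent.H51.isEtaleMor_of_repWith_isOpenImmersion f.hom hf
    exact Groth.Agent.S10261.result f' (hEt.1 het)
      (hUI.1 (isUnivInjectiveMor_of_openImmersion f hf))
  · -- degree
    have h4 : RepWith finLocFree f'.hom := part4 (repWith_mono (fun _ _ g hg => hg.1) hf)
    refine ⟨h4.1, fun T W t a b sq => ⟨h4.2 t a b sq, fun y => ?_⟩⟩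
    have sqT := hYt.1.isPullback t
    have hthick : thick (hYt.1.snd t).left := hYt.2 t _ _ sqT
    have sq0 := hf.1.isPullback (hYt.1.fst t)
    have hdeg0 : finLocFreeOfDeg d (hf.1.snd (hYt.1.fst t)).left := hf.2 _ _ _ sq0
    have sqR : IsPullback (hf.1.fst (hYt.1.fst t) ≫ iX.hom)
        ((yon S).map (hf.1.snd (hYt.1.fst t))) f'.hom ((yon S).map (hYt.1.snd t) ≫ t) := by
      rw [← sqT.w]
      exact sq0.paste_horiz hcart
    obtain ⟨l, hl⟩ := exists_isPullback_of_pullbacks f'.hom t (hYt.1.snd t) a b sq _ _ sqR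
    obtain ⟨y0, rfl⟩ := hthick.2.surj y
    haveI : Flat b.left := (h4.2 t a b sq).2.1
    haveI : IsFinite b.left := (h4.2 t a b sq).1
    have e := Scheme.Hom.finrank_of_isPullback l.left _ b.left _ hl y0
    show Scheme.Hom.finrank b.left _ = d
    rw [← e]
    exact hdeg0.2 y0

end Groth.Agent.H50
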