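import Groth.Agent.H50.Kernel
import Groth.Agent.H50.Fppf
import Groth.Agent.H50.Descent
import Groth.Agent.H52.LocPBC

/-!
# helper50: descent of `LocP P` along an epimorphism of sheaves

* `of_fppf_family`: a property of morphisms of schemes which descends along fppf morphisms and is
  Zariski local on the target descends along jointly surjective families of flat morphisms locally
  of finite presentation;
* `locP_of_epi_baseChange`: if the base change of `f : X ⟶ Y` along an epimorphism of sheaves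
  `Y' ⟶ Y` (of algebraic spaces) has `P` etale locally, then so does `f`.
-/

set_option autoImplicit false
universe u
open CategoryTheory CategoryTheory.Limits AlgebraicGeometry Opposite MorphismProperty

namespace Groth.Agent.H50

open AlgSp

/-- Descent along a jointly surjective family of flat morphisms locally of finite presentation. -/
theorem of_fppf_family {P : MorphismProperty Scheme.{u}} [IsZariskiLocalAtTarget P]
    (hdesc : DescendsAlong P fppfProp) {A V : Scheme.{u}} (h : A ⟶ V) {ι : Type*}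
    (W : ι → Scheme.{u}) (g : ∀ i, W i ⟶ V) (hfl : ∀ i, Flat (g i))
    (hfp : ∀ i, LocallyOfFinitePresentation (g i)) (hsurj : ∀ v : V, ∃ (i : ι) (w : W i), g i w = v)
    (H : ∀ i, ∃ (Q : Scheme.{u}) (p₁ : Q ⟶ A) (p₂ : Q ⟶ W i), IsPullback p₁ p₂ h (g i) ∧ P p₂) :
    P h := by
  have hopen : ∀ i, IsOpen (Set.range (g i)) := fun i =>
    have := hfl i
    have := hfp i
    (g i).isOpenMap.isOpen_range
  let U : ι → V.Opens := fun i => ⟨Set.range (g i), hopen i⟩
  have hU : iSup U = ⊤ := by
    rw [eq_top_iff]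
    intro v _
    obtain ⟨i, w, rfl⟩ := hsurj v
    exact TopologicalSpace.Opens.mem_iSup.2 ⟨i, w, rfl⟩
  refine IsZariskiLocalAtTarget.of_iSup_eq_top U hU (fun i => ?_)
  have := hfl i
  have := hfp i
  obtain ⟨Q, p₁, p₂, sqQ, hp₂⟩ := H i
  have hsub : Set.range (g i) ⊆ Set.range (U i).ι := by
    rw [Scheme.Opens.range_ι]
    exact subset_rfl
  have hg' : IsOpenImmersion.lift (U i).ι (g i) hsub ≫ (U i).ι = g i :=
    IsOpenImmersion.lift_fac _ _ _
  have hg'fl : Flat (IsOpenImmersion.lift (U i).ι (g i) hsub) := by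
    refine MorphismProperty.of_postcomp (W := @Flat) (W' := @IsOpenImmersion) _ (U i).ι
      inferInstance ?_
    rw [hg']
    infer_instance
  have hg'fp : LocallyOfFinitePresentation (IsOpenImmersion.lift (U i).ι (g i) hsub) := by
    refine MorphismProperty.of_postcomp (W := @LocallyOfFinitePresentation)
      (W' := @IsOpenImmersion) _ (U i).ι inferInstance ?_
    rw [hg']
    infer_instance
  have hg's : Surjective (IsOpenImmersion.lift (U i).ι (g i) hsub) := by
    refine ⟨fun u => ?_⟩
    have hu : (U i).ι u ∈ Set.range (g i) := by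
      have : (U i).ι u ∈ Set.range (U i).ι := ⟨u, rfl⟩
      rw [Scheme.Opens.range_ι] at this
      exact this
    obtain ⟨w, hw⟩ := hu
    refine ⟨w, (U i).ι.isOpenEmbedding.injective ?_⟩
    rw [← Scheme.Hom.comp_apply, hg', hw]
  have sqR := isPullback_morphismRestrict h (U i)
  have hw : (p₂ ≫ IsOpenImmersion.lift (U i).ι (g i) hsub) ≫ (U i).ι = p₁ ≫ h := by
    rw [Category.assoc, hg', sqQ.w]
  have hl1 : sqR.lift _ _ hw ≫ (h ∣_ U i) = p₂ ≫ IsOpenImmersion.lift (U i).ι (g i) hsub :=
    sqR.lift_fst _ _ _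
  have hl2 : sqR.lift _ _ hw ≫ (h ⁻¹ᵁ U i).ι = p₁ := sqR.lift_snd _ _ _
  have outer : IsPullback (sqR.lift _ _ hw ≫ (h ⁻¹ᵁ U i).ι) p₂ h
      (IsOpenImmersion.lift (U i).ι (g i) hsub ≫ (U i).ι) := by
    rw [hl2, hg']
    exact sqQ
  have sqL := (IsPullback.of_right outer hl1 sqR.flip).flip
  exact hdesc.of_isPullback sqL ⟨⟨hg's, hg'fl⟩, hg'fp⟩ hp₂

variable {S : Scheme.{u}}

/-- If the base change of `f : X ⟶ Y` along an epimorphism of sheaves `q : Y' ⟶ Y` (all algebraic
spaces) has `P` etale locally on source and target, then so does `f`. -/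
theorem locP_of_epi_baseChange {P : MorphismProperty Scheme.{u}} [IsZariskiLocalAtTarget P]
    (hP : Groth.Agent.H52.EtLocal P) (hdesc : DescendsAlong P fppfProp)
    {X Y Y' X' : Sp S} (hX : IsAlgSpace X) (hY : IsAlgSpace Y) (hY' : IsAlgSpace Y')
    {f : X ⟶ Y} {q : Y' ⟶ Y} [Epi q] {fst : X' ⟶ X} {f' : X' ⟶ Y'}
    (sq : IsPullback fst f' f q) (hf' : LocP P f') : LocP P f := by
  have hEt := AlgSp.repWith_isMultiplicative (S := S) @Etale
  have hSu := AlgSp.repWith_isMultiplicative (S := S) @Surjective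
  obtain ⟨V, b, hbe, hbs⟩ := hY.atlas
  have sqV := IsPullback.of_hasPullback f b
  have hXV : IsAlgSpace (pullback f b) :=
    Groth.Agent.H52.isAlgSpace_of_isPullback sqV hY.diag hX (IsAlgSpace.yon_obj V)
  obtain ⟨A, a₀, ha₀e, ha₀s⟩ := hXV.atlas
  have h1e : RepWith @Etale (pullback.fst f b) := repWith_fst_of_isPullback sqV hbe
  have h1s : RepWith @Surjective (pullback.fst f b) := repWith_fst_of_isPullback sqV hbs
  obtain ⟨h, hh⟩ : ∃ h : A ⟶ V, (yon S).map h = a₀ ≫ pullback.snd f b :=
    ⟨(yon S).preimage _, (yon S).map_preimage _⟩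
  have comm : (a₀ ≫ pullback.fst f b) ≫ f = (yon S).map h ≫ b := by
    rw [Category.assoc, sqV.w, ← Category.assoc, hh]
  refine Groth.Agent.H52.locP_of_one_chart hP f (a₀ ≫ pullback.fst f b) b h
    ((RepWith @Etale).comp_mem _ _ ha₀e h1e) ((RepWith @Surjective).comp_mem _ _ ha₀s h1s) hbe
    comm ?_
  have hX' : IsAlgSpace X' := Groth.Agent.H52.isAlgSpace_of_isPullback sq hY.diag hX hY'
  have key : ∀ v : V.left, ∃ (Vv : Over S) (g : Vv ⟶ V), Flat g.left ∧
      LocallyOfFinitePresentation g.left ∧ (∃ w : Vv.left, g.left w = v) ∧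
      ∃ (Q : Over S) (p₁ : Q ⟶ A) (p₂ : Q ⟶ Vv), IsPullback p₁ p₂ h g ∧ P p₂.left := by
    intro v
    obtain ⟨Sg, hSg, hlift⟩ := exists_local_lift q b
    obtain ⟨Vv, g, hg, hfl, hfp, w, hw⟩ := exists_fppf_of_mem_J hSg v
    obtain ⟨c, hc⟩ := hlift g hg
    refine ⟨Vv, g, hfl, hfp, ⟨w, hw⟩, pullback h g, pullback.fst h g, pullback.snd h g,
      IsPullback.of_hasPullback h g, ?_⟩
    have sqc := IsPullback.of_hasPullback f' c
    have hfc : LocP P (pullback.snd f' c) :=
      Groth.Agent.H52.locP_baseChange hP hX' hY' (IsAlgSpace.yon_obj Vv) sqc hf'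
    have big : IsPullback (pullback.fst f' c ≫ fst) (pullback.snd f' c) f (c ≫ q) :=
      sqc.paste_horiz sq
    have hwe : (pullback.fst f' c ≫ fst) ≫ f = (pullback.snd f' c ≫ (yon S).map g) ≫ b := by
      rw [Category.assoc _ _ b, ← hc]
      exact big.w
    have sqE : IsPullback (sqV.lift _ _ hwe) (pullback.snd f' c) (pullback.snd f b)
        ((yon S).map g) := by
      refine IsPullback.of_right ?_ (sqV.lift_snd _ _ hwe) sqV
      rw [sqV.lift_fst, ← hc]
      exact big
    have sqA := (IsPullback.of_hasPullback h g).map (yon S)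
    have hav : ((yon S).map (pullback.fst h g) ≫ a₀) ≫ pullback.snd f b =
        (yon S).map (pullback.snd h g) ≫ (yon S).map g := by
      rw [Category.assoc, ← hh]
      exact sqA.w
    have sqAv : IsPullback (sqE.lift _ _ hav) ((yon S).map (pullback.fst h g))
        (sqV.lift _ _ hwe) a₀ := by
      refine IsPullback.of_right ?_ (sqE.lift_fst _ _ hav) sqE.flip
      rw [sqE.lift_snd, ← hh]
      exact sqA.flip
    have have' : RepWith @Etale (sqE.lift _ _ hav) := repWith_fst_of_isPullback sqAv ha₀e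
    exact hfc (sqE.lift _ _ hav) (𝟙 _) (pullback.snd h g) have' (repWith_id _ Vv)
      (by rw [sqE.lift_snd, Category.comp_id])
  choose Vv g hfl hfp hsurj Q p₁ p₂ hsq hP' using key
  exact of_fppf_family hdesc h.left (fun v => (Vv v).left) (fun v => (g v).left) hfl hfp
    (fun v => ⟨v, hsurj v⟩)
    (fun v => ⟨(Q v).left, (p₁ v).left, (p₂ v).left, (hsq v).map (Over.forget S), hP' v⟩)

end Groth.Agent.H50
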