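import Groth.Agent.H50.Points
import Groth.Agent.H50.Fppf
import Groth.Agent.H50.Kernel
import Groth.Prelude.Def_AlgSp4

/-!
# helper50: an epimorphism of fppf sheaves is surjective on points
-/

set_option autoImplicit false
universe u
open CategoryTheory CategoryTheory.Limits AlgebraicGeometry Opposite

namespace Groth.Agent.H50

open AlgSp

variable {S : Scheme.{u}}

/-- An epimorphism of fppf sheaves is surjective on points. -/
theorem isSurjectiveMor_of_epi {F G : Sp S} (f : F ⟶ G) [Epi f] : IsSurjectiveMor f := by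
  intro y
  obtain ⟨K, _, str, a, rfl⟩ := exists_fieldPtOfHom y
  obtain ⟨Sg, hSg, hlift⟩ := exists_local_lift f a
  obtain ⟨T', g, hg, -, -, t', -⟩ := exists_fppf_of_mem_J hSg (IsLocalRing.closedPoint K)
  obtain ⟨x, hx⟩ := hlift g hg
  let φ₀ : Spec (T'.left.residueField t') ⟶ T'.left := T'.left.fromSpecResidueField t'
  let strL : Spec (CommRingCat.of (T'.left.residueField t')) ⟶ S := φ₀ ≫ T'.hom
  let φ : Over.mk strL ⟶ T' := Over.homMk φ₀ rfl
  refine ⟨Points.mk (fieldPtOfHom strL ((yon S).map φ ≫ x)), ?_⟩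
  rw [points_map_mk_fieldPtOfHom, Category.assoc, hx, ← Category.assoc, ← (yon S).map_comp]
  exact mk_fieldPtOfHom_comp str strL (φ ≫ g) a

end Groth.Agent.H50
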