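import Mathlib.RingTheory.Jacobson.Ring
import Mathlib.RingTheory.Localization.Integral
import Mathlib.RingTheory.IntegralClosure.IsIntegralClosure.Basic
import Mathlib.RingTheory.FiniteType
import Mathlib.RingTheory.Ideal.Quotient.Operations

/-! A field of finite type over a domain `A ⊆ k`: some `A[1/f]` is a field (helper50). -/

set_option autoImplicit false

namespace Groth.Agent.H50

/-- If a field `k` is a finite type algebra over a domain `A ⊆ k`, then there is a nonzero `f ∈ A` such that
every nonzero element of `A` divides a power of `f` (that is, `A[1/f]` is a field). -/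
theorem exists_mul_eq_pow_of_finiteType_field {A k : Type*} [CommRing A] [IsDomain A] [Field k]
    [Algebra A k] (hinj : Function.Injective (algebraMap A k)) [Algebra.FiniteType A k] :
    ∃ f : A, f ≠ 0 ∧ ∀ a : A, a ≠ 0 → ∃ (c : A) (n : ℕ), a * c = f ^ n := by
  classical
  letI : Algebra (FractionRing A) k := (IsFractionRing.lift hinj).toAlgebra
  haveI : IsScalarTower A (FractionRing A) k :=
    IsScalarTower.of_algebraMap_eq (fun x => (IsFractionRing.lift_algebraMap hinj x).symm)
  haveI : Algebra.FiniteType (FractionRing A) k :=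
    Algebra.FiniteType.of_restrictScalars_finiteType A (FractionRing A) k
  haveI : Module.Finite (FractionRing A) k :=
    finite_of_finite_type_of_isJacobsonRing (FractionRing A) k
  haveI : Algebra.IsIntegral (FractionRing A) k := inferInstance
  obtain ⟨s, hs⟩ := (Algebra.FiniteType.out : (⊤ : Subalgebra A k).FG)
  have hm : ∀ x : k, ∃ m : nonZeroDivisors A, IsIntegral A (m • x) := fun x =>
    IsIntegral.exists_multiple_integral_of_isLocalization (nonZeroDivisors A) x
      (Algebra.IsIntegral.isIntegral (R := FractionRing A) x)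
  choose m hm using hm
  have hf0 : (∏ x ∈ s, (m x : A)) ≠ 0 :=
    Finset.prod_ne_zero_iff.2 (fun x _ => nonZeroDivisors.coe_ne_zero (m x))
  refine ⟨∏ x ∈ s, (m x : A), hf0, ?_⟩
  generalize hfdef : (∏ x ∈ s, (m x : A)) = f at hf0 ⊢
  have hφf : algebraMap A k f ≠ 0 := fun h => hf0 (hinj (by rw [h, map_zero]))
  -- description of the elements of `B = A[f⁻¹] ⊆ k`
  have hB : ∀ y ∈ Algebra.adjoin A {(algebraMap A k f)⁻¹},
      ∃ (c : A) (n : ℕ), y * (algebraMap A k f) ^ n = algebraMap A k c := by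
    intro y hy
    refine Algebra.adjoin_induction
      (p := fun y _ => ∃ (c : A) (n : ℕ), y * (algebraMap A k f) ^ n = algebraMap A k c)
      ?_ ?_ ?_ ?_ hy
    · intro x hx
      rw [Set.mem_singleton_iff] at hx
      subst hx
      exact ⟨1, 1, by rw [pow_one, inv_mul_cancel₀ hφf, map_one]⟩
    · intro r
      exact ⟨r, 0, by rw [pow_zero, mul_one]⟩
    · rintro x y _ _ ⟨c1, n1, h1⟩ ⟨c2, n2, h2⟩
      refine ⟨c1 * f ^ n2 + c2 * f ^ n1, n1 + n2, ?_⟩
      rw [map_add, map_mul, map_mul, map_pow, map_pow, ← h1, ← h2, pow_add]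
      ring
    · rintro x y _ _ ⟨c1, n1, h1⟩ ⟨c2, n2, h2⟩
      refine ⟨c1 * c2, n1 + n2, ?_⟩
      rw [map_mul, ← h1, ← h2, pow_add]
      ring
  -- the generators are integral over `B`
  have hint : ∀ x ∈ s, IsIntegral (Algebra.adjoin A {(algebraMap A k f)⁻¹}) x := by
    intro x hx
    have hmx0 : algebraMap A k (m x) ≠ 0 := fun h =>
      nonZeroDivisors.coe_ne_zero (m x) (hinj (by rw [h, map_zero]))
    obtain ⟨r, hr⟩ : (m x : A) ∣ f := hfdef ▸ Finset.dvd_prod_of_mem _ hx
    have hb : (algebraMap A k (m x))⁻¹ ∈ Algebra.adjoin A {(algebraMap A k f)⁻¹} := by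
      have hr0 : algebraMap A k r ≠ 0 := by
        intro h
        apply hφf
        rw [hr, map_mul, h, mul_zero]
      have e : (algebraMap A k (m x))⁻¹ = algebraMap A k r * (algebraMap A k f)⁻¹ := by
        rw [hr, map_mul, mul_inv, mul_comm (algebraMap A k (m x))⁻¹, ← mul_assoc,
          mul_inv_cancel₀ hr0, one_mul]
      rw [e]
      exact Subalgebra.mul_mem _ (Subalgebra.algebraMap_mem _ r) (Algebra.subset_adjoin rfl)
    have h1 : IsIntegral (Algebra.adjoin A {(algebraMap A k f)⁻¹}) (m x • x) := (hm x).tower_top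
    have h2 : IsIntegral (Algebra.adjoin A {(algebraMap A k f)⁻¹})
        (algebraMap (Algebra.adjoin A {(algebraMap A k f)⁻¹}) k ⟨_, hb⟩ * (m x • x)) :=
      isIntegral_algebraMap.mul h1
    have e : algebraMap (Algebra.adjoin A {(algebraMap A k f)⁻¹}) k ⟨_, hb⟩ * (m x • x) = x := by
      show (algebraMap A k (m x))⁻¹ * (m x • x) = x
      rw [Submonoid.smul_def, Algebra.smul_def, ← mul_assoc, inv_mul_cancel₀ hmx0, one_mul]
    rwa [e] at h2
  have hall : ∀ y : k, IsIntegral (Algebra.adjoin A {(algebraMap A k f)⁻¹}) y := by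
    intro y
    have hy : y ∈ Algebra.adjoin A (s : Set k) := by
      rw [hs]
      trivial
    refine Algebra.adjoin_induction
      (p := fun y _ => IsIntegral (Algebra.adjoin A {(algebraMap A k f)⁻¹}) y) ?_ ?_ ?_ ?_ hy
    · intro x hx
      exact hint x hx
    · intro r
      have h : IsIntegral (Algebra.adjoin A {(algebraMap A k f)⁻¹})
          (algebraMap (Algebra.adjoin A {(algebraMap A k f)⁻¹}) k
            (algebraMap A (Algebra.adjoin A {(algebraMap A k f)⁻¹}) r)) := isIntegral_algebraMap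
      exact h
    · intro x y _ _ hx hy
      exact hx.add hy
    · intro x y _ _ hx hy
      exact hx.mul hy
  haveI : Algebra.IsIntegral (Algebra.adjoin A {(algebraMap A k f)⁻¹}) k := ⟨hall⟩
  have hBfield : IsField (Algebra.adjoin A {(algebraMap A k f)⁻¹}) :=
    isField_of_isIntegral_of_isField (R := Algebra.adjoin A {(algebraMap A k f)⁻¹}) (S := k)
      (fun a b h => Subtype.ext h) (Field.toIsField k)
  intro a ha
  have hφa : algebraMap A k a ≠ 0 := fun h => ha (hinj (by rw [h, map_zero]))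
  have haB : (⟨algebraMap A k a, Subalgebra.algebraMap_mem _ a⟩ :
      Algebra.adjoin A {(algebraMap A k f)⁻¹}) ≠ 0 := fun h => hφa (congrArg Subtype.val h)
  obtain ⟨b, hb⟩ := hBfield.mul_inv_cancel haB
  obtain ⟨c, n, hc⟩ := hB b.1 b.2
  refine ⟨c, n, hinj ?_⟩
  have hb' : algebraMap A k a * (b : k) = 1 := congrArg Subtype.val hb
  rw [map_mul, map_pow, ← hc, ← mul_assoc, hb', one_mul]

/-- For a finite type ring map `ψ : R → k` to a field, the prime `ker ψ` is a closed point of a basic open
neighbourhood `D(g)`. -/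
theorem exists_not_mem_ker_forall_prime {R k : Type*} [CommRing R] [Field k] (ψ : R →+* k)
    (hψ : ψ.FiniteType) :
    ∃ g : R, ψ g ≠ 0 ∧ ∀ q : Ideal R, q.IsPrime → RingHom.ker ψ ≤ q → g ∉ q →
      q ≤ RingHom.ker ψ := by
  haveI : (RingHom.ker ψ).IsPrime := RingHom.ker_isPrime ψ
  haveI : IsDomain (R ⧸ RingHom.ker ψ) := Ideal.Quotient.isDomain _
  letI : Algebra (R ⧸ RingHom.ker ψ) k := (RingHom.kerLift ψ).toAlgebra
  have hinj : Function.Injective (algebraMap (R ⧸ RingHom.ker ψ) k) := RingHom.kerLift_injective ψ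
  haveI : Algebra.FiniteType (R ⧸ RingHom.ker ψ) k := by
    have h : ((RingHom.kerLift ψ).comp (Ideal.Quotient.mk (RingHom.ker ψ))).FiniteType := by
      have e : (RingHom.kerLift ψ).comp (Ideal.Quotient.mk (RingHom.ker ψ)) = ψ := by
        ext x
        rfl
      rw [e]
      exact hψ
    exact RingHom.FiniteType.of_comp_finiteType h
  obtain ⟨f, hf0, hf⟩ :=
    exists_mul_eq_pow_of_finiteType_field (A := R ⧸ RingHom.ker ψ) (k := k) hinj
  obtain ⟨g, rfl⟩ := Ideal.Quotient.mk_surjective f
  refine ⟨g, ?_, ?_⟩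
  · intro h
    exact hf0 (Ideal.Quotient.eq_zero_iff_mem.2 ((RingHom.mem_ker).2 h))
  · intro q hq hle hg a ha
    by_contra hna
    have ha0 : (Ideal.Quotient.mk (RingHom.ker ψ) a) ≠ 0 := fun h =>
      hna (Ideal.Quotient.eq_zero_iff_mem.1 h)
    obtain ⟨c, n, hc⟩ := hf _ ha0
    obtain ⟨c, rfl⟩ := Ideal.Quotient.mk_surjective c
    rw [← map_mul, ← map_pow, Ideal.Quotient.eq] at hc
    have h1 : a * c - g ^ n ∈ q := hle hc
    have h2 : g ^ n ∈ q := by
      have e : g ^ n = a * c - (a * c - g ^ n) := by ring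
      rw [e]
      exact q.sub_mem (q.mul_mem_right _ ha) h1
    exact hg (hq.mem_of_pow_mem n h2)

end Groth.Agent.H50
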