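import Groth.Prelude.Def_AlgSp4
import Groth.Agent.H50.Basic
import Groth.Agent.H50.Etale
import Groth.Agent.H50.Points
import Groth.Agent.H50.FTAlg
import Groth.Agent.H52.LocPBC
import Groth.Agent.H52.LocPOps
import Groth.Agent.H52.EtLocalInst
import Groth.Agent.H52.Topology
import Mathlib.AlgebraicGeometry.Morphisms.FiniteType
import Mathlib.AlgebraicGeometry.Morphisms.ClosedImmersion
import Mathlib.AlgebraicGeometry.Morphisms.Finite
import Mathlib.AlgebraicGeometry.Morphisms.Etale

/-! Finite type points of algebraic spaces (helper50). -/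

set_option autoImplicit false
universe u
open CategoryTheory CategoryTheory.Limits AlgebraicGeometry
open AlgSp

namespace Groth.Agent.H50

open Groth.Agent.H52

/-- A finite type point of a scheme is a closed point of an open subscheme. -/
theorem exists_open_nbhd_closed_point {X : Scheme.{u}} (k : Type u) [Field k]
    (η : Spec (CommRingCat.of k) ⟶ X) [LocallyOfFiniteType η] :
    ∃ (X' : Scheme.{u}) (j : X' ⟶ X) (_ : IsOpenImmersion j) (x' : X'),
      IsClosed ({x'} : Set X') ∧ j x' = η (IsLocalRing.closedPoint k) := by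
  obtain ⟨y, hy⟩ := X.affineOpenCover.covers (η (IsLocalRing.closedPoint k))
  generalize X.affineOpenCover.idx (η (IsLocalRing.closedPoint k)) = i at y hy
  have hrange : Set.range η ⊆ Set.range (X.affineOpenCover.f i) := by
    rintro _ ⟨z, rfl⟩
    have hz : z = IsLocalRing.closedPoint k := Subsingleton.elim _ _
    rw [hz]
    exact ⟨y, hy⟩
  obtain ⟨η', hfac⟩ : ∃ η' : Spec (CommRingCat.of k) ⟶ Spec (X.affineOpenCover.X i),
      η' ≫ X.affineOpenCover.f i = η :=
    ⟨IsOpenImmersion.lift (X.affineOpenCover.f i) η hrange, IsOpenImmersion.lift_fac _ _ hrange⟩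
  haveI : LocallyOfFiniteType (η' ≫ X.affineOpenCover.f i) := by
    rw [hfac]
    infer_instance
  have hη' : LocallyOfFiniteType η' := locallyOfFiniteType_of_comp η' (X.affineOpenCover.f i)
  obtain ⟨ψ, hψ⟩ : ∃ ψ : X.affineOpenCover.X i ⟶ CommRingCat.of k, Spec.map ψ = η' :=
    ⟨Spec.preimage η', Spec.map_preimage η'⟩
  have hft : ψ.hom.FiniteType := by
    rw [← hψ] at hη'
    exact (HasRingHomProperty.Spec_iff (P := @LocallyOfFiniteType)).1 hη'
  obtain ⟨g, hg1, hg2⟩ := exists_not_mem_ker_forall_prime ψ.hom hft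
  obtain ⟨p, hpdef⟩ : ∃ p : PrimeSpectrum (X.affineOpenCover.X i),
      p = η' (IsLocalRing.closedPoint k) := ⟨_, rfl⟩
  have hp : p.asIdeal = RingHom.ker ψ.hom := by
    have e1 : p = PrimeSpectrum.comap ψ.hom (IsLocalRing.closedPoint k) := by
      rw [hpdef, ← hψ]
      rfl
    rw [e1, PrimeSpectrum.comap_asIdeal, RingHom.ker_eq_comap_bot]
    congr 1
    exact IsLocalRing.maximalIdeal_eq_bot
  obtain ⟨D, hD⟩ : ∃ D : (Spec (X.affineOpenCover.X i)).Opens,
      ∀ q : PrimeSpectrum (X.affineOpenCover.X i), q ∈ D ↔ g ∉ q.asIdeal :=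
    ⟨PrimeSpectrum.basicOpen g, fun q => Iff.rfl⟩
  have hpD : p ∈ D := by
    rw [hD, hp, RingHom.mem_ker]
    exact hg1
  obtain ⟨x', hx'⟩ : ∃ x' : D, x'.1 = p := ⟨⟨p, hpD⟩, rfl⟩
  have hcl : IsClosed (Subtype.val ⁻¹' (PrimeSpectrum.zeroLocus (p.asIdeal : Set _)) : Set D) :=
    (PrimeSpectrum.isClosed_zeroLocus _).preimage continuous_subtype_val
  have e : ({x'} : Set D) = Subtype.val ⁻¹' (PrimeSpectrum.zeroLocus (p.asIdeal : Set _)) := by
    refine Set.ext fun q => ⟨fun hq => ?_, fun hq => ?_⟩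
    · have hq' : q = x' := Set.mem_singleton_iff.1 hq
      show q.1 ∈ PrimeSpectrum.zeroLocus (p.asIdeal : Set _)
      rw [hq', hx']
      exact (PrimeSpectrum.mem_zeroLocus p _).2 (Set.Subset.refl _)
    · have hle : p.asIdeal ≤ q.1.asIdeal :=
        SetLike.coe_subset_coe.1 ((PrimeSpectrum.mem_zeroLocus _ _).1 hq)
      refine Set.mem_singleton_iff.2 (Subtype.ext ?_)
      rw [hx']
      apply PrimeSpectrum.ext
      apply le_antisymm
      · show q.1.asIdeal ≤ p.asIdeal
        rw [hp]
        exact hg2 q.1.asIdeal q.1.isPrime (hp ▸ hle) ((hD q.1).1 q.2)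
      · exact hle
  have hcl' : IsClosed ({x'} : Set D) := e ▸ hcl
  refine ⟨(D : Scheme.{u}), D.ι ≫ X.affineOpenCover.f i, inferInstance, x', hcl', ?_⟩
  have h1 : (D.ι ≫ X.affineOpenCover.f i) x' = X.affineOpenCover.f i p := by
    rw [Scheme.Hom.comp_apply, ← hx']
    rfl
  rw [h1, hpdef, ← Scheme.Hom.comp_apply, hfac]

/-- A nonempty scheme receives a locally finite type morphism from the spectrum of a field. -/
theorem exists_lft_field_point {W : Scheme.{u}} (w : W) :
    ∃ (k : Type u) (_ : Field k) (η : Spec (CommRingCat.of k) ⟶ W), LocallyOfFiniteType η := by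
  obtain ⟨y, -⟩ := W.affineOpenCover.covers w
  generalize W.affineOpenCover.idx w = i at y
  obtain ⟨m, hm, -⟩ := Ideal.exists_le_maximal (y : PrimeSpectrum (W.affineOpenCover.X i)).asIdeal
    (y : PrimeSpectrum (W.affineOpenCover.X i)).isPrime.ne_top
  letI : Field (W.affineOpenCover.X i ⧸ m) := Ideal.Quotient.field m
  have h1 : LocallyOfFiniteType (Spec.map (CommRingCat.ofHom (Ideal.Quotient.mk m))) :=
    (HasRingHomProperty.Spec_iff (P := @LocallyOfFiniteType)).2
      (RingHom.FiniteType.of_surjective _ Ideal.Quotient.mk_surjective)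
  exact ⟨W.affineOpenCover.X i ⧸ m, Ideal.Quotient.field m,
    Spec.map (CommRingCat.ofHom (Ideal.Quotient.mk m)) ≫ W.affineOpenCover.f i, inferInstance⟩

variable {S : Scheme.{u}}

/-- Finite type points of a sheaf: points represented by a locally finite type morphism from the spectrum of a field. -/
def IsFTPoint (X : Sp S) (x : Points X) : Prop :=
  ∃ (k : Type u) (_ : Field k) (str : Spec (CommRingCat.of k) ⟶ S)
    (ξ : (yon S).obj (Over.mk str) ⟶ X),
    LocP @LocallyOfFiniteType ξ ∧ Points.ofPt ξ (IsLocalRing.closedPoint k) = x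

theorem locP_lft_yon_map {U V : Over S} (g : U ⟶ V) (hg : LocallyOfFiniteType g.left) :
    LocP @LocallyOfFiniteType ((yon S).map g) :=
  locP_of_repWith (P := @LocallyOfFiniteType) (fun _ _ g hg => by
    have : Etale g := hg
    infer_instance) ((repWith_yon_map_iff @LocallyOfFiniteType g).2 hg)

theorem locP_lft_of_etale {X : Sp S} {U : Over S} (φ : (yon S).obj U ⟶ X) (hφ : RepWith @Etale φ) :
    LocP @LocallyOfFiniteType φ :=
  locP_of_repWith (P := @LocallyOfFiniteType) (fun _ _ g hg => by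
    have : Etale g := hg
    infer_instance) (repWith_mono (fun _ _ g hg => by
    have : Etale g := hg
    infer_instance) hφ)

/-- The image of a finite type point of a scheme under a locally finite type chart is a finite type point. -/
theorem isFTPoint_of_lft {X : Sp S} {U : Over S} (φ : (yon S).obj U ⟶ X)
    (hφ : LocP @LocallyOfFiniteType φ) (k : Type u) [Field k] (η : Spec (CommRingCat.of k) ⟶ U.left)
    (hη : LocallyOfFiniteType η) : IsFTPoint X (Points.ofPt φ (η (IsLocalRing.closedPoint k))) := by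
  refine ⟨k, inferInstance, η ≫ U.hom,
    (yon S).map (Over.homMk η rfl : Over.mk (η ≫ U.hom) ⟶ U) ≫ φ, ?_, ?_⟩
  · exact locP_comp etLocal_lft (IsAlgSpace.yon_obj U) _ _ (locP_lft_yon_map _ hη) hφ
  · rw [ofPt_yon_map_comp]
    rfl

/-- The image of a closed point of an etale chart is a finite type point. -/
theorem isFTPoint_of_closed {X : Sp S} {U : Over S} (φ : (yon S).obj U ⟶ X)
    (hφ : RepWith @Etale φ) (u : U.left) (hu : IsClosed ({u} : Set U.left)) :
    IsFTPoint X (Points.ofPt φ u) := by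
  have hci : IsClosedImmersion (U.left.fromSpecResidueField u) :=
    isClosed_singleton_iff_isClosedImmersion.1 hu
  have hlft : LocallyOfFiniteType (U.left.fromSpecResidueField u) := inferInstance
  have h := isFTPoint_of_lft φ (locP_lft_of_etale φ hφ) (U.left.residueField u)
    (U.left.fromSpecResidueField u) hlft
  have e : (U.left.fromSpecResidueField u) (IsLocalRing.closedPoint (U.left.residueField u)) = u :=
    Scheme.fromSpecResidueField_apply _ _
  rwa [e] at h

/-- A finite type point of an algebraic space is the image of a closed point of an etale chart. -/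
theorem exists_closed_chart_of_isFTPoint {X : Sp S} (hX : IsAlgSpace X) {x : Points X}
    (h : IsFTPoint X x) :
    ∃ (U : Over S) (φ : (yon S).obj U ⟶ X) (u : ↥U.left), RepWith @Etale φ ∧
      IsClosed ({u} : Set ↥U.left) ∧ Points.ofPt φ u = x := by
  obtain ⟨k, _, str, ξ, hξ, rfl⟩ := h
  obtain ⟨U, φ, hφe, hφs⟩ := hX.atlas
  have sq := hφe.rep.isPullback' ξ
  have h1e : Etale (hφe.rep.snd ξ).left := hφe.property_snd ξ
  have h1s : Surjective (hφe.rep.snd ξ).left := hφs.property_snd ξ
  have h2 : LocallyOfFiniteType (hφe.rep.fst' ξ).left :=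
    hξ ((yon S).map (hφe.rep.snd ξ)) φ (hφe.rep.fst' ξ)
      ((repWith_yon_map_iff @Etale _).2 h1e) hφe sq.w.symm
  obtain ⟨w, -⟩ := h1s.surj (IsLocalRing.closedPoint k)
  obtain ⟨k', _, ηW, hηW⟩ := exists_lft_field_point w
  have hη : LocallyOfFiniteType (ηW ≫ (hφe.rep.fst' ξ).left) := inferInstance
  obtain ⟨X', j, hj, x', hx'1, hx'2⟩ := exists_open_nbhd_closed_point k' (ηW ≫ (hφe.rep.fst' ξ).left)
  have := AlgSp.repWith_isMultiplicative (S := S) @Etale
  refine ⟨Over.mk (j ≫ U.hom), (yon S).map (Over.homMk j rfl : Over.mk (j ≫ U.hom) ⟶ U) ≫ φ, x',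
    (RepWith @Etale).comp_mem _ _ ((repWith_yon_map_iff @Etale _).2
      (inferInstanceAs (Etale j))) hφe, hx'1, ?_⟩
  rw [ofPt_yon_map_comp]
  have e1 : (Over.homMk j rfl : Over.mk (j ≫ U.hom) ⟶ U).left x' =
      (hφe.rep.fst' ξ).left (ηW (IsLocalRing.closedPoint k')) := by
    rw [← Scheme.Hom.comp_apply]
    exact hx'2
  rw [e1, ← ofPt_yon_map_comp, sq.w, ofPt_yon_map_comp]
  congr 1
  exact (inferInstance : Subsingleton (PrimeSpectrum k)).elim _ _

end Groth.Agent.H50
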