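import Groth.Agent.H50.FTPoint
import Mathlib.Topology.LocallyClosed

/-! Finite type points in locally closed subsets (helper50). -/

set_option autoImplicit false
universe u
open CategoryTheory CategoryTheory.Limits AlgebraicGeometry
open AlgSp

namespace Groth.Agent.H50

open Groth.Agent.H52

/-- Every point of a locally closed subset of a scheme specializes, inside the subset, to a finite type point. -/
theorem exists_lft_field_point_mem {U : Scheme.{u}} (T : Set U) (hT : IsLocallyClosed T) (t : U)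
    (ht : t ∈ T) :
    ∃ (k : Type u) (_ : Field k) (η : Spec (CommRingCat.of k) ⟶ U),
      LocallyOfFiniteType η ∧ η (IsLocalRing.closedPoint k) ∈ T := by
  obtain ⟨O, Z, hO, hZ, rfl⟩ := hT
  obtain ⟨O', hO'⟩ : ∃ O' : U.Opens, (O' : Set U) = O := ⟨⟨O, hO⟩, rfl⟩
  have htO : t ∈ O' := by
    show t ∈ (O' : Set U)
    rw [hO']
    exact ht.1
  obtain ⟨y, hy⟩ := (O' : Scheme.{u}).affineOpenCover.covers ⟨t, htO⟩
  generalize (O' : Scheme.{u}).affineOpenCover.idx ⟨t, htO⟩ = i at y hy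
  obtain ⟨m, hm, hle⟩ := Ideal.exists_le_maximal
    (y : PrimeSpectrum ((O' : Scheme.{u}).affineOpenCover.X i)).asIdeal
    (y : PrimeSpectrum ((O' : Scheme.{u}).affineOpenCover.X i)).isPrime.ne_top
  letI : Field ((O' : Scheme.{u}).affineOpenCover.X i ⧸ m) := Ideal.Quotient.field m
  obtain ⟨pm, hpm⟩ : ∃ pm : PrimeSpectrum ((O' : Scheme.{u}).affineOpenCover.X i), pm.asIdeal = m :=
    ⟨⟨m, hm.isPrime⟩, rfl⟩
  have hspec : (y : PrimeSpectrum ((O' : Scheme.{u}).affineOpenCover.X i)) ⤳ pm :=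
    (PrimeSpectrum.le_iff_specializes _ _).1 (by
      show (y : PrimeSpectrum ((O' : Scheme.{u}).affineOpenCover.X i)).asIdeal ≤ pm.asIdeal
      rw [hpm]
      exact hle)
  have hyt : ((O' : Scheme.{u}).affineOpenCover.f i ≫ O'.ι) y = t := by
    rw [Scheme.Hom.comp_apply, hy]
    rfl
  have hyZ : ((O' : Scheme.{u}).affineOpenCover.f i ≫ O'.ι) y ∈ Z := by
    rw [hyt]
    exact ht.2
  have hpmZ : ((O' : Scheme.{u}).affineOpenCover.f i ≫ O'.ι) pm ∈ Z :=
    (hspec.map ((O' : Scheme.{u}).affineOpenCover.f i ≫ O'.ι).continuous).mem_closed hZ hyZ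
  have hpmO : ((O' : Scheme.{u}).affineOpenCover.f i ≫ O'.ι) pm ∈ O := by
    rw [← hO']
    exact ((O' : Scheme.{u}).affineOpenCover.f i pm).2
  have h1 : LocallyOfFiniteType (Spec.map (CommRingCat.ofHom (Ideal.Quotient.mk m))) :=
    (HasRingHomProperty.Spec_iff (P := @LocallyOfFiniteType)).2
      (RingHom.FiniteType.of_surjective _ Ideal.Quotient.mk_surjective)
  refine ⟨(O' : Scheme.{u}).affineOpenCover.X i ⧸ m, Ideal.Quotient.field m,
    Spec.map (CommRingCat.ofHom (Ideal.Quotient.mk m)) ≫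
      (O' : Scheme.{u}).affineOpenCover.f i ≫ O'.ι, inferInstance, ?_⟩
  have e : (Spec.map (CommRingCat.ofHom (Ideal.Quotient.mk m)))
      (IsLocalRing.closedPoint ((O' : Scheme.{u}).affineOpenCover.X i ⧸ m)) = pm := by
    apply PrimeSpectrum.ext
    rw [hpm]
    show Ideal.comap (Ideal.Quotient.mk m) (IsLocalRing.maximalIdeal _) = m
    rw [IsLocalRing.maximalIdeal_eq_bot, ← RingHom.ker_eq_comap_bot, Ideal.mk_ker]
  rw [Scheme.Hom.comp_apply, e]
  exact ⟨hpmO, hpmZ⟩

variable {S : Scheme.{u}}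

/-- Every nonempty locally closed subset of the points of an algebraic space contains a finite type point. -/
theorem exists_isFTPoint_mem {X : Sp S} (hX : IsAlgSpace X) (T : Set (Points X))
    (hT : IsLocallyClosed T) (hne : T.Nonempty) : ∃ x ∈ T, IsFTPoint X x := by
  obtain ⟨t, ht⟩ := hne
  obtain ⟨U, φ, hφe, hφs⟩ := hX.atlas
  obtain ⟨u, rfl⟩ := surjective_ofPt_of_surjective φ hφs t
  have hT' : IsLocallyClosed (Points.ofPt φ ⁻¹' T) := hT.preimage (Points.continuous_ofPt φ)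
  obtain ⟨k, _, η, hη, hmem⟩ := exists_lft_field_point_mem _ hT' u ht
  exact ⟨_, hmem, isFTPoint_of_lft φ (locP_lft_of_etale φ hφe) k η hη⟩

end Groth.Agent.H50
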