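import Mathlib

/-! Squad piece (E1a) for S1291 (helper13): an element of `C_h ⊗[A] C` dying in `C_h ⊗[A] C_h` is
killed by a power of `1 ⊗ h` (helper50). -/

set_option autoImplicit false
universe u
open TensorProduct

namespace Groth.Agent.H50.FZ

theorem exists_pow_mul_eq_zero_of_map_eq_zero {A C : Type u} [CommRing A] [CommRing C] [Algebra A C]
    (h : C) [Module.Flat A (Localization.Away h)] (z : Localization.Away h ⊗[A] C)
    (hz : Algebra.TensorProduct.map (AlgHom.id (Localization.Away h) (Localization.Away h))
      (IsScalarTower.toAlgHom A C (Localization.Away h)) z = 0) :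
    ∃ n : ℕ, ((1 : Localization.Away h) ⊗ₜ[A] h) ^ n * z = 0 := by
  let φ : Localization.Away h ⊗[A] C →ₐ[Localization.Away h]
      Localization.Away h ⊗[A] Localization.Away h :=
    Algebra.TensorProduct.map (AlgHom.id (Localization.Away h) (Localization.Away h))
      (IsScalarTower.toAlgHom A C (Localization.Away h))
  letI : Algebra (Localization.Away h ⊗[A] C) (Localization.Away h ⊗[A] Localization.Away h) :=
    φ.toRingHom.toAlgebra
  haveI : IsScalarTower (Localization.Away h) (Localization.Away h ⊗[A] C)
      (Localization.Away h ⊗[A] Localization.Away h) :=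
    IsScalarTower.of_algebraMap_eq (fun x => (φ.commutes x).symm)
  have H : (algebraMap (Localization.Away h ⊗[A] C)
      (Localization.Away h ⊗[A] Localization.Away h)).comp
        (Algebra.TensorProduct.includeRight (R := A) (A := Localization.Away h)).toRingHom =
      (Algebra.TensorProduct.includeRight (R := A) (A := Localization.Away h)).toRingHom.comp
        (algebraMap C (Localization.Away h)) := by
    ext c
    show φ (1 ⊗ₜ c) = 1 ⊗ₜ (algebraMap C (Localization.Away h) c)
    simp [φ]
  haveI := IsLocalization.tensorProduct_tensorProduct_right A (Localization.Away h)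
    (Submonoid.powers h) (Localization.Away h) H
  have hz' : algebraMap (Localization.Away h ⊗[A] C)
      (Localization.Away h ⊗[A] Localization.Away h) z = algebraMap (Localization.Away h ⊗[A] C)
      (Localization.Away h ⊗[A] Localization.Away h) 0 := by
    rw [map_zero]
    exact hz
  obtain ⟨⟨m, hm⟩, hmz⟩ := (IsLocalization.eq_iff_exists ((Submonoid.powers h).map
    (Algebra.TensorProduct.includeRight (R := A) (A := Localization.Away h)))
    (Localization.Away h ⊗[A] Localization.Away h)).mp hz'
  obtain ⟨c, ⟨n, rfl⟩, rfl⟩ := hm
  refine ⟨n, ?_⟩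
  rw [Algebra.TensorProduct.tmul_pow, one_pow]
  simpa using hmz

end Groth.Agent.H50.FZ
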