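import Mathlib
import Groth.Agent.H50.FZ_E1a

/-! Squad piece (E1) for S1291 (helper13): the separability idempotent of an etale localization
`C_h` of a finite `A`-algebra `C`, as an element of `C_h ⊗[A] C` (helper50). -/

set_option autoImplicit false
universe u
open TensorProduct

namespace Groth.Agent.H50.FZ

/-- Every element of `C_h ⊗[A] C_h` becomes the image of an element of `C_h ⊗[A] C` after
multiplication by (the image of) a power of `1 ⊗ h`. -/
theorem exists_map_eq_mul_pow {A C : Type u} [CommRing A] [CommRing C] [Algebra A C]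
    (h : C) (ε : Localization.Away h ⊗[A] Localization.Away h) :
    ∃ (e₀ : Localization.Away h ⊗[A] C) (m : ℕ),
      Algebra.TensorProduct.map (AlgHom.id (Localization.Away h) (Localization.Away h))
        (IsScalarTower.toAlgHom A C (Localization.Away h)) e₀ =
      ε * Algebra.TensorProduct.map (AlgHom.id (Localization.Away h) (Localization.Away h))
        (IsScalarTower.toAlgHom A C (Localization.Away h))
          (((1 : Localization.Away h) ⊗ₜ[A] h) ^ m) := by
  let φ : Localization.Away h ⊗[A] C →ₐ[Localization.Away h]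
      Localization.Away h ⊗[A] Localization.Away h :=
    Algebra.TensorProduct.map (AlgHom.id (Localization.Away h) (Localization.Away h))
      (IsScalarTower.toAlgHom A C (Localization.Away h))
  letI : Algebra (Localization.Away h ⊗[A] C) (Localization.Away h ⊗[A] Localization.Away h) :=
    φ.toRingHom.toAlgebra
  haveI : IsScalarTower (Localization.Away h) (Localization.Away h ⊗[A] C)
      (Localization.Away h ⊗[A] Localization.Away h) :=
    IsScalarTower.of_algebraMap_eq (fun x => (φ.commutes x).symm)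
  have H : (algebraMap (Localization.Away h ⊗[A] C)
      (Localization.Away h ⊗[A] Localization.Away h)).comp
        (Algebra.TensorProduct.includeRight (R := A) (A := Localization.Away h)).toRingHom =
      (Algebra.TensorProduct.includeRight (R := A) (A := Localization.Away h)).toRingHom.comp
        (algebraMap C (Localization.Away h)) := by
    ext c
    show φ (1 ⊗ₜ c) = 1 ⊗ₜ (algebraMap C (Localization.Away h) c)
    simp [φ]
  haveI := IsLocalization.tensorProduct_tensorProduct_right A (Localization.Away h)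
    (Submonoid.powers h) (Localization.Away h) H
  obtain ⟨⟨e₀, ⟨m, hm⟩⟩, he⟩ := IsLocalization.surj ((Submonoid.powers h).map
    (Algebra.TensorProduct.includeRight (R := A) (A := Localization.Away h))) ε
  obtain ⟨c, ⟨n, rfl⟩, rfl⟩ := hm
  refine ⟨e₀, n, ?_⟩
  rw [Algebra.TensorProduct.tmul_pow, one_pow]
  exact he.symm

theorem exists_sep_elem {A C : Type u} [CommRing A] [CommRing C] [Algebra A C] [Module.Finite A C]
    (h : C) [Algebra.Etale A (Localization.Away h)] :
    ∃ e : Localization.Away h ⊗[A] C,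
      Algebra.TensorProduct.lift (AlgHom.id (Localization.Away h) (Localization.Away h))
        (IsScalarTower.toAlgHom A C (Localization.Away h)) (fun _ _ => Commute.all _ _) e = 1 ∧
      ∀ c : C, ((1 : Localization.Away h) ⊗ₜ[A] c) * e =
        (algebraMap C (Localization.Away h) c ⊗ₜ[A] (1 : C)) * e := by
  classical
  let ψ : C →ₐ[A] Localization.Away h := IsScalarTower.toAlgHom A C (Localization.Away h)
  let φ : Localization.Away h ⊗[A] C →ₐ[Localization.Away h]
      Localization.Away h ⊗[A] Localization.Away h :=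
    Algebra.TensorProduct.map (AlgHom.id (Localization.Away h) (Localization.Away h)) ψ
  let μ : Localization.Away h ⊗[A] C →ₐ[Localization.Away h] Localization.Away h :=
    Algebra.TensorProduct.lift (AlgHom.id (Localization.Away h) (Localization.Away h)) ψ
      (fun _ _ => Commute.all _ _)
  have hψ : ∀ c, ψ c = algebraMap C (Localization.Away h) c := fun c => rfl
  have hμ : ∀ t, Algebra.TensorProduct.lmul' A (φ t) = μ t := by
    intro t
    induction t using TensorProduct.induction_on with
    | zero => simp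
    | tmul x y => simp [φ, μ]
    | add x y hx hy => rw [map_add, map_add, map_add, hx, hy]
  have hμt : μ ((1 : Localization.Away h) ⊗ₜ[A] h) = algebraMap C (Localization.Away h) h := by
    simp [μ, ψ]
  haveI : Module.Flat A (Localization.Away h) := inferInstance
  have hε2 : Algebra.TensorProduct.lmul' A (Algebra.FormallyUnramified.elem A (Localization.Away h)) = 1 :=
    Algebra.FormallyUnramified.lmul_elem
  obtain ⟨e₀, m, he₀⟩ := exists_map_eq_mul_pow (A := A) h
    (Algebra.FormallyUnramified.elem A (Localization.Away h))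
  have he₀' : φ e₀ = Algebra.FormallyUnramified.elem A (Localization.Away h) *
      φ (((1 : Localization.Away h) ⊗ₜ[A] h) ^ m) := he₀
  have hμe₀ : μ e₀ = (algebraMap C (Localization.Away h) h) ^ m := by
    rw [← hμ, he₀', map_mul, hε2, one_mul, hμ, map_pow, hμt]
  -- the derivation-like linear map
  let D : C →ₗ[A] Localization.Away h ⊗[A] C :=
    (LinearMap.mulRight A e₀) ∘ₗ (TensorProduct.mk A (Localization.Away h) C 1 -
      ((TensorProduct.mk A (Localization.Away h) C).flip 1) ∘ₗ ψ.toLinearMap)
  have hD : ∀ c, D c = ((1 : Localization.Away h) ⊗ₜ[A] c - ψ c ⊗ₜ[A] (1 : C)) * e₀ :=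
    fun c => rfl
  have hφD : ∀ c, φ (D c) = 0 := by
    intro c
    have h1 : φ ((1 : Localization.Away h) ⊗ₜ[A] c) = 1 ⊗ₜ ψ c := by simp [φ]
    have h2 : φ (ψ c ⊗ₜ[A] (1 : C)) = ψ c ⊗ₜ 1 := by simp [φ]
    rw [hD, map_mul, he₀', map_sub, h1, h2, ← mul_assoc,
      Algebra.FormallyUnramified.one_tmul_sub_tmul_one_mul_elem, zero_mul]
  choose n hn using fun c => exists_pow_mul_eq_zero_of_map_eq_zero (A := A) h (D c) (hφD c)
  obtain ⟨s, hs⟩ := (Module.Finite.fg_top : (⊤ : Submodule A C).FG)
  have hN : ∀ c ∈ s, ((1 : Localization.Away h) ⊗ₜ[A] h) ^ (s.sup n) * D c = 0 := by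
    intro c hc
    have hle : n c ≤ s.sup n := Finset.le_sup hc
    obtain ⟨k, hk⟩ := Nat.exists_eq_add_of_le hle
    rw [hk, pow_add, mul_comm (_ ^ (n c)), mul_assoc, hn, mul_zero]
  have hall : ∀ c, ((1 : Localization.Away h) ⊗ₜ[A] h) ^ (s.sup n) * D c = 0 := by
    have h0 : (LinearMap.mulLeft A (((1 : Localization.Away h) ⊗ₜ[A] h) ^ (s.sup n))) ∘ₗ D = 0 := by
      apply LinearMap.ext_on hs
      intro c hc
      simpa using hN c hc
    intro c
    exact LinearMap.congr_fun h0 c
  have hkey : ∀ c, ((1 : Localization.Away h) ⊗ₜ[A] c) *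
      (((1 : Localization.Away h) ⊗ₜ[A] h) ^ (s.sup n) * e₀) =
      (ψ c ⊗ₜ[A] (1 : C)) * (((1 : Localization.Away h) ⊗ₜ[A] h) ^ (s.sup n) * e₀) := by
    intro c
    have h3 := hall c
    rw [hD] at h3
    rw [← sub_eq_zero, ← sub_mul]
    calc ((1 : Localization.Away h) ⊗ₜ[A] c - ψ c ⊗ₜ[A] (1 : C)) *
          (((1 : Localization.Away h) ⊗ₜ[A] h) ^ (s.sup n) * e₀)
        = ((1 : Localization.Away h) ⊗ₜ[A] h) ^ (s.sup n) *
          (((1 : Localization.Away h) ⊗ₜ[A] c - ψ c ⊗ₜ[A] (1 : C)) * e₀) := by ring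
      _ = 0 := h3
  have hμe₁ : μ (((1 : Localization.Away h) ⊗ₜ[A] h) ^ (s.sup n) * e₀) =
      (algebraMap C (Localization.Away h) h) ^ (s.sup n + m) := by
    rw [map_mul, map_pow, hμt, hμe₀, pow_add]
  obtain ⟨u, hu⟩ : IsUnit ((algebraMap C (Localization.Away h) h) ^ (s.sup n + m)) :=
    (IsLocalization.Away.algebraMap_isUnit h).pow _
  refine ⟨((↑u⁻¹ : Localization.Away h) ⊗ₜ[A] (1 : C)) *
    (((1 : Localization.Away h) ⊗ₜ[A] h) ^ (s.sup n) * e₀), ?_, ?_⟩
  · show μ _ = 1
    have h4 : μ ((↑u⁻¹ : Localization.Away h) ⊗ₜ[A] (1 : C)) = ↑u⁻¹ := by simp [μ]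
    rw [map_mul, hμe₁, ← hu, h4, Units.inv_mul]
  · intro c
    show ((1 : Localization.Away h) ⊗ₜ[A] c) * _ = (ψ c ⊗ₜ[A] (1 : C)) * _
    rw [mul_left_comm, hkey c, mul_left_comm]

end Groth.Agent.H50.FZ
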