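import Groth.Agent.H50.GrpLocus
import Groth.Agent.S10311
import Groth.Agent.H52.ChartIndep
import Groth.Agent.H52.ChartAt

/-!
# helper50: relative dimension at a point, base change and translation in a group algebraic space
-/

set_option autoImplicit false
universe u
open CategoryTheory CategoryTheory.Limits AlgebraicGeometry Opposite MonoidalCategory MonObj
open CartesianMonoidalCategory

namespace Groth.Agent.H50

open AlgSp Groth.Agent.H52

variable {S : Scheme.{u}}

/-- Every point of the source of a morphism of algebraic spaces has some relative dimension. -/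
theorem exists_fibreDim {X Y : Sp S} (hX : IsAlgSpace X) (hY : IsAlgSpace Y) (f : X ⟶ Y)
    (x : Points X) :
    ∃ d : WithBot ℕ∞, HasAtMor (fun _ _ h u => FlatMor.fibreDimAt h u = d) f x := by
  obtain ⟨U, V, a, b, h, u, ha, hb, comm, hu⟩ := exists_chart_diagram_at hX hY f x
  exact ⟨FlatMor.fibreDimAt h.left u, U, V, a, b, h, u, ha, hb, comm, hu, rfl⟩

/-- The relative dimension at a point does not depend on the chart diagram. -/
theorem fibreDim_unique {X Y : Sp S} (f : X ⟶ Y) (x : Points X) (d d' : WithBot ℕ∞)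
    (hd : HasAtMor (fun _ _ h u => FlatMor.fibreDimAt h u = d) f x)
    (hd' : HasAtMor (fun _ _ h u => FlatMor.fibreDimAt h u = d') f x) : d = d' := by
  obtain ⟨U, V, a, b, h, u, ha, hb, comm, hu, e⟩ := hd
  rw [← e]
  exact fibreDimAt_eq_of_hasAtMor f x d' hd' a b h ha hb comm u hu

/-- Base change of the relative dimension at a point, as an equivalence. -/
theorem fibreDim_baseChange_iff {X Y X'' Y'' : AlgSp.Space S} (f : X ⟶ Y)
    (hf : AlgSp.LocP @LocallyOfFiniteType f.hom) (g : Y'' ⟶ Y) (b : X'' ⟶ X) (f'' : X'' ⟶ Y'')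
    (sq : IsPullback b.hom f''.hom f.hom g.hom) (x'' : Points X''.obj) (d : WithBot ℕ∞) :
    HasAtMor (fun _ _ h u => FlatMor.fibreDimAt h u = d) f''.hom x'' ↔
      HasAtMor (fun _ _ h u => FlatMor.fibreDimAt h u = d) f.hom (Points.map b.hom x'') := by
  constructor
  · intro h
    obtain ⟨d', hd'⟩ := exists_fibreDim X.property Y.property f.hom (Points.map b.hom x'')
    have h' := Groth.Agent.S10311.result f g b f'' sq hf x'' d' hd'
    rw [fibreDim_unique f''.hom x'' d d' h h']
    exact hd'
  · intro h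
    exact Groth.Agent.S10311.result f g b f'' sq hf x'' d h

/-- The relative dimension of a group algebraic space at a point equals that at the unit point of the same fibre. -/
theorem grp_fibreDim_translate {B : AlgSp.Sp S} (hB : AlgSp.IsAlgSpace B)
    (G : Over B) [GrpObj G] (hG : AlgSp.IsAlgSpace G.left)
    (hlft : AlgSp.LocP @LocallyOfFiniteType G.hom) (pt : AlgSp.Points G.left) (d : WithBot ℕ∞) :
    AlgSp.HasAtMor (fun _ _ h u => FlatMor.fibreDimAt h u = d) G.hom pt ↔
      AlgSp.HasAtMor (fun _ _ h u => FlatMor.fibreDimAt h u = d) G.hom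
        (AlgSp.Points.map (η[G]).left (AlgSp.Points.map G.hom pt)) := by
  let Gs : AlgSp.Space S := ⟨G.left, hG⟩
  let Bs : AlgSp.Space S := ⟨B, hB⟩
  let π : Gs ⟶ Bs := ObjectProperty.homMk G.hom
  have sqA : IsPullback (fst G G).left (snd G G).left G.hom G.hom :=
    IsPullback.of_hasPullback G.hom G.hom
  have sqM : IsPullback (μ[G]).left (snd G G).left G.hom G.hom :=
    (isPullback_mul G).map (Over.forget B)
  have hGG : AlgSp.IsAlgSpace (G ⊗ G).left := isAlgSpace_of_isPullback sqA hB.diag hG hG
  let GGs : AlgSp.Space S := ⟨(G ⊗ G).left, hGG⟩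
  have hA := fun x'' => fibreDim_baseChange_iff π hlft π
    (ObjectProperty.homMk (fst G G).left : GGs ⟶ Gs)
    (ObjectProperty.homMk (snd G G).left : GGs ⟶ Gs) sqA x'' d
  have hM := fun x'' => fibreDim_baseChange_iff π hlft π
    (ObjectProperty.homMk (μ[G]).left : GGs ⟶ Gs)
    (ObjectProperty.homMk (snd G G).left : GGs ⟶ Gs) sqM x'' d
  have e1 : (lift (toUnit G ≫ η[G]) (𝟙 G)).left ≫ (fst G G).left =
      G.hom ≫ (η[G]).left := by
    rw [← Over.comp_left, lift_fst, Over.comp_left]; rfl
  have e2 : (lift (toUnit G ≫ η[G]) (𝟙 G)).left ≫ (μ[G]).left = 𝟙 G.left := by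
    rw [← Over.comp_left, MonObj.lift_comp_one_left]; rfl
  have h := (hA (AlgSp.Points.map (lift (toUnit G ≫ η[G]) (𝟙 G)).left pt)).symm.trans
    (hM (AlgSp.Points.map (lift (toUnit G ≫ η[G]) (𝟙 G)).left pt))
  rw [show (ObjectProperty.homMk (fst G G).left : GGs ⟶ Gs).hom = (fst G G).left from rfl,
    show (ObjectProperty.homMk (μ[G]).left : GGs ⟶ Gs).hom = (μ[G]).left from rfl,
    ← AlgSp.Points.map_comp, ← AlgSp.Points.map_comp, e1, e2, AlgSp.Points.map_id,
    AlgSp.Points.map_comp] at h
  exact h.symm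

end Groth.Agent.H50
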