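import Groth.Agent.H52.EtLocalInst
import Groth.Agent.H50.InfNbhd
import Groth.Prelude.Def_MoreMor

/-!
# helper50: flatness of fibre maps of chart towers from flatness of the fibres of a morphism of spaces
-/

set_option autoImplicit false
universe u
open CategoryTheory CategoryTheory.Limits AlgebraicGeometry Opposite

namespace Groth.Agent.H50

open AlgSp

variable {S : Scheme.{u}}

/-- The fibres of `f` over all field valued points of `Z` are flat (the hypothesis of the fibrewise
criterion of flatness for morphisms of algebraic spaces). -/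
def FibFlat {X Y Z : AlgSp.Space S} (f : X ⟶ Y) (h : Y ⟶ Z) : Prop :=
  ∀ (K : Type u) [Field K] (sK : Spec (CommRingCat.of K) ⟶ S)
    (z : (AlgSp.yon S).obj (Over.mk sK) ⟶ Z.obj) (Xz Yz : AlgSp.Sp S)
    (pX : Xz ⟶ X.obj) (qX : Xz ⟶ (AlgSp.yon S).obj (Over.mk sK))
    (pY : Yz ⟶ Y.obj) (qY : Yz ⟶ (AlgSp.yon S).obj (Over.mk sK)) (fz : Xz ⟶ Yz),
    IsPullback pX qX (f ≫ h).hom z → IsPullback pY qY h.hom z → fz ≫ pY = pX ≫ f.hom → fz ≫ qY = qX →
    AlgSp.LocP @Flat fz

/-- Let `(a, b, k)` be a chart diagram of `f : X ⟶ Y`, `c : h_W ⟶ Z` a chart of `Z`, and let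
`k₁ : U₁ ⟶ V₁`, `qV : V₁ ⟶ W` be the base change of `k` to `W`.  If the fibres of `f` over the field
valued points of `Z` are flat, then the morphism induced by `k₁` on the fibres over any point of `W`
is flat. -/
theorem flat_fiberMap_of_fibFlat {X Y Z : AlgSp.Space S} (f : X ⟶ Y) (h : Y ⟶ Z)
    (hfib : FibFlat f h)
    {U V W U₁ V₁ : Over S} (a : (yon S).obj U ⟶ X.obj) (b : (yon S).obj V ⟶ Y.obj)
    (c : (yon S).obj W ⟶ Z.obj) (ha : RepWith @Etale a) (hb : RepWith @Etale b)
    (k : U ⟶ V) (comm : a ≫ f.hom = (yon S).map k ≫ b)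
    (pU : U₁ ⟶ U) (pV : V₁ ⟶ V) (qV : V₁ ⟶ W) (k₁ : U₁ ⟶ V₁)
    (sqU : IsPullback ((yon S).map pU) ((yon S).map (k₁ ≫ qV)) (a ≫ f.hom ≫ h.hom) c)
    (sqV : IsPullback ((yon S).map pV) ((yon S).map qV) (b ≫ h.hom) c)
    (hk : k₁ ≫ pV = pU ≫ k) (s : W.left) :
    Flat (MoreMor.fiberMap k₁.left qV.left s) := by
  -- the field valued point
  let sK : Spec (CommRingCat.of (W.left.residueField s)) ⟶ S := W.left.fromSpecResidueField s ≫ W.hom
  let T : Over S := Over.mk sK
  let t : T ⟶ W := Over.homMk (W.left.fromSpecResidueField s) rfl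
  let z : (yon S).obj T ⟶ Z.obj := (yon S).map t ≫ c
  -- the fibres as schemes over `S`
  let FU : Over S := Over.mk ((k₁.left ≫ qV.left).fiberι s ≫ U₁.hom)
  let FV : Over S := Over.mk (qV.left.fiberι s ≫ V₁.hom)
  let iU : FU ⟶ U₁ := Over.homMk ((k₁.left ≫ qV.left).fiberι s) rfl
  let iV : FV ⟶ V₁ := Over.homMk (qV.left.fiberι s) rfl
  have hrU : (k₁.left ≫ qV.left).fiberToSpecResidueField s ≫ T.hom = FU.hom := by
    change (k₁.left ≫ qV.left).fiberToSpecResidueField s ≫ W.left.fromSpecResidueField s ≫ W.hom =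
      (k₁.left ≫ qV.left).fiberι s ≫ U₁.hom
    have e1 := (k₁.left ≫ qV.left).fiber_fac s
    have e2 : (k₁.left ≫ qV.left) ≫ W.hom = U₁.hom := Over.w (k₁ ≫ qV)
    calc (k₁.left ≫ qV.left).fiberToSpecResidueField s ≫ W.left.fromSpecResidueField s ≫ W.hom
        = ((k₁.left ≫ qV.left).fiberToSpecResidueField s ≫ W.left.fromSpecResidueField s) ≫ W.hom := by
          rw [Category.assoc]
      _ = ((k₁.left ≫ qV.left).fiberι s ≫ (k₁.left ≫ qV.left)) ≫ W.hom := by rw [← e1]
      _ = (k₁.left ≫ qV.left).fiberι s ≫ U₁.hom := by rw [Category.assoc, e2]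
  have hrV : qV.left.fiberToSpecResidueField s ≫ T.hom = FV.hom := by
    change qV.left.fiberToSpecResidueField s ≫ W.left.fromSpecResidueField s ≫ W.hom =
      qV.left.fiberι s ≫ V₁.hom
    have e1 := qV.left.fiber_fac s
    have e2 : qV.left ≫ W.hom = V₁.hom := Over.w qV
    calc qV.left.fiberToSpecResidueField s ≫ W.left.fromSpecResidueField s ≫ W.hom
        = (qV.left.fiberToSpecResidueField s ≫ W.left.fromSpecResidueField s) ≫ W.hom := by
          rw [Category.assoc]
      _ = (qV.left.fiberι s ≫ qV.left) ≫ W.hom := by rw [← e1]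
      _ = qV.left.fiberι s ≫ V₁.hom := by rw [Category.assoc, e2]
  let rU : FU ⟶ T := Over.homMk ((k₁.left ≫ qV.left).fiberToSpecResidueField s) hrU
  let rV : FV ⟶ T := Over.homMk (qV.left.fiberToSpecResidueField s) hrV
  have hφ1 : MoreMor.fiberMap k₁.left qV.left s ≫ qV.left.fiberι s =
      (k₁.left ≫ qV.left).fiberι s ≫ k₁.left := by
    unfold MoreMor.fiberMap Scheme.Hom.fiberι
    exact pullback.lift_fst _ _ _
  have hφ2 : MoreMor.fiberMap k₁.left qV.left s ≫ qV.left.fiberToSpecResidueField s =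
      (k₁.left ≫ qV.left).fiberToSpecResidueField s := by
    unfold MoreMor.fiberMap Scheme.Hom.fiberToSpecResidueField
    exact pullback.lift_snd _ _ _
  have hφw : MoreMor.fiberMap k₁.left qV.left s ≫ FV.hom = FU.hom := by
    change MoreMor.fiberMap k₁.left qV.left s ≫ qV.left.fiberι s ≫ V₁.hom =
      (k₁.left ≫ qV.left).fiberι s ≫ U₁.hom
    rw [← Category.assoc, hφ1, Category.assoc, Over.w k₁]
  let φ : FU ⟶ FV := Over.homMk (MoreMor.fiberMap k₁.left qV.left s) hφw
  have hφi : φ ≫ iV = iU ≫ k₁ := by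
    apply Over.OverMorphism.ext
    exact hφ1
  have hφr : φ ≫ rV = rU := by
    apply Over.OverMorphism.ext
    exact hφ2
  -- the fibres are pullbacks
  have hcU : iU ≫ (k₁ ≫ qV) = rU ≫ t := by
    apply Over.OverMorphism.ext
    exact (k₁.left ≫ qV.left).fiber_fac s
  have hcV : iV ≫ qV = rV ≫ t := by
    apply Over.OverMorphism.ext
    exact qV.left.fiber_fac s
  have sqFU : IsPullback iU rU (k₁ ≫ qV) t :=
    IsPullback.of_map (Over.forget S) hcU
      (IsPullback.of_hasPullback (k₁.left ≫ qV.left) (W.left.fromSpecResidueField s))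
  have sqFV : IsPullback iV rV qV t :=
    IsPullback.of_map (Over.forget S) hcV
      (IsPullback.of_hasPullback qV.left (W.left.fromSpecResidueField s))
  have outerU : IsPullback ((yon S).map iU ≫ (yon S).map pU) ((yon S).map rU)
      (a ≫ f.hom ≫ h.hom) z := (sqFU.map (yon S)).paste_horiz sqU
  have outerV : IsPullback ((yon S).map iV ≫ (yon S).map pV) ((yon S).map rV)
      (b ≫ h.hom) z := (sqFV.map (yon S)).paste_horiz sqV
  -- the fibres of the spaces
  have hcomp : (f ≫ h).hom = f.hom ≫ h.hom := rfl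
  have wfz : (pullback.fst (f ≫ h).hom z ≫ f.hom) ≫ h.hom = pullback.snd (f ≫ h).hom z ≫ z := by
    rw [Category.assoc, ← hcomp]
    exact pullback.condition
  let fz : pullback (f ≫ h).hom z ⟶ pullback h.hom z :=
    pullback.lift (pullback.fst (f ≫ h).hom z ≫ f.hom) (pullback.snd (f ≫ h).hom z) wfz
  have wα : ((yon S).map iU ≫ (yon S).map pU ≫ a) ≫ (f ≫ h).hom = (yon S).map rU ≫ z := by
    rw [hcomp]
    have := outerU.w
    simpa only [Category.assoc] using this
  let α : (yon S).obj FU ⟶ pullback (f ≫ h).hom z :=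
    pullback.lift ((yon S).map iU ≫ (yon S).map pU ≫ a) ((yon S).map rU) wα
  have wβ : ((yon S).map iV ≫ (yon S).map pV ≫ b) ≫ h.hom = (yon S).map rV ≫ z := by
    have := outerV.w
    simpa only [Category.assoc] using this
  let β : (yon S).obj FV ⟶ pullback h.hom z :=
    pullback.lift ((yon S).map iV ≫ (yon S).map pV ≫ b) ((yon S).map rV) wβ
  have hα1 : α ≫ pullback.fst (f ≫ h).hom z = (yon S).map iU ≫ (yon S).map pU ≫ a :=
    pullback.lift_fst _ _ _
  have hα2 : α ≫ pullback.snd (f ≫ h).hom z = (yon S).map rU := pullback.lift_snd _ _ _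
  have hβ1 : β ≫ pullback.fst h.hom z = (yon S).map iV ≫ (yon S).map pV ≫ b :=
    pullback.lift_fst _ _ _
  have hβ2 : β ≫ pullback.snd h.hom z = (yon S).map rV := pullback.lift_snd _ _ _
  have topU : IsPullback ((yon S).map iU ≫ (yon S).map pU) α a (pullback.fst (f ≫ h).hom z) := by
    refine IsPullback.of_bot ?_ ?_ (IsPullback.of_hasPullback (f ≫ h).hom z)
    · rw [hα2, hcomp]
      exact outerU
    · rw [hα1, Category.assoc]
  have topV : IsPullback ((yon S).map iV ≫ (yon S).map pV) β b (pullback.fst h.hom z) := by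
    refine IsPullback.of_bot ?_ ?_ (IsPullback.of_hasPullback h.hom z)
    · rw [hβ2]
      exact outerV
    · rw [hβ1, Category.assoc]
  haveI := AlgSp.repWith_isStableUnderBaseChange (S := S) @Etale
  have hα : RepWith @Etale α := MorphismProperty.of_isPullback topU ha
  have hβ : RepWith @Etale β := MorphismProperty.of_isPullback topV hb
  have hfz1 : fz ≫ pullback.fst h.hom z = pullback.fst (f ≫ h).hom z ≫ f.hom :=
    pullback.lift_fst _ _ _
  have hfz2 : fz ≫ pullback.snd h.hom z = pullback.snd (f ≫ h).hom z := pullback.lift_snd _ _ _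
  have commαβ : α ≫ fz = (yon S).map φ ≫ β := by
    apply pullback.hom_ext
    · calc (α ≫ fz) ≫ pullback.fst h.hom z
          = α ≫ (pullback.fst (f ≫ h).hom z ≫ f.hom) := by rw [Category.assoc, hfz1]
        _ = ((yon S).map iU ≫ (yon S).map pU ≫ a) ≫ f.hom := by rw [← Category.assoc, hα1]
        _ = (yon S).map iU ≫ (yon S).map pU ≫ (yon S).map k ≫ b := by
          rw [Category.assoc, Category.assoc, comm]
        _ = (yon S).map (iU ≫ pU ≫ k) ≫ b := by
          rw [Functor.map_comp, Functor.map_comp, Category.assoc, Category.assoc]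
        _ = (yon S).map (φ ≫ iV ≫ pV) ≫ b := by
          rw [← hk, ← Category.assoc φ, hφi, Category.assoc]
        _ = (yon S).map φ ≫ ((yon S).map iV ≫ (yon S).map pV ≫ b) := by
          rw [Functor.map_comp, Functor.map_comp, Category.assoc, Category.assoc]
        _ = ((yon S).map φ ≫ β) ≫ pullback.fst h.hom z := by rw [Category.assoc, hβ1]
    · calc (α ≫ fz) ≫ pullback.snd h.hom z
          = α ≫ pullback.snd (f ≫ h).hom z := by rw [Category.assoc, hfz2]
        _ = (yon S).map rU := hα2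
        _ = (yon S).map φ ≫ (yon S).map rV := by rw [← Functor.map_comp, hφr]
        _ = ((yon S).map φ ≫ β) ≫ pullback.snd h.hom z := by rw [Category.assoc, hβ2]
  have hfz := hfib (W.left.residueField s) sK z (pullback (f ≫ h).hom z) (pullback h.hom z)
    (pullback.fst (f ≫ h).hom z) (pullback.snd (f ≫ h).hom z)
    (pullback.fst h.hom z) (pullback.snd h.hom z) fz
    (IsPullback.of_hasPullback _ _) (IsPullback.of_hasPullback _ _) hfz1 hfz2
  exact hfz α β φ hα hβ commαβ

end Groth.Agent.H50
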