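import Mathlib

/-!
# helper50: two embeddings of a field become conjugate in a large algebraically closed extension
-/

set_option autoImplicit false
universe u
open Cardinal

namespace Groth.Agent.H50.FieldAut

/-- A large algebraically closed extension of `K`. -/
abbrev Big (K : Type u) [Field K] : Type u :=
  AlgebraicClosure (FractionRing (MvPolynomial (K × ℕ) K))

theorem trdeg_big (R K : Type u) [Field R] [Field K] [Algebra R K] :
    Algebra.trdeg R (Big K) = #(K × ℕ) := by
  have hinj : Function.Injective (algebraMap (MvPolynomial (K × ℕ) K) (Big K)) := by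
    rw [IsScalarTower.algebraMap_eq (MvPolynomial (K × ℕ) K)
      (FractionRing (MvPolynomial (K × ℕ) K)) (Big K)]
    exact (algebraMap (FractionRing (MvPolynomial (K × ℕ) K)) (Big K)).injective.comp
      (IsFractionRing.injective (MvPolynomial (K × ℕ) K) (FractionRing (MvPolynomial (K × ℕ) K)))
  have hF : FaithfulSMul (MvPolynomial (K × ℕ) K) (Big K) :=
    (faithfulSMul_iff_algebraMap_injective _ _).2 hinj
  have h1 : Algebra.trdeg R K + Algebra.trdeg K (Big K) = Algebra.trdeg R (Big K) :=
    trdeg_add_eq R K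
  have h2 : Algebra.trdeg K (MvPolynomial (K × ℕ) K) +
      Algebra.trdeg (MvPolynomial (K × ℕ) K) (Big K) = Algebra.trdeg K (Big K) :=
    trdeg_add_eq K (MvPolynomial (K × ℕ) K)
  have h3 : Algebra.trdeg (MvPolynomial (K × ℕ) K) (Big K) = 0 := by
    have a1 : Algebra.IsAlgebraic (MvPolynomial (K × ℕ) K)
        (FractionRing (MvPolynomial (K × ℕ) K)) :=
      IsLocalization.isAlgebraic _ (nonZeroDivisors (MvPolynomial (K × ℕ) K))
    have a2 : Algebra.IsAlgebraic (MvPolynomial (K × ℕ) K) (Big K) :=
      Algebra.IsAlgebraic.trans _ (FractionRing (MvPolynomial (K × ℕ) K)) _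
    exact trdeg_eq_zero
  have h4 : Algebra.trdeg K (MvPolynomial (K × ℕ) K) = #(K × ℕ) := by
    rw [MvPolynomial.trdeg_of_isDomain, Cardinal.lift_id]
  have h5 : Algebra.trdeg R K ≤ #(K × ℕ) := by
    obtain ⟨ι, x, hx⟩ := exists_isTranscendenceBasis' R K
    rw [← hx.cardinalMk_eq_trdeg]
    exact (Cardinal.mk_le_of_injective hx.1.injective).trans
      (Cardinal.mk_le_of_injective (f := fun a : K => (a, 0)) (fun a b h => (Prod.mk.inj h).1))
  have h6 : ℵ₀ ≤ #(K × ℕ) := Cardinal.aleph0_le_mk _
  rw [← h1, ← h2, h3, add_zero, h4]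
  exact Cardinal.add_eq_right h6 h5

theorem exists_basis_big (R K : Type u) [Field R] [Field K] [Algebra R K] :
    ∃ (ι : Type u) (x : ι → Big K), IsTranscendenceBasis R x ∧ #ι = #(K × ℕ) := by
  obtain ⟨ι, x, hx⟩ := exists_isTranscendenceBasis' R (Big K)
  exact ⟨ι, x, hx, hx.cardinalMk_eq_trdeg.trans (trdeg_big R K)⟩

/-- The algebra structure on the large extension induced by one on `K`. -/
noncomputable abbrev bigAlg (R K : Type u) [Field R] [Field K] [Algebra R K] : Algebra R (Big K) := inferInstance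

theorem algebraMap_big (R K : Type u) [Field R] [Field K] [Algebra R K] (r : R) :
    algebraMap R (Big K) r = algebraMap K (Big K) (algebraMap R K r) :=
  IsScalarTower.algebraMap_apply R K (Big K) r

theorem exists_ringEquiv_of_bases {R K L : Type u} [Field R] [Field K] [Field L] [Algebra R K]
    [Algebra R L] [IsAlgClosed K] [IsAlgClosed L] {ι κ : Type u} (v : ι → K) (w : κ → L)
    (e : ι ≃ κ) (hv : IsTranscendenceBasis R v) (hw : IsTranscendenceBasis R w) :
    ∃ f : K ≃+* L, ∀ r : R, f (algebraMap R K r) = algebraMap R L r := by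
  letI := IsAlgClosed.isAlgClosure_of_transcendence_basis v hv
  letI := IsAlgClosed.isAlgClosure_of_transcendence_basis w hw
  let e' : Algebra.adjoin R (Set.range v) ≃ₐ[R] Algebra.adjoin R (Set.range w) :=
    hv.1.aevalEquiv.symm.trans ((MvPolynomial.renameEquiv R e).trans hw.1.aevalEquiv)
  refine ⟨IsAlgClosure.equivOfEquiv K L e'.toRingEquiv, fun r => ?_⟩
  have h := IsAlgClosure.equivOfEquiv_algebraMap K L e'.toRingEquiv
    (algebraMap R (Algebra.adjoin R (Set.range v)) r)
  rw [← IsScalarTower.algebraMap_apply] at h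
  rw [h]
  have : e'.toRingEquiv (algebraMap R (Algebra.adjoin R (Set.range v)) r) =
      algebraMap R (Algebra.adjoin R (Set.range w)) r := e'.commutes r
  rw [this, ← IsScalarTower.algebraMap_apply]

/-- Two embeddings `a, b : k → K` of fields become conjugate under an automorphism of a large algebraically closed
extension of `K`. -/
theorem exists_conj (k K : Type u) [Field k] [Field K] (a b : k →+* K) :
    ∃ (k' : Type u) (_ : Field k') (_ : IsAlgClosed k') (φ : K →+* k') (β : k' ≃+* k'),
      ∀ x, β (φ (a x)) = φ (b x) := by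
  obtain ⟨ιa, xa, hxa, ca⟩ := @exists_basis_big k K _ _ a.toAlgebra
  obtain ⟨ιb, xb, hxb, cb⟩ := @exists_basis_big k K _ _ b.toAlgebra
  obtain ⟨e⟩ := Cardinal.eq.1 (ca.trans cb.symm)
  obtain ⟨f, hf⟩ := @exists_ringEquiv_of_bases k (Big K) (Big K) _ _ _
    (@bigAlg k K _ _ a.toAlgebra) (@bigAlg k K _ _ b.toAlgebra) _ _ ιa ιb xa xb e hxa hxb
  refine ⟨Big K, inferInstance, inferInstance, algebraMap K (Big K), f, fun x => ?_⟩
  have h := hf x
  rw [@algebraMap_big k K _ _ a.toAlgebra x, @algebraMap_big k K _ _ b.toAlgebra x] at h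
  exact h

end Groth.Agent.H50.FieldAut
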