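import Groth.Agent.H50.Points
import Mathlib.AlgebraicGeometry.Morphisms.FlatMono
import Mathlib.AlgebraicGeometry.Morphisms.UniversallyInjective

set_option autoImplicit false
universe u
open CategoryTheory CategoryTheory.Limits AlgebraicGeometry Opposite

namespace Groth.Agent.H50

open AlgSp

/-- A monomorphism from a nonempty scheme to the spectrum of a field is an isomorphism. -/
theorem isIso_of_mono_of_nonempty {E : Scheme.{u}} {K : Type u} [Field K]
    (m : E ⟶ Spec (CommRingCat.of K)) [Mono m] [Nonempty E] : IsIso m := by
  have hinj : Function.Injective m := m.injective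
  have : Subsingleton E := hinj.subsingleton
  have : CompactSpace E := Finite.compactSpace
  have : QuasiCompact m := (HasAffineProperty.iff_of_isAffine (P := @QuasiCompact)).2 ‹_›
  have : Surjective m := ⟨fun y => ⟨Classical.arbitrary E, Subsingleton.elim _ _⟩⟩
  exact Flat.isIso_of_surjective_of_mono m

variable {S : Scheme.{u}}

/-- Two maps from the spectrum of a field to a sheaf with representable diagonal that agree after
a field extension are equal. -/
theorem hom_ext_of_field_ext {X : Sp S} (hX : Representable (Limits.diag X)) {K Ω : Type u}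
    [Field K] [Field Ω] (str : Spec (CommRingCat.of K) ⟶ S) (w : Spec (CommRingCat.of Ω) ⟶ S)
    (β : Over.mk w ⟶ Over.mk str) (a1 a2 : (yon S).obj (Over.mk str) ⟶ X)
    (h : (yon S).map β ≫ a1 = (yon S).map β ≫ a2) : a1 = a2 := by
  have sq := hX.isPullback (prod.lift a1 a2)
  have hdm : Mono (Limits.diag X) :=
    mono_of_mono_fac (show Limits.diag X ≫ prod.fst = 𝟙 X from prod.lift_fst _ _)
  have hm : Mono ((yon S).map (hX.snd (prod.lift a1 a2))) := sq.mono_snd_of_mono
  have hm' : Mono (hX.snd (prod.lift a1 a2)) := (yon S).mono_of_mono_map hm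
  have hm'' : Mono (hX.snd (prod.lift a1 a2)).left := inferInstance
  have hw : ((yon S).map β ≫ a1) ≫ Limits.diag X = (yon S).map β ≫ prod.lift a1 a2 := by
    apply prod.hom_ext
    · simp only [Category.assoc, prod.lift_fst, Category.comp_id]
    · simp only [Category.assoc, prod.lift_snd, Category.comp_id]
      exact h
  have hne : Nonempty (hX.pullback (prod.lift a1 a2)).left :=
    ⟨(hX.lift ((yon S).map β ≫ a1) β hw).left (IsLocalRing.closedPoint Ω)⟩
  have hiso : IsIso (hX.snd (prod.lift a1 a2)).left :=
    isIso_of_mono_of_nonempty (K := K) (hX.snd (prod.lift a1 a2)).left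
  have hiso0 : IsIso ((Over.forget S).map (hX.snd (prod.lift a1 a2))) := hiso
  have hiso' : IsIso (hX.snd (prod.lift a1 a2)) := isIso_of_reflects_iso _ (Over.forget S)
  have hiso'' : IsIso ((yon S).map (hX.snd (prod.lift a1 a2))) := inferInstance
  have e1 := congrArg (fun m => m ≫ prod.fst) sq.w
  have e2 := congrArg (fun m => m ≫ prod.snd) sq.w
  simp only [Category.assoc, prod.lift_fst, prod.lift_snd, Category.comp_id] at e1 e2
  exact (cancel_epi ((yon S).map (hX.snd (prod.lift a1 a2)))).1 (e1.symm.trans e2)

end Groth.Agent.H50
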