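import Groth.Agent.H50.OpenSubChart
import Groth.Agent.H50.Points
import Groth.Agent.H52.SrcFlat
import Groth.Agent.H52.LocPBC
import Groth.Agent.H52.ChartAt
import Groth.Agent.H52.Topology
import Groth.Agent.H8.FlatBaseChange
import Groth.Agent.S1386
import Groth.Prelude.Def_AlgSpMor5
import Groth.Prelude.Def_MoreMor

/-!
# helper50: the flat locus of a morphism of algebraic spaces `X ⟶ Y` over `Z` with `X` flat and locally of finite
presentation over `Z` and `Y` locally of finite type over `Z`: openness, chart independence, comparison with fibres.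
-/

set_option autoImplicit false
universe u
open CategoryTheory CategoryTheory.Limits AlgebraicGeometry Opposite

namespace Groth.Agent.H50

open AlgSp

variable {S : Scheme.{u}}

/-! ### Stalk lemmas -/

theorem flat_stalkMap_comp' {X Y Z : Scheme.{u}} (e : X ⟶ Y) (h : Y ⟶ Z) (x : X)
    (h2 : (e.stalkMap x).hom.Flat) (h3 : (h.stalkMap (e x)).hom.Flat) :
    ((e ≫ h).stalkMap x).hom.Flat := by
  rw [Scheme.Hom.stalkMap_comp]
  exact RingHom.Flat.comp h3 h2

theorem flat_stalkMap_of_comp {X Y Z : Scheme.{u}} (e : X ⟶ Y) (h : Y ⟶ Z) (g : X ⟶ Z)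
    (hg : e ≫ h = g) (x : X) (h2 : (e.stalkMap x).hom.Flat) (h1 : (g.stalkMap x).hom.Flat) :
    (h.stalkMap (e x)).hom.Flat := by
  subst hg
  rw [Scheme.Hom.stalkMap_comp] at h1
  refine RingHom.Flat.of_comp_of_faithfullyFlat (h.stalkMap (e x)).hom (e.stalkMap x).hom ?_ h1
  algebraize [(e.stalkMap x).hom]
  have : Module.Flat (Y.presheaf.stalk (e x)) (X.presheaf.stalk x) := h2
  have : IsLocalHom (algebraMap (Y.presheaf.stalk (e x)) (X.presheaf.stalk x)) :=
    inferInstanceAs (IsLocalHom (e.stalkMap x).hom)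
  exact Module.FaithfullyFlat.of_flat_of_isLocalHom

/-- For `U ⟶ V ⟶ W` with `U` flat and locally of finite presentation over `W` and `V` locally of finite type over `W`,
the set of points of `U` at which `U ⟶ V` is flat is open. -/
theorem isOpen_flat_stalkMap {U V W : Scheme.{u}} (k : U ⟶ V) (l : V ⟶ W)
    [LocallyOfFinitePresentation (k ≫ l)] [Flat (k ≫ l)] [LocallyOfFiniteType l] :
    IsOpen {u : U | (k.stalkMap u).hom.Flat} := by
  have h := (Groth.Agent.S1386.result k l).2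
  have e : {u : U | (k.stalkMap u).hom.Flat} =
      {x : U | (l.stalkMap (k x)).hom.Flat ∧ (k.stalkMap x).hom.Flat} := by
    ext u
    exact ⟨fun hk => ⟨flat_stalkMap_of_comp k l _ rfl u hk (Flat.stalkMap (k ≫ l) u), hk⟩,
      fun h => h.2⟩
  rw [e]
  exact h

/-! ### Open subspaces on which `f` is flat -/

/-- If `f` is flat on an open subspace `j : P ⟶ X`, then `f` is flat at every point of `P`. -/
theorem isFlatAtMor_of_open {X Y P : Sp S} (f : X ⟶ Y) (j : P ⟶ X)
    (hj : RepWith @IsOpenImmersion j) (hfl : LocP @Flat (j ≫ f)) (ξ : Points P) :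
    IsFlatAtMor f (Points.map j ξ) := by
  intro U V a b k u ha hb comm hu
  obtain ⟨O, ι, fst, sq⟩ := hj.1 a
  have hι : IsOpenImmersion ι.left := hj.2 _ _ _ sq
  haveI := AlgSp.repWith_isStableUnderBaseChange (S := S) @Etale
  have hfst : RepWith @Etale fst := MorphismProperty.of_isPullback sq.flip ha
  have commO : fst ≫ (j ≫ f) = (yon S).map (ι ≫ k) ≫ b := by
    rw [← Category.assoc, sq.w, Category.assoc, comm, Functor.map_comp, Category.assoc]
  haveI hflat : Flat (ι.left ≫ k.left) := hfl fst b (ι ≫ k) hfst hb commO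
  have hxy : Points.map j ξ = Points.map a (Points.ofScheme U u) := by
    rw [← Points.ofPt_eq_map_ofScheme, hu]
  obtain ⟨ζ, hζ1, hζ2⟩ := exists_point_of_isPullback sq ξ _ hxy
  have e1 : Points.ofPt ((yon S).map ι) (Points.toScheme O ζ) = Points.ofScheme U u := by
    rw [Points.ofPt_eq_map_ofScheme, Points.ofScheme_toScheme]; exact hζ2
  have e2 := congrArg (Points.toScheme U) e1
  rw [Points.toScheme_ofScheme, Points.toScheme_ofPt] at e2
  rw [← e2]
  exact flat_stalkMap_of_comp ι.left k.left _ rfl _ (Flat.stalkMap ι.left _)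
    (Flat.stalkMap (ι.left ≫ k.left) _)

/-- If the chart morphism `k` of a chart diagram of `f` is flat at all points of an open `O` of the chart, then `f` is
flat on the open subspace of `X` which is the image of `O`. -/
theorem locP_flat_openSub {X Y : Sp S} (f : X ⟶ Y) {U V : Over S} (a : (yon S).obj U ⟶ X)
    (b : (yon S).obj V ⟶ Y) (k : U ⟶ V) (ha : RepWith @Etale a) (hb : RepWith @Etale b)
    (comm : a ≫ f = (yon S).map k ≫ b) (O : U.left.Opens)
    (hO : ∀ u ∈ O, (k.left.stalkMap u).hom.Flat) :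
    LocP @Flat (openSubι X (Points.ofPt a '' (O : Set ↥U.left)) ≫ f) := by
  obtain ⟨a₁, ha₁j, ha₁e, ha₁s⟩ := exists_chart_openSub a ha O
  have hcomm : a₁ ≫ (openSubι X (Points.ofPt a '' (O : Set ↥U.left)) ≫ f) =
      (yon S).map (opensOverι U O ≫ k) ≫ b := by
    rw [← Category.assoc, ha₁j, Category.assoc, comm, Functor.map_comp, Category.assoc]
  have hflat : Flat (opensOverι U O ≫ k).left := by
    show Flat (O.ι ≫ k.left)
    apply Flat.of_stalkMap
    intro o
    exact flat_stalkMap_comp' O.ι k.left o (Flat.stalkMap O.ι o) (hO _ o.2)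
  exact Groth.Agent.H52.locP_of_one_chart Groth.Agent.H52.etLocal_flat _ a₁ b (opensOverι U O ≫ k)
    ha₁e ha₁s hb hcomm hflat

/-- Around a point of a three-level chart diagram at which the chart morphism is flat there is an open subspace of `X` on
which `f` is flat. -/
theorem exists_open_locP_flat {X Y Z : Sp S} (f : X ⟶ Y) (h : Y ⟶ Z)
    (hfp : LocP @LocallyOfFinitePresentation (f ≫ h)) (hfl : LocP @Flat (f ≫ h))
    (hft : LocP @LocallyOfFiniteType h)
    {U V W : Over S} (a : (yon S).obj U ⟶ X) (b : (yon S).obj V ⟶ Y) (c : (yon S).obj W ⟶ Z)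
    (k : U ⟶ V) (l : V ⟶ W) (ha : RepWith @Etale a) (hb : RepWith @Etale b)
    (hc : RepWith @Etale c) (comm1 : a ≫ f = (yon S).map k ≫ b)
    (comm2 : b ≫ h = (yon S).map l ≫ c) (u : ↥U.left) (hu : (k.left.stalkMap u).hom.Flat) :
    ∃ W₀ : Set (Points X), IsOpen W₀ ∧ Points.ofPt a u ∈ W₀ ∧
      LocP @Flat (openSubι X W₀ ≫ f) := by
  have commA : a ≫ (f ≫ h) = (yon S).map (k ≫ l) ≫ c := by
    calc a ≫ (f ≫ h) = (a ≫ f) ≫ h := (Category.assoc _ _ _).symm
      _ = (yon S).map k ≫ (b ≫ h) := by rw [comm1, Category.assoc]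
      _ = (yon S).map k ≫ (yon S).map l ≫ c := by rw [comm2]
      _ = (yon S).map (k ≫ l) ≫ c := by rw [Functor.map_comp, Category.assoc]
  haveI i1 : LocallyOfFinitePresentation (k.left ≫ l.left) := hfp a c (k ≫ l) ha hc commA
  haveI i2 : Flat (k.left ≫ l.left) := hfl a c (k ≫ l) ha hc commA
  haveI i3 : LocallyOfFiniteType l.left := hft b c l hb hc comm2
  let O : U.left.Opens := ⟨{u | (k.left.stalkMap u).hom.Flat}, isOpen_flat_stalkMap k.left l.left⟩
  refine ⟨Points.ofPt a '' (O : Set ↥U.left),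
    Groth.Agent.H52.isOpenMap_ofPt_of_etale a ha _ O.2, ⟨u, hu, rfl⟩, ?_⟩
  exact locP_flat_openSub f a b k ha hb comm1 O (fun u hu => hu)

/-- Chart independence: flatness of the chart morphism of one three-level chart diagram at a point gives flatness of `f`
at the image point (in all chart diagrams). -/
theorem isFlatAtMor_of_chart3 {X Y Z : Sp S} (f : X ⟶ Y) (h : Y ⟶ Z)
    (hfp : LocP @LocallyOfFinitePresentation (f ≫ h)) (hfl : LocP @Flat (f ≫ h))
    (hft : LocP @LocallyOfFiniteType h)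
    {U V W : Over S} (a : (yon S).obj U ⟶ X) (b : (yon S).obj V ⟶ Y) (c : (yon S).obj W ⟶ Z)
    (k : U ⟶ V) (l : V ⟶ W) (ha : RepWith @Etale a) (hb : RepWith @Etale b)
    (hc : RepWith @Etale c) (comm1 : a ≫ f = (yon S).map k ≫ b)
    (comm2 : b ≫ h = (yon S).map l ≫ c) (u : ↥U.left) (hu : (k.left.stalkMap u).hom.Flat) :
    IsFlatAtMor f (Points.ofPt a u) := by
  obtain ⟨W₀, hW₀, hmem, hloc⟩ :=
    exists_open_locP_flat f h hfp hfl hft a b c k l ha hb hc comm1 comm2 u hu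
  obtain ⟨ξ, hξ⟩ : Points.ofPt a u ∈ Set.range (Points.map (openSubι X W₀)) := by
    rw [range_map_openSubι]; exact hmem
  rw [← hξ]
  exact isFlatAtMor_of_open f (openSubι X W₀) (repWith_isOpenImmersion_openSubι hW₀) hloc ξ

/-- Refinement of a chart diagram of `f : X ⟶ Y` by a chart of the base `Z` of `h : Y ⟶ Z`. -/
theorem exists_refine3 {X Y Z : Sp S} (f : X ⟶ Y) (h : Y ⟶ Z) {U V W : Over S}
    (a : (yon S).obj U ⟶ X) (b : (yon S).obj V ⟶ Y) (k : U ⟶ V) (ha : RepWith @Etale a)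
    (hb : RepWith @Etale b) (comm : a ≫ f = (yon S).map k ≫ b) (c : (yon S).obj W ⟶ Z)
    (hc : RepWith @Etale c) :
    ∃ (U₁ V₁ : Over S) (pU : U₁ ⟶ U) (pV : V₁ ⟶ V) (k₁ : U₁ ⟶ V₁) (qV : V₁ ⟶ W),
      RepWith @Etale ((yon S).map pU ≫ a) ∧ RepWith @Etale ((yon S).map pV ≫ b) ∧
      ((yon S).map pU ≫ a) ≫ f = (yon S).map k₁ ≫ ((yon S).map pV ≫ b) ∧
      ((yon S).map pV ≫ b) ≫ h = (yon S).map qV ≫ c ∧
      IsPullback ((yon S).map pU) ((yon S).map (k₁ ≫ qV)) (a ≫ f ≫ h) c ∧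
      IsPullback ((yon S).map pV) ((yon S).map qV) (b ≫ h) c ∧ k₁ ≫ pV = pU ≫ k ∧
      Etale pU.left ∧ (RepWith @Surjective c → Surjective pU.left) := by
  obtain ⟨V₁, pV, qV, sqV, hpVe⟩ : ∃ (V₁ : Over S) (pV : V₁ ⟶ V) (qV : V₁ ⟶ W),
      IsPullback ((yon S).map pV) ((yon S).map qV) (b ≫ h) c ∧ Etale pV.left :=
    ⟨_, hc.rep.snd (b ≫ h), hc.rep.fst' (b ≫ h), (hc.rep.isPullback' (b ≫ h)).flip,
      hc.property_snd (b ≫ h)⟩
  obtain ⟨U₁, pU, qU, sqU0, hpUe, hpUs⟩ : ∃ (U₁ : Over S) (pU : U₁ ⟶ U) (qU : U₁ ⟶ W),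
      IsPullback ((yon S).map pU) ((yon S).map qU) (a ≫ f ≫ h) c ∧ Etale pU.left ∧
        (RepWith @Surjective c → Surjective pU.left) :=
    ⟨_, hc.rep.snd (a ≫ f ≫ h), hc.rep.fst' (a ≫ f ≫ h),
      (hc.rep.isPullback' (a ≫ f ≫ h)).flip, hc.property_snd _, fun hcs => hcs.property_snd _⟩
  have w1 : (yon S).map (pU ≫ k) ≫ (b ≫ h) = (yon S).map qU ≫ c := by
    calc (yon S).map (pU ≫ k) ≫ (b ≫ h)
        = (yon S).map pU ≫ ((yon S).map k ≫ b) ≫ h := by
          rw [Functor.map_comp, Category.assoc, Category.assoc]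
      _ = (yon S).map pU ≫ (a ≫ f ≫ h) := by rw [← comm, Category.assoc]
      _ = (yon S).map qU ≫ c := sqU0.w
  obtain ⟨k₁, hk₁⟩ := (yon S).map_surjective (sqV.lift _ _ w1)
  have hk₁p : k₁ ≫ pV = pU ≫ k := by
    apply (yon S).map_injective
    rw [Functor.map_comp, hk₁, sqV.lift_fst]
  have hk₁q : k₁ ≫ qV = qU := by
    apply (yon S).map_injective
    rw [Functor.map_comp, hk₁, sqV.lift_snd]
  haveI := AlgSp.repWith_isMultiplicative (S := S) @Etale
  have hA : RepWith @Etale ((yon S).map pU ≫ a) :=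
    (RepWith @Etale).comp_mem _ _ ((repWith_yon_map_iff _ _).2 hpUe) ha
  have hB : RepWith @Etale ((yon S).map pV ≫ b) :=
    (RepWith @Etale).comp_mem _ _ ((repWith_yon_map_iff _ _).2 hpVe) hb
  have comm1 : ((yon S).map pU ≫ a) ≫ f = (yon S).map k₁ ≫ ((yon S).map pV ≫ b) := by
    rw [Category.assoc, comm, ← Category.assoc, ← Functor.map_comp, ← hk₁p, Functor.map_comp,
      Category.assoc]
  have comm2 : ((yon S).map pV ≫ b) ≫ h = (yon S).map qV ≫ c := by
    rw [Category.assoc]; exact sqV.w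
  refine ⟨U₁, V₁, pU, pV, k₁, qV, hA, hB, comm1, comm2, ?_, sqV, hk₁p, hpUe, hpUs⟩
  rw [hk₁q]; exact sqU0

/-- The flat locus is open. -/
theorem isOpen_flatLocus {X Y Z : Sp S} (hX : IsAlgSpace X) (hY : IsAlgSpace Y) (hZ : IsAlgSpace Z)
    (f : X ⟶ Y) (h : Y ⟶ Z)
    (hfp : LocP @LocallyOfFinitePresentation (f ≫ h)) (hfl : LocP @Flat (f ≫ h))
    (hft : LocP @LocallyOfFiniteType h) : IsOpen {x : Points X | IsFlatAtMor f x} := by
  rw [isOpen_iff_forall_mem_open]
  intro x hx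
  obtain ⟨U, V, a, b, k, u, ha, hb, comm, hu⟩ :=
    Groth.Agent.H52.exists_chart_diagram_at hX hY f x
  obtain ⟨W, c, hc, hcs⟩ := hZ.atlas
  obtain ⟨U₁, V₁, pU, pV, k₁, qV, hA, hB, comm1, comm2, -, -, -, -, hpUs⟩ :=
    exists_refine3 f h a b k ha hb comm c hc
  obtain ⟨u₁, hu₁⟩ := (hpUs hcs).surj u
  have hx1 : Points.ofPt ((yon S).map pU ≫ a) u₁ = x := by
    rw [Groth.Agent.H52.ofPt_yon_map_comp, hu₁, hu]
  have hk₁ : (k₁.left.stalkMap u₁).hom.Flat := hx _ _ k₁ u₁ hA hB comm1 hx1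
  obtain ⟨W₀, hW₀, hmem, hloc⟩ :=
    exists_open_locP_flat f h hfp hfl hft _ _ c k₁ qV hA hB hc comm1 comm2 u₁ hk₁
  refine ⟨W₀, ?_, hW₀, hx1 ▸ hmem⟩
  intro y hy
  obtain ⟨ξ, rfl⟩ : y ∈ Set.range (Points.map (openSubι X W₀)) := by
    rw [range_map_openSubι]; exact hy
  exact isFlatAtMor_of_open f _ (repWith_isOpenImmersion_openSubι hW₀) hloc ξ

end Groth.Agent.H50
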