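import Groth.Agent.H50.FlatLocus

/-!
# helper50: flatness at a point versus flatness of the fibre over a field valued point
-/

set_option autoImplicit false
universe u
open CategoryTheory CategoryTheory.Limits AlgebraicGeometry Opposite

namespace Groth.Agent.H50

open AlgSp

variable {S : Scheme.{u}}

/-! ### Schemes -/

theorem flat_specMap_of_field {W : Scheme.{u}} (s : W) {K : Type u} [Field K]
    (ψ : W.residueField s ⟶ CommRingCat.of K) : Flat (Spec.map ψ) := by
  rw [Flat.SpecMap_iff]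
  algebraize [ψ.hom]
  exact (inferInstance : Module.Flat (W.residueField s) (CommRingCat.of K))

theorem flat_stalkMap_of_fibre_aux {U V W FU FV : Scheme.{u}} (k : U ⟶ V) (l : V ⟶ W)
    [LocallyOfFinitePresentation (k ≫ l)] [Flat (k ≫ l)] [LocallyOfFiniteType l]
    (K : Type u) [Field K] (t : Spec (CommRingCat.of K) ⟶ W) (s : W)
    (ψ : W.residueField s ⟶ CommRingCat.of K)
    (ht : Spec.map ψ ≫ W.fromSpecResidueField s = t)
    (iU : FU ⟶ U) (rU : FU ⟶ Spec (CommRingCat.of K)) (iV : FV ⟶ V)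
    (rV : FV ⟶ Spec (CommRingCat.of K)) (φ : FU ⟶ FV)
    (sqFU : IsPullback iU rU (k ≫ l) t) (sqFV : IsPullback iV rV l t)
    (hφi : φ ≫ iV = iU ≫ k) (hφr : φ ≫ rV = rU) (ξ : FU)
    (hφ : (φ.stalkMap ξ).hom.Flat) : (k.stalkMap (iU ξ)).hom.Flat := by
  have hs : l (k (iU ξ)) = s := by
    have e1 : (iU ≫ (k ≫ l)) ξ = (rU ≫ t) ξ := by rw [sqFU.w]
    rw [← ht] at e1
    simpa [Scheme.Hom.comp_apply] using e1
  have crit : ∀ (s' : W) (_ : l (k (iU ξ)) = s') (y : (k ≫ l).fiber s'),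
      (k ≫ l).fiberι s' y = iU ξ →
      ((MoreMor.fiberMap k l s').stalkMap y).hom.Flat → (k.stalkMap (iU ξ)).hom.Flat := by
    intro s' hs' y hy hfl
    subst hs'
    have hy' : y = (k ≫ l).asFiber (iU ξ) := by
      apply ((k ≫ l).fiberι _).isEmbedding.injective
      exact hy.trans ((k ≫ l).fiberι_asFiber (iU ξ)).symm
    subst hy'
    exact (((Groth.Agent.S1386.result k l).1 (iU ξ)).1
      ⟨Flat.stalkMap (k ≫ l) (iU ξ), hfl⟩).2
  have wU : iU ≫ (k ≫ l) = (rU ≫ Spec.map ψ) ≫ W.fromSpecResidueField s := by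
    rw [Category.assoc, ht]; exact sqFU.w
  have wV : iV ≫ l = (rV ≫ Spec.map ψ) ≫ W.fromSpecResidueField s := by
    rw [Category.assoc, ht]; exact sqFV.w
  let jU : FU ⟶ (k ≫ l).fiber s := pullback.lift iU (rU ≫ Spec.map ψ) wU
  let jV : FV ⟶ l.fiber s := pullback.lift iV (rV ≫ Spec.map ψ) wV
  have hjU1 : jU ≫ (k ≫ l).fiberι s = iU := pullback.lift_fst _ _ _
  have hjU2 : jU ≫ (k ≫ l).fiberToSpecResidueField s = rU ≫ Spec.map ψ := pullback.lift_snd _ _ _
  have hjV1 : jV ≫ l.fiberι s = iV := pullback.lift_fst _ _ _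
  have hjV2 : jV ≫ l.fiberToSpecResidueField s = rV ≫ Spec.map ψ := pullback.lift_snd _ _ _
  have hfm1 : MoreMor.fiberMap k l s ≫ l.fiberι s = (k ≫ l).fiberι s ≫ k := by
    unfold MoreMor.fiberMap Scheme.Hom.fiberι
    exact pullback.lift_fst _ _ _
  have hfm2 : MoreMor.fiberMap k l s ≫ l.fiberToSpecResidueField s =
      (k ≫ l).fiberToSpecResidueField s := by
    unfold MoreMor.fiberMap Scheme.Hom.fiberToSpecResidueField
    exact pullback.lift_snd _ _ _
  have hcomm : jU ≫ MoreMor.fiberMap k l s = φ ≫ jV := by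
    refine pullback.hom_ext (f := l) (g := W.fromSpecResidueField s) ?_ ?_
    · show (jU ≫ MoreMor.fiberMap k l s) ≫ l.fiberι s = (φ ≫ jV) ≫ l.fiberι s
      rw [Category.assoc, hfm1, ← Category.assoc, hjU1, Category.assoc, hjV1, hφi]
    · show (jU ≫ MoreMor.fiberMap k l s) ≫ l.fiberToSpecResidueField s =
        (φ ≫ jV) ≫ l.fiberToSpecResidueField s
      rw [Category.assoc, hfm2, hjU2, Category.assoc, hjV2, ← Category.assoc, hφr]
  have hψfl : Flat (Spec.map ψ) := flat_specMap_of_field s ψ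
  have sqjU : IsPullback jU rU ((k ≫ l).fiberToSpecResidueField s) (Spec.map ψ) := by
    refine IsPullback.of_right ?_ hjU2 (IsPullback.of_hasPullback (k ≫ l) (W.fromSpecResidueField s))
    have e : jU ≫ pullback.fst (k ≫ l) (W.fromSpecResidueField s) = iU := pullback.lift_fst _ _ _
    rw [e, ht]
    exact sqFU
  have sqjV : IsPullback jV rV (l.fiberToSpecResidueField s) (Spec.map ψ) := by
    refine IsPullback.of_right ?_ hjV2 (IsPullback.of_hasPullback l (W.fromSpecResidueField s))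
    have e : jV ≫ pullback.fst l (W.fromSpecResidueField s) = iV := pullback.lift_fst _ _ _
    rw [e, ht]
    exact sqFV
  haveI hjUfl : Flat jU := MorphismProperty.of_isPullback (P := @Flat) sqjU.flip hψfl
  haveI hjVfl : Flat jV := MorphismProperty.of_isPullback (P := @Flat) sqjV.flip hψfl
  have hfm : ((MoreMor.fiberMap k l s).stalkMap (jU ξ)).hom.Flat :=
    flat_stalkMap_of_comp jU (MoreMor.fiberMap k l s) (φ ≫ jV) hcomm ξ (Flat.stalkMap jU ξ)
      (flat_stalkMap_comp' φ jV ξ hφ (Flat.stalkMap jV (φ ξ)))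
  refine crit s hs (jU ξ) ?_ hfm
  rw [← Scheme.Hom.comp_apply, hjU1]

/-- Let `U ⟶ V ⟶ W` be morphisms of schemes with `U` flat and locally of finite presentation over `W` and `V` locally of
finite type over `W`, and let `FU ⟶ FV` be the base change to a field valued point of `W`.  Then `U ⟶ V` is flat at the
image of a point of `FU` if and only if `FU ⟶ FV` is flat at that point. -/
theorem flat_stalkMap_fibre_iff {U V W FU FV : Scheme.{u}} (k : U ⟶ V) (l : V ⟶ W)
    [LocallyOfFinitePresentation (k ≫ l)] [Flat (k ≫ l)] [LocallyOfFiniteType l]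
    (K : Type u) [Field K] (t : Spec (CommRingCat.of K) ⟶ W)
    (iU : FU ⟶ U) (rU : FU ⟶ Spec (CommRingCat.of K)) (iV : FV ⟶ V)
    (rV : FV ⟶ Spec (CommRingCat.of K)) (φ : FU ⟶ FV)
    (sqFU : IsPullback iU rU (k ≫ l) t) (sqFV : IsPullback iV rV l t)
    (hφi : φ ≫ iV = iU ≫ k) (hφr : φ ≫ rV = rU) (ξ : FU) :
    (k.stalkMap (iU ξ)).hom.Flat ↔ (φ.stalkMap ξ).hom.Flat := by
  constructor
  · intro hk
    have sq : IsPullback φ iU iV k :=
      IsPullback.of_right (by rw [hφr]; exact sqFU.flip) hφi sqFV.flip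
    exact Groth.Agent.H8.flat_stalkMap_baseChange sq ξ hk
  · intro hφ
    exact flat_stalkMap_of_fibre_aux k l K t (t (IsLocalRing.closedPoint K))
      (Scheme.descResidueField (Scheme.stalkClosedPointTo t))
      (Scheme.descResidueField_stalkClosedPointTo_fromSpecResidueField K W t)
      iU rU iV rV φ sqFU sqFV hφi hφr ξ hφ

/-! ### Charts of the fibre of a morphism of spaces over a field valued point -/

theorem exists_fibre_chart {X Y Z Xz Yz : Sp S} (f : X ⟶ Y) (h : Y ⟶ Z)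
    {U V W U₁ V₁ T FU FV : Over S} (a : (yon S).obj U ⟶ X) (b : (yon S).obj V ⟶ Y)
    (c : (yon S).obj W ⟶ Z) (ha : RepWith @Etale a) (hb : RepWith @Etale b)
    (k : U ⟶ V) (comm : a ≫ f = (yon S).map k ≫ b)
    (pU : U₁ ⟶ U) (pV : V₁ ⟶ V) (qV : V₁ ⟶ W) (k₁ : U₁ ⟶ V₁)
    (sqU : IsPullback ((yon S).map pU) ((yon S).map (k₁ ≫ qV)) (a ≫ f ≫ h) c)
    (sqV : IsPullback ((yon S).map pV) ((yon S).map qV) (b ≫ h) c)
    (hk : k₁ ≫ pV = pU ≫ k)
    (t : T ⟶ W) (iU : FU ⟶ U₁) (rU : FU ⟶ T) (iV : FV ⟶ V₁) (rV : FV ⟶ T) (φ : FU ⟶ FV)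
    (sqFU : IsPullback iU rU (k₁ ≫ qV) t) (sqFV : IsPullback iV rV qV t)
    (hφi : φ ≫ iV = iU ≫ k₁) (hφr : φ ≫ rV = rU)
    (pX : Xz ⟶ X) (qX : Xz ⟶ (yon S).obj T) (pY : Yz ⟶ Y) (qY : Yz ⟶ (yon S).obj T)
    (fz : Xz ⟶ Yz)
    (sqX : IsPullback pX qX (f ≫ h) ((yon S).map t ≫ c))
    (sqY : IsPullback pY qY h ((yon S).map t ≫ c))
    (hfz1 : fz ≫ pY = pX ≫ f) (hfz2 : fz ≫ qY = qX) :
    ∃ (α : (yon S).obj FU ⟶ Xz) (β : (yon S).obj FV ⟶ Yz),
      RepWith @Etale α ∧ RepWith @Etale β ∧ α ≫ fz = (yon S).map φ ≫ β ∧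
      β ≫ qY = (yon S).map rV ∧ IsPullback ((yon S).map iU ≫ (yon S).map pU) α a pX := by
  have outerU : IsPullback ((yon S).map iU ≫ (yon S).map pU) ((yon S).map rU)
      (a ≫ f ≫ h) ((yon S).map t ≫ c) := (sqFU.map (yon S)).paste_horiz sqU
  have outerV : IsPullback ((yon S).map iV ≫ (yon S).map pV) ((yon S).map rV)
      (b ≫ h) ((yon S).map t ≫ c) := (sqFV.map (yon S)).paste_horiz sqV
  have wα : ((yon S).map iU ≫ (yon S).map pU ≫ a) ≫ (f ≫ h) =
      (yon S).map rU ≫ ((yon S).map t ≫ c) := by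
    have := outerU.w
    simpa only [Category.assoc] using this
  have wβ : ((yon S).map iV ≫ (yon S).map pV ≫ b) ≫ h = (yon S).map rV ≫ ((yon S).map t ≫ c) := by
    have := outerV.w
    simpa only [Category.assoc] using this
  obtain ⟨α, hα1, hα2⟩ := sqX.exists_lift _ _ wα
  obtain ⟨β, hβ1, hβ2⟩ := sqY.exists_lift _ _ wβ
  have topU : IsPullback ((yon S).map iU ≫ (yon S).map pU) α a pX := by
    refine IsPullback.of_bot ?_ ?_ sqX
    · rw [hα2]
      exact outerU
    · rw [hα1, Category.assoc]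
  have topV : IsPullback ((yon S).map iV ≫ (yon S).map pV) β b pY := by
    refine IsPullback.of_bot ?_ ?_ sqY
    · rw [hβ2]
      exact outerV
    · rw [hβ1, Category.assoc]
  haveI := AlgSp.repWith_isStableUnderBaseChange (S := S) @Etale
  have hα : RepWith @Etale α := MorphismProperty.of_isPullback topU ha
  have hβ : RepWith @Etale β := MorphismProperty.of_isPullback topV hb
  have commαβ : α ≫ fz = (yon S).map φ ≫ β := by
    apply sqY.hom_ext
    · calc (α ≫ fz) ≫ pY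
          = α ≫ (pX ≫ f) := by rw [Category.assoc, hfz1]
        _ = ((yon S).map iU ≫ (yon S).map pU ≫ a) ≫ f := by rw [← Category.assoc, hα1]
        _ = (yon S).map iU ≫ (yon S).map pU ≫ (yon S).map k ≫ b := by
          rw [Category.assoc, Category.assoc, comm]
        _ = (yon S).map (iU ≫ pU ≫ k) ≫ b := by
          rw [Functor.map_comp, Functor.map_comp, Category.assoc, Category.assoc]
        _ = (yon S).map (φ ≫ iV ≫ pV) ≫ b := by
          rw [← hk, ← Category.assoc φ, hφi, Category.assoc]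
        _ = (yon S).map φ ≫ ((yon S).map iV ≫ (yon S).map pV ≫ b) := by
          rw [Functor.map_comp, Functor.map_comp, Category.assoc, Category.assoc]
        _ = ((yon S).map φ ≫ β) ≫ pY := by rw [Category.assoc, hβ1]
    · calc (α ≫ fz) ≫ qY
          = α ≫ qX := by rw [Category.assoc, hfz2]
        _ = (yon S).map rU := hα2
        _ = (yon S).map φ ≫ (yon S).map rV := by rw [← Functor.map_comp, hφr]
        _ = ((yon S).map φ ≫ β) ≫ qY := by rw [Category.assoc, hβ2]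
  exact ⟨α, β, hα, hβ, commαβ, hβ2, topU⟩

/-- Flatness of `f` at a point is flatness at a point of the fibre of `f` over a field valued point of `Z` factoring through
an etale chart of `Z`. -/
theorem isFlatAtMor_fibre_iff {X Y Z Xz Yz : Sp S} (hX : IsAlgSpace X) (hY : IsAlgSpace Y)
    (hZ : IsAlgSpace Z) (f : X ⟶ Y) (h : Y ⟶ Z)
    (hfp : LocP @LocallyOfFinitePresentation (f ≫ h)) (hfl : LocP @Flat (f ≫ h))
    (hft : LocP @LocallyOfFiniteType h)
    {W : Over S} (c : (yon S).obj W ⟶ Z) (hc : RepWith @Etale c)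
    (K : Type u) [Field K] (sK : Spec (CommRingCat.of K) ⟶ S) (t : Over.mk sK ⟶ W)
    (pX : Xz ⟶ X) (qX : Xz ⟶ (yon S).obj (Over.mk sK)) (pY : Yz ⟶ Y)
    (qY : Yz ⟶ (yon S).obj (Over.mk sK)) (fz : Xz ⟶ Yz)
    (sqX : IsPullback pX qX (f ≫ h) ((yon S).map t ≫ c))
    (sqY : IsPullback pY qY h ((yon S).map t ≫ c))
    (hfz1 : fz ≫ pY = pX ≫ f) (hfz2 : fz ≫ qY = qX) (ξ : Points Xz) :
    IsFlatAtMor f (Points.map pX ξ) ↔ IsFlatAtMor fz ξ := by
  obtain ⟨U, V, a, b, k, u, ha, hb, comm, hu⟩ :=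
    Groth.Agent.H52.exists_chart_diagram_at hX hY f (Points.map pX ξ)
  obtain ⟨U₁, V₁, pU, pV, k₁, qV, hA, hB, comm1, comm2, sqU, sqV, hk, -, -⟩ :=
    exists_refine3 f h a b k ha hb comm c hc
  -- the fibres of the charts
  have sqFU := IsPullback.of_hasPullback (k₁ ≫ qV) t
  have sqFV := IsPullback.of_hasPullback qV t
  have wφ : (pullback.fst (k₁ ≫ qV) t ≫ k₁) ≫ qV = pullback.snd (k₁ ≫ qV) t ≫ t := by
    rw [Category.assoc]; exact pullback.condition
  obtain ⟨φ, hφi, hφr⟩ := sqFV.exists_lift _ _ wφ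
  obtain ⟨α, β, hα, hβ, hαβ, hβq, topU⟩ := exists_fibre_chart f h a b c ha hb k comm pU pV qV k₁
    sqU sqV hk t _ _ _ _ φ sqFU sqFV hφi hφr pX qX pY qY fz sqX sqY hfz1 hfz2
  -- the point
  have hxy : Points.map a (Points.ofScheme U u) = Points.map pX ξ := by
    rw [← Points.ofPt_eq_map_ofScheme, hu]
  obtain ⟨ζ, hζ1, hζ2⟩ := exists_point_of_isPullback topU (Points.ofScheme U u) ξ hxy
  have hαpt : Points.ofPt α (Points.toScheme _ ζ) = ξ := by
    rw [Points.ofPt_eq_map_ofScheme, Points.ofScheme_toScheme]; exact hζ2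
  have e1 : Points.ofPt ((yon S).map (pullback.fst (k₁ ≫ qV) t ≫ pU)) (Points.toScheme _ ζ) =
      Points.ofScheme U u := by
    rw [Points.ofPt_eq_map_ofScheme, Points.ofScheme_toScheme, Functor.map_comp]; exact hζ1
  have e2 := congrArg (Points.toScheme U) e1
  rw [Points.toScheme_ofScheme, Points.toScheme_ofPt] at e2
  have hx1 : Points.ofPt ((yon S).map pU ≫ a)
      ((pullback.fst (k₁ ≫ qV) t).left (Points.toScheme _ ζ)) = Points.map pX ξ := by
    rw [Groth.Agent.H52.ofPt_yon_map_comp, ← hu]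
    congr 1
  -- the scheme level comparison
  have commA : ((yon S).map pU ≫ a) ≫ (f ≫ h) = (yon S).map (k₁ ≫ qV) ≫ c := by
    rw [Category.assoc]; exact sqU.w
  haveI i1 : LocallyOfFinitePresentation (k₁.left ≫ qV.left) := hfp _ c (k₁ ≫ qV) hA hc commA
  haveI i2 : Flat (k₁.left ≫ qV.left) := hfl _ c (k₁ ≫ qV) hA hc commA
  haveI i3 : LocallyOfFiniteType qV.left := hft _ c qV hB hc comm2
  have G := flat_stalkMap_fibre_iff k₁.left qV.left K t.left
    (pullback.fst (k₁ ≫ qV) t).left (pullback.snd (k₁ ≫ qV) t).left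
    (pullback.fst qV t).left (pullback.snd qV t).left φ.left
    (sqFU.map (Over.forget S)) (sqFV.map (Over.forget S))
    (congrArg (fun m => m.left) hφi) (congrArg (fun m => m.left) hφr) (Points.toScheme _ ζ)
  -- the triple of the fibre
  have hT : IsAlgSpace ((yon S).obj (Over.mk sK)) := IsAlgSpace.yon_obj _
  have hfpz : LocP @LocallyOfFinitePresentation (fz ≫ qY) := by
    rw [hfz2]
    exact Groth.Agent.H52.locP_baseChange Groth.Agent.H52.etLocal_lfp hX hZ hT sqX hfp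
  have hflz : LocP @Flat (fz ≫ qY) := by
    rw [hfz2]
    exact Groth.Agent.H52.locP_baseChange Groth.Agent.H52.etLocal_flat hX hZ hT sqX hfl
  have hftz : LocP @LocallyOfFiniteType qY :=
    Groth.Agent.H52.locP_baseChange Groth.Agent.H52.etLocal_lft hY hZ hT sqY hft
  constructor
  · intro hf
    have h1 : (k₁.left.stalkMap ((pullback.fst (k₁ ≫ qV) t).left (Points.toScheme _ ζ))).hom.Flat :=
      hf _ _ k₁ _ hA hB comm1 hx1
    have h2 := G.1 h1
    have h3 := isFlatAtMor_of_chart3 fz qY hfpz hflz hftz α β (𝟙 _) φ (pullback.snd qV t) hα hβ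
      (repWith_id _ _) hαβ (by rw [hβq, Category.comp_id]) (Points.toScheme _ ζ) h2
    rwa [hαpt] at h3
  · intro hfz
    have h2 : (φ.left.stalkMap (Points.toScheme _ ζ)).hom.Flat :=
      hfz α β φ (Points.toScheme _ ζ) hα hβ hαβ hαpt
    have h1 := G.2 h2
    have h3 := isFlatAtMor_of_chart3 f h hfp hfl hft ((yon S).map pU ≫ a) ((yon S).map pV ≫ b) c
      k₁ qV hA hB hc comm1 comm2 _ h1
    rwa [hx1] at h3

end Groth.Agent.H50
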