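import Groth.Agent.H50.SchImage
import Groth.Agent.H50.ClosedSub

/-!
# helper50: morphisms from reduced spaces and closed subspaces
-/

set_option autoImplicit false
universe u
open CategoryTheory CategoryTheory.Limits AlgebraicGeometry Opposite

namespace Groth.Agent.H50

open AlgSp Groth.Agent.H52

variable {S : Scheme.{u}}

/-- The preimage in a scheme of the image of a morphism is the range of its base change. -/
theorem range_left_eq_preimage_range_map {F G : Sp S} (j : F ⟶ G) {T V : Over S}
    (g : (yon S).obj T ⟶ G) (fst : (yon S).obj V ⟶ F) (snd : V ⟶ T)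
    (sq : IsPullback fst ((yon S).map snd) j g) :
    Set.range snd.left = Points.ofPt g ⁻¹' Set.range (Points.map j) := by
  ext t
  constructor
  · rintro ⟨v, rfl⟩
    refine ⟨Points.ofPt fst v, ?_⟩
    rw [Points.map_ofPt, sq.w, ofPt_yon_map_comp]
  · rintro ⟨x, hx⟩
    rw [Points.ofPt_eq_map_ofScheme] at hx
    obtain ⟨z, -, hz⟩ := Groth.Agent.H52.exists_point_of_isPullback sq x _ hx
    obtain ⟨v, rfl⟩ := (Points.schemeEquiv V).surjective z
    change Points.map _ (Points.ofScheme V v) = _ at hz
    rw [map_yon_map_ofScheme] at hz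
    exact ⟨v, ofScheme_injective T hz⟩

/-- The image on points of a closed subspace of an algebraic space is closed. -/
theorem isClosed_range_map_of_closedImmersion {Y Z : Sp S} (hY : IsAlgSpace Y) (i : Z ⟶ Y)
    (hi : RepWith @IsClosedImmersion i) : IsClosed (Set.range (Points.map i)) := by
  obtain ⟨V, a, ha, has⟩ := hY.atlas
  rw [← (isQuotientMap_ofPt a ha has).isClosed_preimage,
    ← range_left_eq_preimage_range_map i a _ _ (hi.rep.isPullback a)]
  haveI : IsClosedImmersion (hi.rep.snd a).left := hi.property_snd a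
  exact (hi.rep.snd a).left.isClosedEmbedding.isClosed_range

/-- A morphism from a reduced space landing, on points, in a closed subspace factors through it. -/
theorem exists_factor_of_isReducedSp {X Y Z : Sp S} (f : X ⟶ Y) (i : Z ⟶ Y)
    (hi : RepWith @IsClosedImmersion i) (hX : IsReducedSp X)
    (h : Set.range (Points.map f) ⊆ Set.range (Points.map i)) : ∃ f' : X ⟶ Z, f' ≫ i = f := by
  have sq := IsPullback.of_hasPullback i f
  have hsnd : RepWith @IsClosedImmersion (pullback.snd i f) := repWith_snd_of_isPullback sq hi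
  have hsurj : Function.Surjective (Points.map (pullback.snd i f)) := by
    intro x
    obtain ⟨z, hz⟩ := h ⟨x, rfl⟩
    obtain ⟨w, -, hw⟩ := Groth.Agent.H52.exists_point_of_isPullback sq z x hz
    exact ⟨w, hw⟩
  haveI : IsIso (pullback.snd i f) :=
    isIso_of_repWith_isClosedImmersion_of_surjective _ hsnd hsurj hX
  exact ⟨inv (pullback.snd i f) ≫ pullback.fst i f, by
    rw [Category.assoc, pullback.condition, IsIso.inv_hom_id_assoc]⟩

/-- The scheme theoretic image of a morphism from a reduced algebraic space is the reduced induced structure on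
the closure of the image. -/
theorem isRedInduced_of_isSchImage {X Y Z : Sp S} (hX : IsAlgSpace X) (hY : IsAlgSpace Y)
    (f : X ⟶ Y) (i : Z ⟶ Y) (hXr : IsReducedSp X) (hZ : IsSchImage f i) :
    IsRedInduced (closure (Set.range (Points.map f))) i := by
  obtain ⟨Zr, ir, hZr, hir, hrange, hred⟩ :=
    exists_isRedInduced hY (closure (Set.range (Points.map f))) isClosed_closure
  obtain ⟨hi, ⟨f', hf'⟩, hmin⟩ := hZ
  haveI : Mono i := mono_of_repWith (fun _ _ g hg => by have := hg; infer_instance) hi
  haveI : Mono ir := mono_of_repWith (fun _ _ g hg => by have := hg; infer_instance) hir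
  -- `f` factors through the reduced structure
  obtain ⟨fr, hfr⟩ := exists_factor_of_isReducedSp f ir hir hXr (by
    rw [hrange]
    exact subset_closure)
  obtain ⟨k₁, hk₁⟩ := hmin ir hZr hir ⟨fr, hfr⟩
  -- the reduced structure factors through `Z`
  have hcl : IsClosed (Set.range (Points.map i)) := isClosed_range_map_of_closedImmersion hY i hi
  have hsub : Set.range (Points.map f) ⊆ Set.range (Points.map i) := by
    rintro _ ⟨x, rfl⟩
    exact ⟨Points.map f' x, by rw [← Points.map_comp, hf']⟩
  obtain ⟨k₂, hk₂⟩ := exists_factor_of_isReducedSp ir i hi hred (by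
    rw [hrange]
    exact closure_minimal hsub hcl)
  have h12 : k₁ ≫ k₂ = 𝟙 _ := by
    rw [← cancel_mono i, Category.assoc, hk₂, hk₁, Category.id_comp]
  have h21 : k₂ ≫ k₁ = 𝟙 _ := by
    rw [← cancel_mono ir, Category.assoc, hk₁, hk₂, Category.id_comp]
  haveI : IsIso k₂ := ⟨⟨k₁, h21, h12⟩⟩
  refine ⟨hi, ?_, ?_⟩
  · rw [← hrange]
    apply Set.Subset.antisymm
    · rintro _ ⟨z, rfl⟩
      exact ⟨Points.map k₁ z, by rw [← Points.map_comp, hk₁]⟩
    · rintro _ ⟨z, rfl⟩
      exact ⟨Points.map k₂ z, by rw [← Points.map_comp, hk₂]⟩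
  · obtain ⟨U, p, hpe, hps, hU⟩ := hred
    exact ⟨U, p ≫ k₂, ((RepWith @Etale).cancel_right_of_respectsIso p k₂).2 hpe,
      ((RepWith @Surjective).cancel_right_of_respectsIso p k₂).2 hps, hU⟩

end Groth.Agent.H50
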