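import Groth.Agent.H50.FpqcClosed
import Groth.Agent.H50.RedFactor
import Groth.Agent.H50.OpenSub
import Groth.Agent.H51.SrcOpen
import Groth.Agent.H51.EtaleMono
import Groth.Agent.H52.Points
import Groth.Agent.S10505
import Groth.Agent.S10506

/-!
# helper50: immersions of algebraic spaces are fppf local on the base
-/

set_option autoImplicit false
set_option linter.style.haveILetI false
universe u
open CategoryTheory CategoryTheory.Limits AlgebraicGeometry Opposite

namespace Groth.Agent.H50

open AlgSp Groth.Agent.H52

variable {S : Scheme.{u}}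

/-- A subset whose preimages under a jointly surjective family of open continuous maps are locally closed is
locally closed. -/
theorem isOpen_coborder_of_open_maps {ι : Type*} {α : ι → Type*} {β : Type*}
    [∀ i, TopologicalSpace (α i)] [TopologicalSpace β] (G : ∀ i, α i → β)
    (hc : ∀ i, Continuous (G i)) (ho : ∀ i, IsOpenMap (G i))
    (hs : ∀ y : β, ∃ (i : ι) (x : α i), G i x = y) (T : Set β)
    (h : ∀ i, IsLocallyClosed (G i ⁻¹' T)) : IsOpen (coborder T) := by
  rw [isOpen_iff_forall_mem_open]
  intro y hy
  obtain ⟨i, x, rfl⟩ := hs y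
  refine ⟨G i '' (G i ⁻¹' coborder T), Set.image_preimage_subset _ _, ?_, ⟨x, hy, rfl⟩⟩
  apply ho i
  rw [← coborder_preimage (ho i) (hc i)]
  exact (h i).isOpen_coborder

/-- A representable immersion with closed image is a closed immersion. -/
theorem repWith_isClosedImmersion_of_isClosed_range {A B : Sp S} (h : A ⟶ B)
    (hh : RepWith @IsImmersion h) (hcl : IsClosed (Set.range (Points.map h))) :
    RepWith @IsClosedImmersion h := by
  refine ⟨hh.rep, fun _ _ g fst snd sq => ?_⟩
  haveI him : IsImmersion snd.left := hh.property g fst snd sq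
  have hr : Set.range snd.left = Points.ofPt g ⁻¹' Set.range (Points.map h) :=
    range_left_eq_preimage_range_map h g fst snd sq
  show IsClosedImmersion snd.left
  exact IsClosedImmersion.of_isPreimmersion snd.left (by
    rw [hr]
    exact hcl.preimage (Points.continuous_ofPt g))

/-- The points of a base change are the preimage of the image. -/
theorem preimage_range_map_of_isPullback {P F G H : Sp S} {fst : P ⟶ F} {snd : P ⟶ G}
    {f : F ⟶ H} {g : G ⟶ H} (sq : IsPullback fst snd f g) :
    Points.map g ⁻¹' Set.range (Points.map f) = Set.range (Points.map snd) := by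
  ext y
  constructor
  · rintro ⟨x, hx⟩
    obtain ⟨z, -, hz⟩ := exists_point_of_isPullback sq x y hx
    exact ⟨z, hz⟩
  · rintro ⟨z, rfl⟩
    exact ⟨Points.map fst z, by rw [← Points.map_comp, sq.w, Points.map_comp]⟩

/-- A morphism from an algebraic space whose points land in a subset factors through the subsheaf of the subset. -/
theorem exists_factor_openSubι {X Y : Sp S} (hX : IsAlgSpace X) (f : X ⟶ Y) (O : Set (Points Y))
    (h : Set.range (Points.map f) ⊆ O) : ∃ f' : X ⟶ openSub Y O, f' ≫ openSubι Y O = f := by
  obtain ⟨U, u, hue, hus⟩ := hX.atlas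
  haveI : Epi u := epi_of_etale_surjective u hue hus
  obtain ⟨g', hg'⟩ := (factors_openSubι_iff Y O (u ≫ f)).2
    (fun t => h ⟨Points.ofPt u t, Points.map_ofPt u f t⟩)
  obtain ⟨k, hk, -⟩ := factor_of_epi_mono u (openSubι Y O) g' f hg'.symm
  exact ⟨k, hk⟩

/-- Immersions of algebraic spaces are fppf local on the base. -/
theorem isLocalOnBase_fppf_repWith_isImmersion :
    IsLocalOnBase (IsFppfCover (S := S)) (RepWith @IsImmersion) := by
  intro ι Y Yi g hY hYi hcov X f hX Xi p q hXi sq
  have := AlgSp.repWith_isStableUnderBaseChange (S := S) @IsImmersion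
  constructor
  · intro hf i
    exact MorphismProperty.of_isPullback (sq i) hf
  · intro hp
    -- the image is locally closed
    have hatlas : ∀ i, ∃ (U : Over S) (a : (yon S).obj U ⟶ Yi i),
        RepWith @Etale a ∧ RepWith @Surjective a := fun i => (hYi i).atlas
    choose U a hae has using hatlas
    have hopenT : IsOpen (coborder (Set.range (Points.map f))) := by
      refine isOpen_coborder_of_open_maps (fun i => Points.ofPt (a i ≫ g i))
        (fun i => Points.continuous_ofPt _) (fun i => ?_) (fun y => ?_) _ (fun i => ?_)
      · have h1 : IsOpenMap (Points.map (g i)) := H51.isOpenMor_of_isUnivOpenMor hY (g i)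
          (H51.isUnivOpenMor_of_fppf (hYi i) hY (g i) (hcov.1 i))
        have h2 : IsOpenMap (Points.ofPt (a i)) := isOpenMap_ofPt_of_etale (a i) (hae i)
        have e : Points.ofPt (a i ≫ g i) = Points.map (g i) ∘ Points.ofPt (a i) := rfl
        rw [e]
        exact h1.comp h2
      · obtain ⟨i, yi, hyi⟩ := hcov.2 y
        obtain ⟨u, rfl⟩ := surjective_ofPt_of_surjective (a i) (has i) yi
        exact ⟨i, u, hyi⟩
      · have hrep : Representable (p i) := (hp i).rep
        have hsq := hrep.isPullback (a i)
        haveI : IsImmersion (hrep.snd (a i)).left := (hp i).property_snd (a i)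
        have e : Points.ofPt (a i ≫ g i) ⁻¹' Set.range (Points.map f) =
            Set.range (hrep.snd (a i)).left := by
          rw [range_left_eq_preimage_range_map (p i) (a i) _ _ hsq,
            ← preimage_range_map_of_isPullback (sq i)]
          rfl
        rw [e]
        exact (hrep.snd (a i)).left.isLocallyClosed_range
    obtain ⟨O, hOopen, hTO, hOT⟩ : ∃ O : Set (Points Y), IsOpen O ∧
        Set.range (Points.map f) ⊆ O ∧
        closure (Set.range (Points.map f)) ∩ O ⊆ Set.range (Points.map f) :=
      ⟨_, hopenT, subset_coborder, closure_inter_coborder.subset⟩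
    -- the open subspace
    obtain ⟨f', hf'⟩ := exists_factor_openSubι hX f O hTO
    have hYo : IsAlgSpace (openSub Y O) := isAlgSpace_openSub hOopen hY
    have hιo : RepWith @IsOpenImmersion (openSubι Y O) := repWith_isOpenImmersion_openSubι hOopen
    have hcl' : IsClosed (Set.range (Points.map f')) := by
      have hinj : Function.Injective (Points.map (openSubι Y O)) := H51.injective_map_of_mono _
      have e : Set.range (Points.map f') =
          Points.map (openSubι Y O) ⁻¹' closure (Set.range (Points.map f)) := by
        ext y
        constructor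
        · rintro ⟨x, rfl⟩
          apply subset_closure
          exact ⟨x, by rw [← hf', Points.map_comp]⟩
        · intro hy
          have hyO : Points.map (openSubι Y O) y ∈ O :=
            (range_map_openSubι Y O).subset ⟨y, rfl⟩
          obtain ⟨x, hx⟩ := hOT ⟨hy, hyO⟩
          refine ⟨x, hinj ?_⟩
          rw [← Points.map_comp, hf', hx]
      rw [e]
      exact isClosed_closure.preimage (Points.continuous_map _)
    -- the cover of the open subspace
    have sqZ : ∀ k, IsPullback (pullback.fst (openSubι Y O) (g k))
        (pullback.snd (openSubι Y O) (g k)) (openSubι Y O) (g k) :=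
      fun k => IsPullback.of_hasPullback _ _
    have hZk : ∀ k, IsAlgSpace (pullback (openSubι Y O) (g k)) :=
      fun k => isAlgSpace_of_isPullback (sqZ k) hY.diag hYo (hYi k)
    have hlift : ∀ k, ∃ fk : Xi k ⟶ pullback (openSubι Y O) (g k),
        fk ≫ pullback.fst (openSubι Y O) (g k) = q k ≫ f' ∧
          fk ≫ pullback.snd (openSubι Y O) (g k) = p k := fun k => by
      obtain ⟨l, h1, h2⟩ := (sqZ k).exists_lift (q k ≫ f') (p k) (by
        rw [Category.assoc, hf', (sq k).w])
      exact ⟨l, h1, h2⟩
    choose fk hfk1 hfk2 using hlift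
    have sqX : ∀ k, IsPullback (q k) (fk k) f' (pullback.fst (openSubι Y O) (g k)) := fun k => by
      refine IsPullback.of_bot ?_ (hfk1 k).symm (sqZ k)
      rw [hfk2 k, hf']
      exact sq k
    have hcovY : IsFpqcCover Yi g :=
      Groth.Agent.S10505.result (⟨Y, hY⟩ : AlgSp.Space S) (fun k => ⟨Yi k, hYi k⟩)
        (fun k => ObjectProperty.homMk (g k)) hcov
    have hcovZ : IsFpqcCover (fun k => pullback (openSubι Y O) (g k))
        (fun k => pullback.fst (openSubι Y O) (g k)) :=
      Groth.Agent.S10506.result (X := ⟨Y, hY⟩) (X' := ⟨openSub Y O, hYo⟩)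
        (ObjectProperty.homMk (openSubι Y O))
        (fun k => ⟨Yi k, hYi k⟩) (fun k => ObjectProperty.homMk (g k))
        (fun k => ⟨pullback (openSubι Y O) (g k), hZk k⟩)
        (fun k => ObjectProperty.homMk (pullback.fst (openSubι Y O) (g k)))
        (fun k => ObjectProperty.homMk (pullback.snd (openSubι Y O) (g k))) (fun k => sqZ k) hcovY
    have hclosed : ∀ k, RepWith @IsClosedImmersion (fk k) := fun k => by
      have sqB : IsPullback (𝟙 (Xi k)) (fk k) (p k) (pullback.snd (openSubι Y O) (g k)) :=
        IsPullback.of_horiz_isIso_mono ⟨by rw [Category.id_comp, hfk2 k]⟩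
      have him : RepWith @IsImmersion (fk k) := repWith_snd_of_isPullback sqB (hp k)
      refine repWith_isClosedImmersion_of_isClosed_range (fk k) him ?_
      rw [← preimage_range_map_of_isPullback (sqX k)]
      exact hcl'.preimage (Points.continuous_map _)
    have hf'c : RepWith @IsClosedImmersion f' :=
      (isLocalOnBase_fpqc_repWith_isClosedImmersion (fun k => pullback (openSubι Y O) (g k))
        (fun k => pullback.fst (openSubι Y O) (g k)) hYo hZk hcovZ f' hX Xi fk q hXi sqX).2 hclosed
    have hmI := AlgSp.repWith_isMultiplicative (S := S) @IsImmersion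
    rw [← hf']
    exact (RepWith @IsImmersion).comp_mem _ _
      (repWith_mono (fun _ _ g hg => by have : IsClosedImmersion g := hg; infer_instance) hf'c)
      (repWith_mono (fun _ _ g hg => by have : IsOpenImmersion g := hg; infer_instance) hιo)

end Groth.Agent.H50
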