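import Groth.Agent.H50.QcChart
import Groth.Agent.H49.IdealDescent
import Groth.Agent.H51.FpqcIso
import Groth.Agent.H52.FieldPts

/-!
# helper50: closed immersions of algebraic spaces are fpqc local on the base
-/

set_option autoImplicit false
set_option linter.style.haveILetI false
universe u
open CategoryTheory CategoryTheory.Limits AlgebraicGeometry Opposite

namespace Groth.Agent.H50

open AlgSp Groth.Agent.H52

variable {S : Scheme.{u}}

section Family

/-- A finite jointly surjective family of affine morphisms satisfies the finiteness hypothesis of descent of ideal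
sheaves. -/
theorem finCov_of_affine_family {P : Scheme.{u}} {ι : Type u} [Finite ι] {Q : ι → Scheme.{u}}
    (g : ∀ i, Q i ⟶ P) (haff : ∀ i, IsAffineHom (g i))
    (hsurj : ∀ x : ↥P, ∃ (i : ι) (y : ↥(Q i)), g i y = x) : H49.IdealDescent.FinCov g := by
  obtain ⟨n, ⟨e⟩⟩ := Finite.exists_equiv_fin ι
  intro U hU
  refine ⟨n, fun k => ⟨e.symm k, ⟨g (e.symm k) ⁻¹ᵁ U, hU.preimage (g (e.symm k))⟩, le_rfl⟩,
    fun x hx => ?_⟩
  obtain ⟨i, y, hy⟩ := hsurj x
  obtain ⟨k, rfl⟩ : ∃ k, e.symm k = i := ⟨e i, e.symm_apply_apply i⟩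
  refine ⟨k, y, ?_, hy⟩
  show g (e.symm k) y ∈ U
  rw [hy]
  exact hx

/-- Ideal sheaves with the same pullbacks along a finite jointly surjective family of flat affine morphisms are
equal. -/
theorem eq_of_comap_eq_of_family {P : Scheme.{u}} {ι : Type u} [Finite ι] {Q : ι → Scheme.{u}}
    (g : ∀ i, Q i ⟶ P) (haff : ∀ i, IsAffineHom (g i)) (hfl : ∀ i, Flat (g i))
    (hsurj : ∀ x : ↥P, ∃ (i : ι) (y : ↥(Q i)), g i y = x) (K K' : P.IdealSheafData)
    (h : ∀ i, K.comap (g i) = K'.comap (g i)) : K = K' := by
  have hfin := finCov_of_affine_family g haff hsurj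
  have hcompat : H49.IdealDescent.Compat g (fun i => K.comap (g i)) := by
    intro i j
    rw [← Scheme.IdealSheafData.comap_comp, ← Scheme.IdealSheafData.comap_comp, pullback.condition]
  obtain ⟨J, -, hJ⟩ := H49.IdealDescent.existsUnique_comap_eq hfin hfl hcompat
  rw [hJ K (fun _ => rfl), hJ K' (fun i => (h i).symm)]

end Family

section PbOver

variable {A B C : Over S} (α : A ⟶ C) (β : B ⟶ C)

/-- The fibre product of schemes over `S`, with underlying scheme the chosen fibre product of schemes. -/
noncomputable abbrev pbOver : Over S := Over.mk (pullback.fst α.left β.left ≫ A.hom)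

/-- The first projection. -/
noncomputable abbrev pbOverFst : pbOver α β ⟶ A := Over.homMk (pullback.fst α.left β.left) rfl

theorem pbOver_snd_w : pullback.snd α.left β.left ≫ B.hom = (pbOver α β).hom := by
  show pullback.snd α.left β.left ≫ B.hom = pullback.fst α.left β.left ≫ A.hom
  rw [← Over.w α, ← Over.w β, ← Category.assoc, ← Category.assoc, pullback.condition]

/-- The second projection. -/
noncomputable abbrev pbOverSnd : pbOver α β ⟶ B :=
  Over.homMk (pullback.snd α.left β.left) (pbOver_snd_w α β)

theorem pbOver_condition : pbOverFst α β ≫ α = pbOverSnd α β ≫ β := by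
  apply Over.OverMorphism.ext
  exact pullback.condition

end PbOver

theorem isAffine_vOver_left {T : Over S} [IsAffine T.left] (I : T.left.IdealSheafData) :
    IsAffine (vOver T I).left :=
  isAffine_of_isAffineHom (f := I.subschemeι)

/-- A closed subscheme through which the pullback of a morphism factors contains the closed subscheme representing
the pullback. -/
theorem ideal_le_of_isPullback {X Y : Sp S} (f : X ⟶ Y) {P : Over S} (t : (yon S).obj P ⟶ Y)
    (A B : P.left.IdealSheafData) (xA : (yon S).obj (vOver P A) ⟶ X)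
    (sqA : IsPullback xA ((yon S).map (vOverι P A)) f t) (xB : (yon S).obj (vOver P B) ⟶ X)
    (hB : xB ≫ f = (yon S).map (vOverι P B) ≫ t) : A ≤ B := by
  obtain ⟨l, hl⟩ := (yon S).map_surjective (sqA.lift xB ((yon S).map (vOverι P B)) hB)
  have := le_ker_of_factors A (vOverι P B) l ((yon S).map_injective (by
    rw [Functor.map_comp, hl, IsPullback.lift_snd]))
  rwa [show (vOverι P B).left.ker = B from Scheme.IdealSheafData.ker_subschemeι B] at this

/-- fpqc descent of closed subschemes representing the pullbacks of a monomorphism of algebraic spaces. -/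
theorem exists_closed_of_fpqc_family {X Y : Sp S} (hX : IsAlgSpace X) (hY : IsAlgSpace Y)
    (f : X ⟶ Y) [Mono f] {T : Over S} (hT : IsAffine T.left) (t : (yon S).obj T ⟶ Y)
    {ι : Type u} [Finite ι] (Wc : ι → Over S) (c : ∀ j, Wc j ⟶ T)
    (hWa : ∀ j, IsAffine (Wc j).left) (hfl : ∀ j, Flat (c j).left)
    (hsurj : ∀ z : ↥T.left, ∃ (j : ι) (y : ↥(Wc j).left), (c j).left y = z)
    (I : ∀ j, (Wc j).left.IdealSheafData) (b : ∀ j, (yon S).obj (vOver (Wc j) (I j)) ⟶ X)
    (sqb : ∀ j, IsPullback (b j) ((yon S).map (vOverι (Wc j) (I j))) f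
      ((yon S).map (c j) ≫ t)) :
    ∃ (J : T.left.IdealSheafData) (x : (yon S).obj (vOver T J) ⟶ X),
      IsPullback x ((yon S).map (vOverι T J)) f t := by
  haveI := hT
  haveI := hWa
  haveI := hfl
  have haff : ∀ j, IsAffineHom (c j).left := fun j => inferInstance
  -- compatibility on the overlaps
  have hcompat : H49.IdealDescent.Compat (fun j => (c j).left) I := by
    intro j k
    show (I j).comap (pullback.fst (c j).left (c k).left) =
      (I k).comap (pullback.snd (c j).left (c k).left)
    obtain ⟨τ₁, hτ₁⟩ := exists_isPullback_vOver_comap (I j) (pbOverFst (c j) (c k))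
    obtain ⟨τ₂, hτ₂⟩ := exists_isPullback_vOver_comap (I k) (pbOverSnd (c j) (c k))
    have sq₁ := (hτ₁.map (yon S)).paste_horiz (sqb j)
    have sq₂ := (hτ₂.map (yon S)).paste_horiz (sqb k)
    have heq : (yon S).map (pbOverFst (c j) (c k)) ≫ (yon S).map (c j) ≫ t =
        (yon S).map (pbOverSnd (c j) (c k)) ≫ (yon S).map (c k) ≫ t := by
      rw [← Category.assoc, ← Functor.map_comp, pbOver_condition, Functor.map_comp, Category.assoc]
    exact le_antisymm
      (ideal_le_of_isPullback f _ _ _ _ sq₁ ((yon S).map τ₂ ≫ b k) (by rw [heq]; exact sq₂.w))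
      (ideal_le_of_isPullback f _ _ _ _ sq₂ ((yon S).map τ₁ ≫ b j) (by rw [← heq]; exact sq₁.w))
  -- descent of the ideal sheaf
  have hfin := finCov_of_affine_family (fun j => (c j).left) haff hsurj
  obtain ⟨J, hJ, -⟩ := H49.IdealDescent.existsUnique_comap_eq hfin hfl hcompat
  have hJ' : ∀ j, J.comap (c j).left = I j := hJ
  have sqb' : ∀ j, ∃ b' : (yon S).obj (vOver (Wc j) (J.comap (c j).left)) ⟶ X,
      IsPullback b' ((yon S).map (vOverι (Wc j) (J.comap (c j).left))) f
        ((yon S).map (c j) ≫ t) := by
    intro j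
    rw [hJ' j]
    exact ⟨b j, sqb j⟩
  choose b' sqb' using sqb'
  -- the pullback factors through the closed subscheme
  have sqG := IsPullback.of_hasPullback f t
  have hG : IsAlgSpace (pullback f t) :=
    isAlgSpace_of_isPullback sqG hY.diag hX (IsAlgSpace.yon_obj T)
  obtain ⟨Ug, u, hue, hus⟩ := hG.atlas
  haveI : Epi u := epi_of_etale_surjective u hue hus
  obtain ⟨w, hw⟩ := (yon S).map_surjective (u ≫ pullback.snd f t)
  have hle : J ≤ w.left.ker := by
    rw [← comap_eq_bot_iff_le_ker]
    refine eq_of_comap_eq_of_family (fun j => pullback.fst w.left (c j).left)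
      (fun j => MorphismProperty.pullback_fst (P := @IsAffineHom) _ _ (haff j))
      (fun j => inferInstance) ?_ _ _ (fun j => ?_)
    · intro x
      obtain ⟨j, y, hy⟩ := hsurj (w.left x)
      obtain ⟨z, hz1, -⟩ := Scheme.Pullback.exists_preimage_pullback (f := w.left)
        (g := (c j).left) x y hy.symm
      exact ⟨j, z, hz1⟩
    · show (J.comap w.left).comap (pullback.fst w.left (c j).left) =
        (⊥ : Ug.left.IdealSheafData).comap (pullback.fst w.left (c j).left)
      rw [Scheme.IdealSheafData.comap_bot, ← Scheme.IdealSheafData.comap_comp, pullback.condition,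
        Scheme.IdealSheafData.comap_comp, hJ' j, comap_eq_bot_iff_le_ker]
      have hcond : ((yon S).map (pbOverFst w (c j)) ≫ u ≫ pullback.fst f t) ≫ f =
          (yon S).map (pbOverSnd w (c j)) ≫ (yon S).map (c j) ≫ t := by
        rw [Category.assoc, Category.assoc, pullback.condition, ← Category.assoc u, ← hw,
          ← Category.assoc, ← Functor.map_comp, pbOver_condition, Functor.map_comp, Category.assoc]
      obtain ⟨l, hl⟩ := (yon S).map_surjective ((sqb j).lift _ _ hcond)
      exact le_ker_of_factors (I j) (pbOverSnd w (c j)) l ((yon S).map_injective (by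
        rw [Functor.map_comp, hl, IsPullback.lift_snd]))
  obtain ⟨δ, hδ⟩ := exists_lift_vOver J w hle
  obtain ⟨ψ, hψ, -⟩ := factor_of_epi_mono u ((yon S).map (vOverι T J)) ((yon S).map δ)
    (pullback.snd f t) (by rw [← hw, ← Functor.map_comp, hδ])
  haveI : Mono ψ := by
    haveI : Mono (ψ ≫ (yon S).map (vOverι T J)) := by
      rw [hψ]
      infer_instance
    exact mono_of_mono ψ ((yon S).map (vOverι T J))
  -- the factorization is an isomorphism, fpqc locally on the closed subscheme
  have hτ : ∀ j, ∃ τ : vOver (Wc j) (J.comap (c j).left) ⟶ vOver T J,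
      IsPullback τ (vOverι (Wc j) (J.comap (c j).left)) (vOverι T J) (c j) :=
    fun j => exists_isPullback_vOver_comap J (c j)
  choose τ hτ using hτ
  have hq : ∀ j, ∃ q' : (yon S).obj (vOver (Wc j) (J.comap (c j).left)) ⟶ pullback f t,
      q' ≫ ψ = (yon S).map (τ j) := by
    intro j
    refine ⟨pullback.lift (b' j) ((yon S).map (vOverι (Wc j) (J.comap (c j).left)) ≫
      (yon S).map (c j)) (by rw [(sqb' j).w, Category.assoc]), ?_⟩
    rw [← cancel_mono ((yon S).map (vOverι T J)), Category.assoc, hψ, pullback.lift_snd,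
      ← Functor.map_comp, ← Functor.map_comp, (hτ j).w]
  choose q' hq' using hq
  have hτfl : ∀ j, Flat (τ j).left := fun j =>
    MorphismProperty.of_isPullback (P := @Flat) ((hτ j).map (Over.forget S)).flip (hfl j)
  haveI hTJ : IsAffine (vOver T J).left := isAffine_vOver_left J
  haveI hWJ : ∀ j, IsAffine (vOver (Wc j) (J.comap (c j).left)).left :=
    fun j => isAffine_vOver_left _
  have hcover : IsFpqcCover (fun j => (yon S).obj (vOver (Wc j) (J.comap (c j).left)))
      (fun j => (yon S).map (τ j)) := by
    refine ⟨fun j => ?_, ?_⟩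
    · haveI := hτfl j
      exact locP_flat_yon_map (τ j)
    · intro Z hZ h
      haveI := hZ
      obtain ⟨h₀, rfl⟩ := (yon S).map_surjective h
      obtain ⟨n, ⟨e⟩⟩ := Finite.exists_equiv_fin ι
      refine ⟨n, fun k => pbOver h₀ (τ (e.symm k)), fun k => pbOverFst h₀ (τ (e.symm k)),
        fun k => ?_, fun k => ?_, fun z => ?_, fun k => ?_⟩
      · show IsAffine (pullback h₀.left (τ (e.symm k)).left)
        infer_instance
      · haveI := hτfl (e.symm k)
        show Flat (pullback.fst h₀.left (τ (e.symm k)).left)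
        infer_instance
      · obtain ⟨j, y, hy⟩ := hsurj ((vOverι T J).left (h₀.left z))
        obtain ⟨y', hy1, -⟩ := Scheme.exists_preimage_of_isPullback
          ((hτ j).map (Over.forget S)) (h₀.left z) y hy.symm
        obtain ⟨k, rfl⟩ : ∃ k, e.symm k = j := ⟨e j, e.symm_apply_apply j⟩
        obtain ⟨z', hz1, -⟩ := Scheme.Pullback.exists_preimage_pullback (f := h₀.left)
          (g := (τ (e.symm k)).left) z y' hy1.symm
        exact ⟨k, z', hz1⟩
      · exact ⟨e.symm k, (yon S).map (pbOverSnd h₀ (τ (e.symm k))), by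
          rw [← Functor.map_comp, ← Functor.map_comp, pbOver_condition]⟩
  have hiso : IsIso ψ := by
    have key := H51.isLocalOnBase_fpqc_isomorphisms (S := S)
      (fun j => (yon S).obj (vOver (Wc j) (J.comap (c j).left))) (fun j => (yon S).map (τ j))
      (IsAlgSpace.yon_obj _) (fun j => IsAlgSpace.yon_obj _) hcover ψ hG
      (fun j => (yon S).obj (vOver (Wc j) (J.comap (c j).left))) (fun j => 𝟙 _) q'
      (fun j => IsAlgSpace.yon_obj _)
      (fun j => IsPullback.of_vert_isIso_mono ⟨by rw [hq' j, Category.id_comp]⟩)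
    exact (MorphismProperty.isomorphisms.iff _).1
      (key.2 (fun j => (MorphismProperty.isomorphisms.iff _).2 inferInstance))
  haveI := hiso
  refine ⟨J, inv ψ ≫ pullback.fst f t, ?_⟩
  refine sqG.of_iso (asIso ψ) (Iso.refl _) (Iso.refl _) (Iso.refl _) ?_ ?_ ?_ ?_
  · simp
  · simp [hψ]
  · simp
  · simp

/-- The pullback to an affine scheme of a morphism of algebraic spaces which is a closed immersion fpqc locally on the
target is a closed subscheme. -/
theorem exists_closed_of_fpqc {ι : Type u} {X Y : Sp S} {Yi Xi : ι → Sp S} {g : ∀ i, Yi i ⟶ Y}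
    (hX : IsAlgSpace X) (hY : IsAlgSpace Y) (f : X ⟶ Y) [Mono f] (hcov : IsFpqcCover Yi g)
    {p : ∀ i, Xi i ⟶ Yi i} {q : ∀ i, Xi i ⟶ X} (hp : ∀ i, RepWith @IsClosedImmersion (p i))
    (sq : ∀ i, IsPullback (q i) (p i) f (g i)) {T : Over S} (hT : IsAffine T.left)
    (t : (yon S).obj T ⟶ Y) :
    ∃ (J : T.left.IdealSheafData) (x : (yon S).obj (vOver T J) ⟶ X),
      IsPullback x ((yon S).map (vOverι T J)) f t := by
  obtain ⟨m, Wc, c, hWa, hfl, hsurj, hlift⟩ := hcov.2 T hT t
  have hI : ∀ j : ULift.{u} (Fin m), ∃ (I : (Wc j.down).left.IdealSheafData)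
      (b : (yon S).obj (vOver (Wc j.down) I) ⟶ X),
      IsPullback b ((yon S).map (vOverι (Wc j.down) I)) f ((yon S).map (c j.down) ≫ t) := by
    intro j
    obtain ⟨i, l, hl⟩ := hlift j.down
    obtain ⟨I, b, sqI⟩ := exists_ideal_of_closedImmersion (p i) (hp i) l
    refine ⟨I, b ≫ q i, ?_⟩
    rw [← hl]
    exact sqI.paste_horiz (sq i)
  choose I b sqb using hI
  exact exists_closed_of_fpqc_family hX hY f hT t (fun j : ULift.{u} (Fin m) => Wc j.down)
    (fun j => c j.down) (fun j => hWa j.down) (fun j => hfl j.down)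
    (fun z => by
      obtain ⟨j, y, hy⟩ := hsurj z
      exact ⟨⟨j⟩, y, hy⟩) I b sqb

/-- Closed immersions of algebraic spaces are fpqc local on the base. -/
theorem isLocalOnBase_fpqc_repWith_isClosedImmersion :
    IsLocalOnBase (IsFpqcCover (S := S)) (RepWith @IsClosedImmersion) := by
  intro ι Y Yi g hY hYi hcov X f hX Xi p q hXi sq
  have := AlgSp.repWith_isStableUnderBaseChange (S := S) @IsClosedImmersion
  constructor
  · intro hf i
    exact MorphismProperty.of_isPullback (sq i) hf
  · intro hp
    haveI hmono : Mono f := by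
      have h1 := (H51.isLocalOnBase_fpqc_mono Yi g hY hYi hcov f hX Xi p q hXi sq).2 fun i =>
        (MorphismProperty.monomorphisms.iff _).2
          (mono_of_repWith (fun _ _ g hg => by have := hg; infer_instance) (hp i))
      exact (MorphismProperty.monomorphisms.iff _).1 h1
    obtain ⟨U, a, hae, has⟩ := hY.atlas
    have hloc : ∀ k : U.left.affineCover.I₀,
        ∃ (J : (Over.mk (U.left.affineCover.f k ≫ U.hom) : Over S).left.IdealSheafData)
          (x : (yon S).obj (vOver (Over.mk (U.left.affineCover.f k ≫ U.hom)) J) ⟶ X),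
          IsPullback x ((yon S).map (vOverι (Over.mk (U.left.affineCover.f k ≫ U.hom)) J)) f
            ((yon S).map (Over.homMk (U.left.affineCover.f k) rfl :
              Over.mk (U.left.affineCover.f k ≫ U.hom) ⟶ U) ≫ a) := by
      intro k
      exact exists_closed_of_fpqc hX hY f hcov hp sq
        (inferInstanceAs (IsAffine (U.left.affineCover.X k))) _
    choose Jk xk sqk using hloc
    have hφ : RepWith @IsClosedImmersion (pullback.snd f a) := by
      refine repWith_of_zariski_family (pullback.snd f a) @IsClosedImmersion (Or.inl rfl)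
        (fun k : U.left.affineCover.I₀ => (Over.mk (U.left.affineCover.f k ≫ U.hom) : Over S))
        (fun k => Over.homMk (U.left.affineCover.f k) rfl)
        (fun k => inferInstanceAs (IsOpenImmersion (U.left.affineCover.f k)))
        (fun u => by
          obtain ⟨k, y, hy⟩ := U.left.affineCover.exists_eq u
          exact ⟨k, y, hy⟩)
        (fun k => vOver _ (Jk k)) (fun k => vOverι _ (Jk k))
        (fun k => pullback.lift (xk k) ((yon S).map (vOverι _ (Jk k)) ≫
          (yon S).map (Over.homMk (U.left.affineCover.f k) rfl)) (by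
            rw [(sqk k).w, Category.assoc]))
        (fun k => ?_) (fun k => ?_)
      · refine IsPullback.of_right ?_ (pullback.lift_snd _ _ _) (IsPullback.of_hasPullback f a)
        rw [pullback.lift_fst]
        exact sqk k
      · show IsClosedImmersion (Jk k).subschemeι
        infer_instance
    have hrep := hφ.rep
    have sqW := hrep.isPullback (𝟙 ((yon S).obj U))
    have sqW' : IsPullback (hrep.fst (𝟙 _) ≫ pullback.fst f a) ((yon S).map (hrep.snd (𝟙 _))) f
        a := by
      have h2 := sqW.paste_horiz (IsPullback.of_hasPullback f a)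
      rwa [Category.id_comp] at h2
    exact repWith_immersion_of_isPullback_chart @IsClosedImmersion (Or.inl rfl) f a hae has
      (hrep.snd (𝟙 _)) (hφ.property_snd (𝟙 _)) _ sqW'

end Groth.Agent.H50
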