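import Groth.Agent.H50.QcChart
import Groth.Agent.H51.EtaleMono
import Groth.Agent.S10506
import Groth.Agent.S10519
import Groth.Agent.S9912

/-!
# helper50: quasi-compact immersions of algebraic spaces are fpqc local on the base
-/

set_option autoImplicit false
set_option linter.style.haveILetI false
universe u
open CategoryTheory CategoryTheory.Limits AlgebraicGeometry Opposite

namespace Groth.Agent.H50

open AlgSp Groth.Agent.H52

variable {S : Scheme.{u}}

/-- A representable quasi-compact immersion is an open immersion into its scheme theoretic image (on a chart). -/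
theorem repWith_isOpenImmersion_of_chart_toImage {A B C : Sp S} {U W : Over S}
    (a : (yon S).obj U ⟶ B) (hae : RepWith @Etale a) (has : RepWith @Surjective a) (h : A ⟶ B)
    (hrep : Representable h) (w : W ⟶ U) (top : (yon S).obj W ⟶ A)
    (sq0 : IsPullback top ((yon S).map w) h a) [IsImmersion w.left] [QuasiCompact w.left]
    (hB : IsAlgSpace B) (hC : IsAlgSpace C) (iB : C ⟶ B) (hC' : IsSchImage h iB) (h' : A ⟶ C)
    (hfac : h' ≫ iB = h) : RepWith @IsOpenImmersion h' := by
  haveI : Epi a := epi_of_etale_surjective a hae has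
  have hI := invariant_ker_of_quasiCompact a hae h hrep w top sq0
  have hS := isSchImage_closedSubι_ker a hae has h hrep w top sq0
  obtain ⟨ε, hε⟩ := exists_iso_of_isSchImage hC (isAlgSpace_closedSub hae has hI hB) hC' hS
  have hwι : w.left.toImage ≫ w.left.ker.subschemeι = w.left := w.left.toImage_imageι
  have htw : w.left.toImage ≫ (vOver U w.left.ker).hom = W.hom := by
    show w.left.toImage ≫ w.left.ker.subschemeι ≫ U.hom = W.hom
    rw [← Category.assoc, hwι, Over.w]
  have htI : (Over.homMk w.left.toImage htw : W ⟶ vOver U w.left.ker) ≫ vOverι U w.left.ker = w := by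
    apply Over.OverMorphism.ext
    exact hwι
  have hto : IsOpenImmersion (Over.homMk w.left.toImage htw : W ⟶ vOver U w.left.ker).left :=
    inferInstanceAs (IsOpenImmersion w.left.toImage)
  have sqC := isPullback_closedSub hI
  have hfac' : (h' ≫ ε.hom) ≫ closedSubι a w.left.ker = h := by
    rw [Category.assoc, hε, hfac]
  have sqT : IsPullback top ((yon S).map (Over.homMk w.left.toImage htw : W ⟶ vOver U w.left.ker))
      (h' ≫ ε.hom) (closedSubπ a w.left.ker) := by
    refine IsPullback.of_bot ?_ ?_ sqC
    · rw [← Functor.map_comp, htI, hfac']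
      exact sq0
    · rw [← cancel_mono (closedSubι a w.left.ker), Category.assoc, hfac', Category.assoc,
        closedSubπ_ι, ← Category.assoc, ← Functor.map_comp, htI]
      exact sq0.w
  have hopen : RepWith @IsOpenImmersion (h' ≫ ε.hom) :=
    repWith_immersion_of_isPullback_chart @IsOpenImmersion (Or.inr (Or.inl rfl)) (h' ≫ ε.hom)
      (closedSubπ a w.left.ker) (repWith_etale_closedSubπ hae hI)
      (repWith_surjective_closedSubπ has hI) _ hto top sqT
  exact ((RepWith @IsOpenImmersion).cancel_right_of_respectsIso h' ε.hom).1 hopen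

/-- A representable quasi-compact immersion of algebraic spaces is an open immersion into its scheme theoretic
image. -/
theorem repWith_isOpenImmersion_to_schImage {A B C : Sp S} (hB : IsAlgSpace B) (hC : IsAlgSpace C)
    (h : A ⟶ B) (hh : RepWith (@IsImmersion ⊓ @QuasiCompact) h) (iB : C ⟶ B)
    (hC' : IsSchImage h iB) (h' : A ⟶ C) (hfac : h' ≫ iB = h) : RepWith @IsOpenImmersion h' := by
  obtain ⟨U, a, hae, has⟩ := hB.atlas
  have hrep : Representable h := hh.rep
  have hw := hh.property_snd a
  haveI : IsImmersion (hrep.snd a).left := hw.1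
  haveI : QuasiCompact (hrep.snd a).left := hw.2
  exact repWith_isOpenImmersion_of_chart_toImage a hae has h hrep (hrep.snd a) (hrep.fst a)
    (hrep.isPullback a) hB hC iB hC' h' hfac

/-- Quasi-compact immersions of algebraic spaces are fpqc local on the base. -/
theorem isLocalOnBase_fpqc_repWith_quasiCompact_immersion :
    IsLocalOnBase (IsFpqcCover (S := S)) (RepWith (@IsImmersion ⊓ @QuasiCompact)) := by
  intro ι Y Yi g hY hYi hcov X f hX Xi p q hXi sq
  have := AlgSp.repWith_isStableUnderBaseChange (S := S) (@IsImmersion ⊓ @QuasiCompact)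
  constructor
  · intro hf i
    exact MorphismProperty.of_isPullback (sq i) hf
  · intro hp
    have hqc : IsQuasiCompactMor f :=
      (Groth.Agent.S10519.result S Yi g hY hYi hcov f hX Xi p q hXi sq).2 (fun i =>
        isQuasiCompactMor_of_repWith (repWith_mono (fun _ _ _ hg => hg.2) (hp i)))
    obtain ⟨Z, i, hZ, hZi⟩ := exists_isSchImage hX hY f
    obtain ⟨f', hf'⟩ := hZi.2.1
    have sqZ : ∀ k, IsPullback (pullback.fst i (g k)) (pullback.snd i (g k)) i (g k) :=
      fun k => IsPullback.of_hasPullback _ _
    have hZk : ∀ k, IsAlgSpace (pullback i (g k)) :=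
      fun k => isAlgSpace_of_isPullback (sqZ k) hY.diag hZ (hYi k)
    have hSk : ∀ k, IsSchImage (p k) (pullback.snd i (g k)) := fun k =>
      isSchImage_flat_baseChange (hYi k) hY hZ (g k) (hcov.1 k) f hqc i hZi (q k) (p k) (sq k) _ _
        (sqZ k)
    have hlift : ∀ k, ∃ fk : Xi k ⟶ pullback i (g k),
        fk ≫ pullback.fst i (g k) = q k ≫ f' ∧ fk ≫ pullback.snd i (g k) = p k := fun k => by
      obtain ⟨l, h1, h2⟩ := (sqZ k).exists_lift (q k ≫ f') (p k) (by
        rw [Category.assoc, hf', (sq k).w])
      exact ⟨l, h1, h2⟩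
    choose fk hfk1 hfk2 using hlift
    have sqX : ∀ k, IsPullback (q k) (fk k) f' (pullback.fst i (g k)) := fun k => by
      refine IsPullback.of_bot ?_ (hfk1 k).symm (sqZ k)
      rw [hfk2 k, hf']
      exact sq k
    have hopen : ∀ k, RepWith @IsOpenImmersion (fk k) := fun k =>
      repWith_isOpenImmersion_to_schImage (hYi k) (hZk k) (p k) (hp k) (pullback.snd i (g k))
        (hSk k) (fk k) (hfk2 k)
    have hcovZ : IsFpqcCover (fun k => pullback i (g k)) (fun k => pullback.fst i (g k)) :=
      Groth.Agent.S10506.result (X := ⟨Y, hY⟩) (X' := ⟨Z, hZ⟩) (ObjectProperty.homMk i)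
        (fun k => ⟨Yi k, hYi k⟩) (fun k => ObjectProperty.homMk (g k))
        (fun k => ⟨pullback i (g k), hZk k⟩) (fun k => ObjectProperty.homMk (pullback.fst i (g k)))
        (fun k => ObjectProperty.homMk (pullback.snd i (g k))) (fun k => sqZ k) hcov
    have hf'o : RepWith @IsOpenImmersion f' :=
      (H51.isLocalOnBase_fpqc_repWith_isOpenImmersion (fun k => pullback i (g k))
        (fun k => pullback.fst i (g k)) hZ hZk hcovZ f' hX Xi fk q hXi sqX).2 hopen
    have hmI := AlgSp.repWith_isMultiplicative (S := S) @IsImmersion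
    have h1 : RepWith @IsImmersion f' :=
      repWith_mono (fun _ _ g hg => by have : IsOpenImmersion g := hg; infer_instance) hf'o
    have h2 : RepWith @IsImmersion i :=
      repWith_mono (fun _ _ g hg => by have : IsClosedImmersion g := hg; infer_instance) hZi.1
    have h3 : RepWith @IsImmersion f := by
      rw [← hf']
      exact (RepWith @IsImmersion).comp_mem _ _ h1 h2
    have h4 : RepWith @QuasiCompact f :=
      (Groth.Agent.S9912.result (X := ⟨X, hX⟩) (Y := ⟨Y, hY⟩) (ObjectProperty.homMk f) h3.rep).2 hqc
    exact ⟨h3.rep, fun _ _ g fst snd sq' => ⟨h3.property g fst snd sq', h4.property g fst snd sq'⟩⟩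

end Groth.Agent.H50
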