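import Groth.Agent.H50.FpqcClosed
import Groth.Agent.H51.FpqcDesc
import Groth.Prelude.Def_AlgSpInf

/-!
# helper50: properties of representable morphisms are fpqc local on the base; thickenings
-/

set_option autoImplicit false
set_option linter.style.haveILetI false
universe u
open CategoryTheory CategoryTheory.Limits AlgebraicGeometry Opposite

namespace Groth.Agent.H50

open AlgSp Groth.Agent.H52

variable {S : Scheme.{u}}

/-- A representable morphism has a property descending along fpqc morphisms as soon as its base changes along an fpqc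
covering have it. -/
theorem repWith_of_fpqc_of_representable (Q : MorphismProperty Scheme.{u}) [Q.IsStableUnderBaseChange]
    [IsZariskiLocalAtTarget Q] [Q.DescendsAlong (@Surjective ⊓ @Flat ⊓ @QuasiCompact)]
    {ι : Type u} {X Y : Sp S} {Yi Xi : ι → Sp S} {g : ∀ i, Yi i ⟶ Y} (hcov : IsFpqcCover Yi g)
    (f : X ⟶ Y) (hrep : Representable f) {p : ∀ i, Xi i ⟶ Yi i} {q : ∀ i, Xi i ⟶ X}
    (sq : ∀ i, IsPullback (q i) (p i) f (g i)) (hp : ∀ i, RepWith Q (p i)) : RepWith Q f := by
  refine MorphismProperty.relative_of_snd hrep (fun T t => ?_)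
  change Q (hrep.snd t).left
  refine IsZariskiLocalAtTarget.of_openCover (P := Q) T.left.affineCover (fun k => ?_)
  let U : Over S := Over.mk (T.left.affineCover.f k ≫ T.hom)
  let τ : U ⟶ T := Over.homMk (T.left.affineCover.f k) rfl
  have hU : IsAffine U.left := inferInstanceAs (IsAffine (T.left.affineCover.X k))
  have sqE' := IsPullback.of_hasPullback (hrep.snd t) τ
  have hr : Q (pullback.snd (hrep.snd t) τ).left := by
    obtain ⟨m, W, c, hW, hflat, hsurj, hlift⟩ := hcov.2 U hU ((yon S).map τ ≫ t)
    have := hU
    have := hW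
    have := hflat
    refine H51.descend_of_flat_family Q (pullback.snd (hrep.snd t) τ).left (fun j => (W j).left)
      (fun j => (c j).left) (fun z => by obtain ⟨j, w, hw⟩ := hsurj z; exact ⟨j, w, hw⟩)
      (fun j => ?_)
    obtain ⟨i', l, hl⟩ := hlift j
    have sqE'' := IsPullback.of_hasPullback (pullback.snd (hrep.snd t) τ) (c j)
    refine ⟨_, _, _, sqE''.map (Over.forget S), ?_⟩
    have big : IsPullback (pullback.fst (pullback.snd (hrep.snd t) τ) (c j) ≫
        pullback.fst (hrep.snd t) τ) (pullback.snd (pullback.snd (hrep.snd t) τ) (c j))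
        (hrep.snd t) (c j ≫ τ) := sqE''.paste_horiz sqE'
    have bigY := (big.map (yon S)).paste_horiz (hrep.isPullback t)
    have bigY' : IsPullback ((yon S).map (pullback.fst (pullback.snd (hrep.snd t) τ) (c j) ≫
        pullback.fst (hrep.snd t) τ) ≫ hrep.fst t)
        ((yon S).map (pullback.snd (pullback.snd (hrep.snd t) τ) (c j))) f (l ≫ g i') := by
      rw [hl, ← Category.assoc, ← Functor.map_comp]
      exact bigY
    obtain ⟨lx, hlx1, hlx2⟩ := (sq i').exists_lift _
      ((yon S).map (pullback.snd (pullback.snd (hrep.snd t) τ) (c j)) ≫ l) (by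
        rw [bigY'.w, Category.assoc])
    have sqL : IsPullback lx ((yon S).map (pullback.snd (pullback.snd (hrep.snd t) τ) (c j)))
        (p i') l := IsPullback.of_right (by rw [hlx1]; exact bigY') hlx2 (sq i')
    exact (hp i').property l lx _ sqL
  have sqS : IsPullback (pullback.fst (hrep.snd t) τ).left (pullback.snd (hrep.snd t) τ).left
      (hrep.snd t).left (T.left.affineCover.f k) := sqE'.map (Over.forget S)
  have : Q.RespectsIso := MorphismProperty.IsStableUnderBaseChange.respectsIso
  have e := sqS.isoPullback_hom_snd
  change Q (pullback.snd (hrep.snd t).left (T.left.affineCover.f k))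
  rw [← Q.cancel_left_of_respectsIso sqS.isoPullback.hom, e]
  exact hr

/-- Thickenings of algebraic spaces are fpqc local on the base. -/
theorem isLocalOnBase_fpqc_isThickMor : IsLocalOnBase (IsFpqcCover (S := S)) IsThickMor := by
  intro ι Y Yi g hY hYi hcov X f hX Xi p q hXi sq
  have := AlgSp.repWith_isStableUnderBaseChange (S := S) thick
  constructor
  · intro hf i
    exact MorphismProperty.of_isPullback (P := RepWith thick) (sq i) hf
  · intro hp
    have hc : RepWith @IsClosedImmersion f :=
      (isLocalOnBase_fpqc_repWith_isClosedImmersion Yi g hY hYi hcov f hX Xi p q hXi sq).2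
        (fun i => repWith_mono (fun _ _ _ hg => hg.1) (hp i))
    have hs : RepWith @Surjective f :=
      repWith_of_fpqc_of_representable @Surjective hcov f hc.rep sq
        (fun i => repWith_mono (fun _ _ _ hg => hg.2) (hp i))
    exact ⟨hc.rep, fun _ _ g fst snd sq' => ⟨hc.property g fst snd sq', hs.property g fst snd sq'⟩⟩

end Groth.Agent.H50
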