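import Groth.Agent.H50.FibDimBC
import Groth.Agent.H50.RepIso
import Groth.Agent.S10678
import Groth.Agent.S5792

/-!
# helper50: homogeneity of the dimension of a groupoid in algebraic spaces over a field point
-/

set_option autoImplicit false
universe u
open CategoryTheory CategoryTheory.Limits AlgebraicGeometry Opposite

namespace Groth.Agent.H50

open AlgSp Groth.Agent.H52 Groth.Agent.H51.Gpd

variable {S : Scheme.{u}}

/-- The composition `c` of a groupoid is the base change of the target map `t` along itself: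
`(α, β) ↦ (α ∘ β, α)` is an isomorphism `R ×_{s,U,t} R ≅ R ×_{t,U,t} R`. -/
theorem gpd_isPullback_c_fst {B : Sp S} (G : GroupoidSp B) :
    IsPullback G.c (pullback.fst G.s G.t) G.t G.t := by
  have w : G.c ≫ G.t = pullback.fst G.s G.t ≫ G.t := by
    rw [c_eq G]
    exact comp_t G _ _ _
  refine ⟨⟨w⟩, ⟨PullbackCone.IsLimit.mk _
    (fun s => pullback.lift s.snd (comp G (s.snd ≫ G.i) s.fst
      (by rw [Category.assoc, G.i_s]; exact s.condition.symm))
      (by rw [comp_t, Category.assoc, G.i_t])) ?_ ?_ ?_⟩⟩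
  · intro s
    exact comp_i_comp G s.snd s.fst s.condition.symm
  · intro s
    exact pullback.lift_fst _ _ _
  · intro s m h1 h2
    have hcond : (m ≫ pullback.fst G.s G.t) ≫ G.s = (m ≫ pullback.snd G.s G.t) ≫ G.t := by
      rw [Category.assoc, pullback.condition, Category.assoc]
    have hc : comp G (m ≫ pullback.fst G.s G.t) (m ≫ pullback.snd G.s G.t) hcond = s.fst := by
      rw [← h1, c_eq G, precomp]
    apply pullback.hom_ext
    · rw [pullback.lift_fst, h2]
    · rw [pullback.lift_snd,
        ← i_comp_comp G (m ≫ pullback.fst G.s G.t) (m ≫ pullback.snd G.s G.t) hcond]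
      exact comp_congr G (by rw [h2]) hc _ _

/-- The relative dimension of the source map of a groupoid over a one-point space of objects is the same at all arrows. -/
theorem gpd_fibreDim_s_const {B : Sp S} (G : GroupoidSp B) (hU : IsAlgSpace G.U)
    (hR : IsAlgSpace G.R) (hs : LocP @LocallyOfFiniteType G.s)
    (hpt : ∀ y y' : Points G.U, y = y') (r r' : Points G.R) (d : WithBot ℕ∞)
    (h : HasAtMor (fun _ _ h u => FlatMor.fibreDimAt h u = d) G.s r) :
    HasAtMor (fun _ _ h u => FlatMor.fibreDimAt h u = d) G.s r' := by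
  let Rs : AlgSp.Space S := ⟨G.R, hR⟩
  let Us : AlgSp.Space S := ⟨G.U, hU⟩
  let σs : Rs ⟶ Us := ObjectProperty.homMk G.s
  let τs : Rs ⟶ Us := ObjectProperty.homMk G.t
  have sqA : IsPullback (pullback.fst G.s G.t) (pullback.snd G.s G.t) G.s G.t :=
    IsPullback.of_hasPullback _ _
  have sqC : IsPullback G.c (pullback.snd G.s G.t) G.s G.s := isPullback_c G
  have sqT : IsPullback G.c (pullback.fst G.s G.t) G.t G.t := gpd_isPullback_c_fst G
  have hRR : IsAlgSpace (pullback G.s G.t) := isAlgSpace_of_isPullback sqA hU.diag hR hR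
  let RRs : AlgSp.Space S := ⟨pullback G.s G.t, hRR⟩
  have hA := fun z => fibreDim_baseChange_iff σs hs τs
    (ObjectProperty.homMk (pullback.fst G.s G.t) : RRs ⟶ Rs)
    (ObjectProperty.homMk (pullback.snd G.s G.t) : RRs ⟶ Rs) sqA z d
  have hC := fun z => fibreDim_baseChange_iff σs hs σs
    (ObjectProperty.homMk G.c : RRs ⟶ Rs)
    (ObjectProperty.homMk (pullback.snd G.s G.t) : RRs ⟶ Rs) sqC z d
  obtain ⟨z, hz1, hz2⟩ := Groth.Agent.H52.exists_point_of_isPullback sqT r' r (hpt _ _)
  have h1 := (hA z).2 (by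
    show HasAtMor _ G.s (Points.map (pullback.fst G.s G.t) z)
    rw [hz2]; exact h)
  have h2 := (hC z).1 h1
  have h3 : HasAtMor (fun _ _ h u => FlatMor.fibreDimAt h u = d) G.s (Points.map G.c z) := h2
  rw [hz1] at h3
  exact h3

/-- All etale charts of the arrows of a groupoid over the spectrum of a field have the same local dimension
at all points. -/
theorem gpd_localDim_const {B : Sp S} (G : GroupoidSp B) (hR : IsAlgSpace G.R) (k : Type u)
    [Field k] (σ : Spec (CommRingCat.of k) ⟶ S) (eU : G.U ≅ (yon S).obj (Over.mk σ))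
    (hs : LocP @LocallyOfFiniteType G.s) {W W' : Over S} (a : (yon S).obj W ⟶ G.R)
    (a' : (yon S).obj W' ⟶ G.R) (ha : RepWith @Etale a) (ha' : RepWith @Etale a')
    (w : ↥W.left) (w' : ↥W'.left) :
    FlatMor.localDim ↥W.left w = FlatMor.localDim ↥W'.left w' := by
  have hU : IsAlgSpace G.U := (IsAlgSpace.yon_obj (Over.mk σ)).of_iso eU.symm
  have hpt : ∀ y y' : Points G.U, y = y' := by
    intro y y'
    have hinj : Function.Injective (Points.map eU.hom) := by
      intro p q hpq
      have := congrArg (Points.map eU.inv) hpq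
      rwa [← Points.map_comp, ← Points.map_comp, eU.hom_inv_id, Points.map_id, Points.map_id] at this
    apply hinj
    obtain ⟨t, ht⟩ := (Points.schemeHomeo (Over.mk σ)).surjective (Points.map eU.hom y)
    obtain ⟨t', ht'⟩ := (Points.schemeHomeo (Over.mk σ)).surjective (Points.map eU.hom y')
    rw [← ht, ← ht']
    congr 1
    exact Subsingleton.elim (α := PrimeSpectrum k) t t'
  have hss : Subsingleton ↥(Over.mk σ).left := by
    show Subsingleton (PrimeSpectrum k)
    infer_instance
  have hb : RepWith @Etale eU.inv := repWith_of_isIso @Etale eU.inv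
  obtain ⟨h, hh⟩ := (yon S).map_surjective (a ≫ G.s ≫ eU.hom)
  obtain ⟨h', hh'⟩ := (yon S).map_surjective (a' ≫ G.s ≫ eU.hom)
  have comm : a ≫ G.s = (yon S).map h ≫ eU.inv := by
    rw [hh, Category.assoc, Category.assoc, eU.hom_inv_id, Category.comp_id]
  have comm' : a' ≫ G.s = (yon S).map h' ≫ eU.inv := by
    rw [hh', Category.assoc, Category.assoc, eU.hom_inv_id, Category.comp_id]
  obtain ⟨d, hd⟩ : ∃ d, FlatMor.fibreDimAt h.left w = d := ⟨_, rfl⟩
  have h1 : HasAtMor (fun _ _ h u => FlatMor.fibreDimAt h u = d) G.s (Points.ofPt a w) :=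
    ⟨W, _, a, eU.inv, h, w, ha, hb, comm, rfl, hd⟩
  have h2 := gpd_fibreDim_s_const G hU hR hs hpt _ (Points.ofPt a' w') d h1
  have h4 := fibreDimAt_eq_of_hasAtMor G.s _ d h2 a' eU.inv h' ha' hb comm' w' rfl
  rw [Groth.Agent.S10678.fibreDimAt_eq_localDim_of_subsingleton] at h4 hd
  rw [h4, hd]

/-- If all etale charts of an algebraic space have the same local dimension at all points, this is the dimension. -/
theorem hasAt_localDim_eq_dim_of_const {F : Sp S} (hF : IsAlgSpace F)
    (hconst : ∀ (W W' : Over S) (a : (yon S).obj W ⟶ F) (a' : (yon S).obj W' ⟶ F),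
      RepWith @Etale a → RepWith @Etale a' → ∀ (w : ↥W.left) (w' : ↥W'.left),
      FlatMor.localDim ↥W.left w = FlatMor.localDim ↥W'.left w') (x : Points F) :
    HasAt (fun V v => FlatMor.localDim ↥V v = AlgSp.dim F) F x := by
  obtain ⟨U, a, hae, has⟩ := hF.atlas
  obtain ⟨u, hu⟩ := surjective_ofPt_of_surjective a has x
  refine ⟨U, a, u, hae, hu, ?_⟩
  apply le_antisymm
  · exact (Groth.Agent.H9.FibDim.localDim_le_dim _ u).trans
      (le_iSup_of_le U (le_iSup_of_le a (le_iSup_of_le hae le_rfl)))
  · unfold AlgSp.dim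
    refine iSup_le fun U' => iSup_le fun a' => iSup_le fun ha' => ?_
    rw [Groth.Agent.S5792.result]
    exact iSup_le fun u' => (hconst U' U a' a ha' hae u' u).le

end Groth.Agent.H50
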