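import Groth.Agent.S10122
import Groth.Agent.S10127
import Groth.Agent.H52.FinitePt
import Groth.Agent.H32.DiagApps
import Groth.Agent.H32.GoodMore
import Groth.Agent.H51.ThickSep
import Groth.Agent.H52.FibProd
import Groth.Agent.H50.Basic

/-!
# helper50: a section through a field point of a decent algebraic space is a closed immersion; groupoids over a
field with decent arrows are separated
-/

set_option autoImplicit false
universe u
open CategoryTheory CategoryTheory.Limits AlgebraicGeometry Opposite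

namespace Groth.Agent.H50.GpdSep

open AlgSp

variable {S : Scheme.{u}}

/-- A morphism from the spectrum of a field to a decent algebraic space which admits a retraction is a closed
immersion. -/
theorem repWith_isClosedImmersion_of_section_of_isDecent {X : Sp S} (hXa : IsAlgSpace X)
    (hX : IsDecent X) {k : Type u} [Field k] (str : Spec (CommRingCat.of k) ⟶ S)
    (p : (yon S).obj (Over.mk str) ⟶ X) (r : X ⟶ (yon S).obj (Over.mk str)) (hpr : p ≫ r = 𝟙 _) :
    RepWith @IsClosedImmersion p := by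
  have hmono : Mono p := mono_of_mono_fac hpr
  have hrep : Representable p := hXa.representable_from_yon p
  let q : FieldPt X := Groth.Agent.H52.fieldPtOfHom str p
  obtain ⟨p₀, hp₀, -, hq₀⟩ := hX (Points.mk q)
  have hqc : RepWith @QuasiCompact p := by
    have := Groth.Agent.H52.repWith_quasiCompact_of_mk_eq hXa.diag (p := q) (q := p₀) hp₀.symm hq₀
    rwa [Groth.Agent.H52.fieldPtOfHom_toHom] at this
  obtain ⟨V, b, hbe, hbs⟩ := hXa.atlas
  obtain ⟨W, w, fst, sq⟩ := hrep b
  obtain ⟨ψ, rfl⟩ := (yon S).map_surjective fst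
  obtain ⟨ρ, hρ⟩ := (yon S).map_surjective (b ≫ r)
  have hwq : QuasiCompact w.left := hqc.2 _ _ _ sq
  have hψ : Etale ψ.left := hbe.2 _ _ _ sq.flip
  have hψw : ψ = w ≫ ρ := by
    apply (yon S).map_injective
    rw [Functor.map_comp, hρ, ← Category.assoc, ← sq.w, Category.assoc, hpr, Category.comp_id]
  have hψl : ψ.left = w.left ≫ ρ.left := by rw [hψw]; rfl
  have hfin : IsFinite w.left := by
    rw [IsZariskiLocalAtTarget.iff_of_iSup_eq_top (P := @IsFinite) _
      (iSup_affineOpens_eq_top V.left)]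
    intro O
    have hOaff : IsAffine (O.1 : Scheme.{u}) := O.2
    have : CompactSpace ↥(w.left ⁻¹ᵁ O.1 : Scheme.{u}) :=
      QuasiCompact.compactSpace_of_compactSpace (w.left ∣_ O.1)
    let ψO : (w.left ⁻¹ᵁ O.1 : Scheme.{u}) ⟶ Spec (CommRingCat.of k) :=
      (w.left ⁻¹ᵁ O.1).ι ≫ ψ.left
    have h1 : Etale ψO := inferInstance
    have h2 : QuasiCompact ψO := inferInstance
    have h3 : IsFinite ψO := Groth.Agent.H52.isFinite_of_etale_quasiCompact_field ψO
    have hcomp : (w.left ∣_ O.1) ≫ (O.1.ι ≫ ρ.left) = ψO := by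
      rw [← Category.assoc, morphismRestrict_ι, Category.assoc, ← hψl]
    have : IsFinite ((w.left ∣_ O.1) ≫ (O.1.ι ≫ ρ.left)) := by rw [hcomp]; exact h3
    exact IsFinite.of_comp (w.left ∣_ O.1) (O.1.ι ≫ ρ.left)
  have hfinp : RepWith @IsFinite p :=
    Groth.Agent.H50.repWith_of_isPullback_atlas Groth.Agent.H52.isFinite_descendsAlong_fppf hrep hbe
      hbs sq ((repWith_yon_map_iff @IsFinite w).2 hfin)
  exact Groth.Agent.H52.repWith_isClosedImmersion_of_isFinite_of_mono p hfinp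

/-- A groupoid in algebraic spaces over `B` whose objects are the spectrum of a field and whose arrows form a decent
algebraic space has separated arrows. -/
theorem isSeparatedSp_R {B : Sp S} (hB : IsAlgSpace B) (G : GroupoidSp B) (hR : IsAlgSpace G.R)
    (k : Type u) [Field k] (σ : Spec (CommRingCat.of k) ⟶ S)
    (eU : G.U ≅ (yon S).obj (Over.mk σ)) (hd : IsDecent G.R) : IsSeparatedSp G.R := by
  have hU : IsAlgSpace G.U := (IsAlgSpace.yon_obj (Over.mk σ)).of_iso eU.symm
  -- the unit is a closed immersion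
  have he0 : RepWith @IsClosedImmersion (eU.inv ≫ G.e) :=
    repWith_isClosedImmersion_of_section_of_isDecent hR hd σ (eU.inv ≫ G.e) (G.s ≫ eU.hom)
      (by rw [Category.assoc, ← Category.assoc G.e, G.e_s, Category.id_comp, eU.inv_hom_id])
  have he : RepWith @IsClosedImmersion G.e := by
    have comm : eU.hom ≫ (eU.inv ≫ G.e) = G.e ≫ 𝟙 _ := by
      rw [eU.hom_inv_id_assoc, Category.comp_id]
    have sq : IsPullback eU.hom G.e (eU.inv ≫ G.e) (𝟙 _) := IsPullback.of_horiz_isIso ⟨comm⟩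
    exact Groth.Agent.H50.repWith_snd_of_isPullback sq he0
  -- the unit section of the stabilizer
  obtain ⟨eG, heG⟩ : ∃ eG : G.U ⟶ G.stabilizer, eG ≫ G.stabilizerι = G.e := by
    have hd1 : G.diag ≫ pullback.fst G.pU G.pU = 𝟙 G.U := pullback.lift_fst _ _ _
    have hd2 : G.diag ≫ pullback.snd G.pU G.pU = 𝟙 G.U := pullback.lift_snd _ _ _
    have h : G.e ≫ G.j = 𝟙 G.U ≫ G.diag := by
      apply pullback.hom_ext
      · rw [Category.assoc, G.j_fst, G.e_t, Category.assoc, hd1, Category.id_comp]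
      · rw [Category.assoc, G.j_snd, G.e_s, Category.assoc, hd2, Category.id_comp]
    exact ⟨pullback.lift G.e (𝟙 G.U) h, pullback.lift_fst _ _ _⟩
  have hmd : Mono G.diag :=
    mono_of_mono_fac (show G.diag ≫ pullback.fst G.pU G.pU = 𝟙 G.U from pullback.lift_fst _ _ _)
  have hmonoι : Mono G.stabilizerι := (inferInstance : Mono (pullback.fst G.j G.diag))
  have heG' : RepWith @IsClosedImmersion eG := by
    have sq : IsPullback (𝟙 G.U) eG G.e G.stabilizerι := by
      refine ⟨⟨by rw [Category.id_comp, heG]⟩, ⟨PullbackCone.IsLimit.mk _ (fun c => c.fst) ?_ ?_ ?_⟩⟩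
      · intro c
        exact Category.comp_id _
      · intro c
        rw [← cancel_mono G.stabilizerι, Category.assoc, heG]
        exact c.condition
      · intro c m h1 h2
        rw [← h1, Category.comp_id]
    exact Groth.Agent.H50.repWith_snd_of_isPullback sq he
  have hj : IsSeparatedMor G.j :=
    ((Groth.Agent.S10122.result S B hB G hU hR eG heG).1.2).2 heG'
  -- the chain `R ⟶ U ×_B U ⟶ U × U ⟶ U ⟶ S`
  have hT : IsTerminal ((yon S).obj (Over.mk (𝟙 S))) :=
    IsTerminal.isTerminalObj (yon S) _ Over.mkIdTerminal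
  have hT₀ : IsAlgSpace ((yon S).obj (Over.mk (𝟙 S))) := IsAlgSpace.yon_obj _
  obtain ⟨τ, hτdef⟩ : ∃ τ : G.U ⟶ (yon S).obj (Over.mk (𝟙 S)), τ = eU.hom ≫
      (yon S).map (Over.homMk σ (Category.comp_id _) : Over.mk σ ⟶ Over.mk (𝟙 S)) := ⟨_, rfl⟩
  have hτ : IsSeparatedMor τ := by
    have h1 : IsSeparatedMor eU.hom :=
      Groth.Agent.H32.DiagApps.isSeparatedMor_of_mono eU.hom (show Mono eU.hom from inferInstance)
    have h2 : IsSeparatedMor
        ((yon S).map (Over.homMk σ (Category.comp_id _) : Over.mk σ ⟶ Over.mk (𝟙 S))) := by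
      rw [isSeparatedMor_yon_map_iff]
      show IsSeparated σ
      infer_instance
    rw [hτdef]
    exact Groth.Agent.H51.isSeparatedMor_comp (X := ⟨G.U, hU⟩)
      (Y := ⟨(yon S).obj (Over.mk σ), IsAlgSpace.yon_obj _⟩)
      (Z := ⟨(yon S).obj (Over.mk (𝟙 S)), hT₀⟩) (ObjectProperty.homMk eU.hom)
      (ObjectProperty.homMk ((yon S).map (Over.homMk σ (Category.comp_id _) :
        Over.mk σ ⟶ Over.mk (𝟙 S)))) h1 h2
  have sqP : IsPullback (pullback.fst G.pU G.pU) (pullback.snd G.pU G.pU) G.pU G.pU :=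
    IsPullback.of_hasPullback _ _
  have hP : IsAlgSpace (pullback G.pU G.pU) :=
    Groth.Agent.H52.isAlgSpace_of_isPullback sqP hB.diag hU hU
  have sqQ : IsPullback (pullback.fst τ τ) (pullback.snd τ τ) τ τ := IsPullback.of_hasPullback _ _
  have hQ : IsAlgSpace (pullback τ τ) :=
    Groth.Agent.H52.isAlgSpace_of_isPullback sqQ hT₀.diag hU hU
  obtain ⟨q, hq1, hq2⟩ : ∃ q : pullback G.pU G.pU ⟶ pullback τ τ,
      q ≫ pullback.fst τ τ = pullback.fst G.pU G.pU ∧
      q ≫ pullback.snd τ τ = pullback.snd G.pU G.pU :=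
    ⟨pullback.lift (pullback.fst G.pU G.pU) (pullback.snd G.pU G.pU) (hT.hom_ext _ _),
      pullback.lift_fst _ _ _, pullback.lift_snd _ _ _⟩
  have hqm : Mono q := by
    refine ⟨fun a b h => ?_⟩
    apply pullback.hom_ext
    · rw [← hq1, ← Category.assoc, h, Category.assoc]
    · rw [← hq2, ← Category.assoc, h, Category.assoc]
  have hqs : IsSeparatedMor q := Groth.Agent.H32.DiagApps.isSeparatedMor_of_mono q hqm
  have hsnd : IsSeparatedMor (pullback.snd τ τ) :=
    Groth.Agent.H32.GoodMore.isSeparatedMor_of_isPullback (X := ⟨G.U, hU⟩)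
      (Y := ⟨(yon S).obj (Over.mk (𝟙 S)), hT₀⟩) (Y' := ⟨G.U, hU⟩) (X' := ⟨pullback τ τ, hQ⟩)
      (ObjectProperty.homMk τ) (ObjectProperty.homMk τ) (ObjectProperty.homMk (pullback.fst τ τ))
      (ObjectProperty.homMk (pullback.snd τ τ)) sqQ hτ
  have c1 : IsSeparatedMor (G.j ≫ q) :=
    Groth.Agent.H51.isSeparatedMor_comp (X := ⟨G.R, hR⟩) (Y := ⟨pullback G.pU G.pU, hP⟩)
      (Z := ⟨pullback τ τ, hQ⟩) (ObjectProperty.homMk G.j) (ObjectProperty.homMk q) hj hqs
  have c2 : IsSeparatedMor ((G.j ≫ q) ≫ pullback.snd τ τ) :=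
    Groth.Agent.H51.isSeparatedMor_comp (X := ⟨G.R, hR⟩) (Y := ⟨pullback τ τ, hQ⟩)
      (Z := ⟨G.U, hU⟩) (ObjectProperty.homMk (G.j ≫ q)) (ObjectProperty.homMk (pullback.snd τ τ))
      c1 hsnd
  have c3 : IsSeparatedMor (((G.j ≫ q) ≫ pullback.snd τ τ) ≫ τ) :=
    Groth.Agent.H51.isSeparatedMor_comp (X := ⟨G.R, hR⟩) (Y := ⟨G.U, hU⟩)
      (Z := ⟨(yon S).obj (Over.mk (𝟙 S)), hT₀⟩)
      (ObjectProperty.homMk ((G.j ≫ q) ≫ pullback.snd τ τ)) (ObjectProperty.homMk τ) c2 hτ
  exact Groth.Agent.S10127.isSeparatedSp_of_isSeparatedMor_terminal hT _ c3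

end Groth.Agent.H50.GpdSep
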