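import Groth.Prelude.Def_AlgSp4
import Groth.Agent.H50.Basic
import Groth.Agent.H52.LocPBC
import Groth.Agent.H52.EtLocalInst
import Groth.Agent.H52.Univ
import Groth.Agent.H52.Topology
import Mathlib.AlgebraicGeometry.Morphisms.UniversallyOpen
import Mathlib.AlgebraicGeometry.Morphisms.Flat
import Mathlib.CategoryTheory.Monoidal.Cartesian.Grp
import Groth.Agent.H51.Gpd

/-! Morphisms from an algebraic space to the spectrum of a field are flat and universally open; the
multiplication of a group object is a base change of the structure morphism (helper50). -/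

set_option autoImplicit false
universe u
open CategoryTheory CategoryTheory.Limits AlgebraicGeometry
open AlgSp

namespace Groth.Agent.H50

open Groth.Agent.H52

variable {S : Scheme.{u}}

/-- Every morphism from a sheaf to `h_{Spec k}`, `k` a field, is flat (etale locally on source and target). -/
theorem locP_flat_over_field (k : Type u) [Field k] (σ : Spec (CommRingCat.of k) ⟶ S)
    {X : Sp S} (p : X ⟶ (yon S).obj (Over.mk σ)) : LocP @Flat p := by
  intro U V a b h ha hb comm
  obtain ⟨b₀, hb₀⟩ : ∃ b₀ : V ⟶ Over.mk σ, (yon S).map b₀ = b :=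
    ⟨(yon S).preimage b, (yon S).map_preimage b⟩
  have hb' : Etale b₀.left := by
    rw [← hb₀] at hb
    exact (repWith_yon_map_iff @Etale _).1 hb
  have hfl : @Flat U.left (Spec (CommRingCat.of k)) (h.left ≫ b₀.left) := inferInstance
  exact etLocal_flat.of_postcomp h.left b₀.left hb' hfl

/-- Every morphism from an algebraic space to `h_{Spec k}`, `k` a field, is universally open. -/
theorem isUnivOpenMor_over_field (k : Type u) [Field k] (σ : Spec (CommRingCat.of k) ⟶ S)
    {X : Sp S} (hX : IsAlgSpace X) (p : X ⟶ (yon S).obj (Over.mk σ)) : IsUnivOpenMor p := by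
  apply isUnivOpenMor_of_affine
  intro Z hZ g P fst snd sq
  obtain ⟨U, a, ha1, ha2⟩ := hX.atlas
  obtain ⟨u₀, hu₀⟩ : ∃ u₀ : U ⟶ Over.mk σ, (yon S).map u₀ = a ≫ p :=
    ⟨(yon S).preimage _, (yon S).map_preimage _⟩
  obtain ⟨g₀, hg₀⟩ : ∃ g₀ : Z ⟶ Over.mk σ, (yon S).map g₀ = g :=
    ⟨(yon S).preimage _, (yon S).map_preimage _⟩
  have sqW : IsPullback (pullback.fst u₀ g₀) (pullback.snd u₀ g₀) u₀ g₀ :=
    IsPullback.of_hasPullback u₀ g₀
  have sqWy := sqW.map (yon S)
  have sqWl := sqW.map (Over.forget S)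
  have hcomm : ((yon S).map (pullback.fst u₀ g₀) ≫ a) ≫ p =
      (yon S).map (pullback.snd u₀ g₀) ≫ g := by
    rw [Category.assoc, ← hu₀, ← hg₀]
    exact sqWy.w
  obtain ⟨l, hl1, hl2⟩ : ∃ l : (yon S).obj (pullback u₀ g₀) ⟶ P,
      l ≫ fst = (yon S).map (pullback.fst u₀ g₀) ≫ a ∧
      l ≫ snd = (yon S).map (pullback.snd u₀ g₀) :=
    ⟨sq.lift _ _ hcomm, sq.lift_fst _ _ _, sq.lift_snd _ _ _⟩
  have top : IsPullback ((yon S).map (pullback.fst u₀ g₀)) l a fst := by
    refine IsPullback.of_bot ?_ hl1.symm sq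
    rw [hl2, ← hu₀, ← hg₀]
    exact sqWy
  have hle : RepWith @Etale l := repWith_snd_of_isPullback top ha1
  have hls : RepWith @Surjective l := repWith_snd_of_isPullback top ha2
  have huo : @UniversallyOpen U.left (Spec (CommRingCat.of k)) u₀.left := inferInstance
  have hso : UniversallyOpen (pullback.snd u₀ g₀).left :=
    MorphismProperty.of_isPullback (P := @UniversallyOpen) sqWl huo
  have hopen : IsOpenMap (Points.ofPt (l ≫ snd)) := by
    have e : Points.ofPt (l ≫ snd) =
        Points.schemeHomeo Z ∘ (fun w => (pullback.snd u₀ g₀).left w) := by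
      funext w
      rw [hl2, ← Category.comp_id ((yon S).map (pullback.snd u₀ g₀)), ofPt_yon_map_comp]
      rfl
    rw [e]
    exact (Points.schemeHomeo Z).isOpenMap.comp (pullback.snd u₀ g₀).left.isOpenMap
  have hsurj := surjective_ofPt_of_surjective l hls
  intro A hA
  have e : Points.map snd '' A = Points.ofPt (l ≫ snd) '' (Points.ofPt l ⁻¹' A) := by
    ext y
    constructor
    · rintro ⟨x, hx, rfl⟩
      obtain ⟨w, rfl⟩ := hsurj x
      exact ⟨w, hx, rfl⟩
    · rintro ⟨w, hw, rfl⟩
      exact ⟨Points.ofPt l w, hw, rfl⟩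
  rw [e]
  exact hopen _ (hA.preimage (Points.continuous_ofPt l))

/-- Base change of a universally open morphism is universally open. -/
theorem isUnivOpenMor_baseChange {X Y X' Y' : Sp S} {f : X ⟶ Y} {g : Y' ⟶ Y} {fst : X' ⟶ X}
    {f' : X' ⟶ Y'} (sq : IsPullback fst f' f g) (hf : IsUnivOpenMor f) : IsUnivOpenMor f' := by
  intro Z Z' hZ k a b sqk
  exact hf hZ (k ≫ g) (a ≫ fst) b (sqk.paste_horiz sq)

section Grp

open MonoidalCategory CartesianMonoidalCategory MonObj

/-- In a cartesian monoidal category, the multiplication of a group object is the base change of `G ⟶ 1` along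
itself: `(g, h) ↦ (g h, h)` is an isomorphism of `G × G`. -/
theorem isPullback_mul {C : Type*} [Category C] [CartesianMonoidalCategory C] (G : C) [GrpObj G] :
    IsPullback μ[G] (CartesianMonoidalCategory.snd G G) (toUnit G) (toUnit G) := by
  refine ⟨⟨toUnit_unique _ _⟩, ⟨PullbackCone.IsLimit.mk _
    (fun s => lift (s.fst * s.snd⁻¹) s.snd) ?_ ?_ ?_⟩⟩
  · intro s
    rw [← Hom.mul_def, inv_mul_cancel_right]
  · intro s
    exact lift_snd _ _
  · intro s m h1 h2
    have hm : m ≫ CartesianMonoidalCategory.fst G G * m ≫ CartesianMonoidalCategory.snd G G =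
        s.fst := by
      rw [Hom.mul_def, ← h1]
      congr 1
      apply CartesianMonoidalCategory.hom_ext
      · rw [lift_fst]
      · rw [lift_snd]
    apply CartesianMonoidalCategory.hom_ext
    · rw [lift_fst, ← hm, h2, mul_inv_cancel_right]
    · rw [lift_snd, h2]

end Grp

/-- Compose both legs of the cospan of a pullback square with a monomorphism. -/
theorem isPullback_comp_mono {C : Type*} [Category C] {P X Y Z W : C} {fst : P ⟶ X} {snd : P ⟶ Y}
    {f : X ⟶ Z} {g : Y ⟶ Z} (j : Z ⟶ W) [Mono j] (sq : IsPullback fst snd f g) :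
    IsPullback fst snd (f ≫ j) (g ≫ j) := by
  have w : fst ≫ f ≫ j = snd ≫ g ≫ j := by rw [← Category.assoc, sq.w, Category.assoc]
  refine ⟨⟨w⟩, ⟨PullbackCone.IsLimit.mk w
    (fun s => sq.lift s.fst s.snd (by
      rw [← cancel_mono j, Category.assoc, Category.assoc]
      exact s.condition))
    (fun s => sq.lift_fst _ _ _) (fun s => sq.lift_snd _ _ _)
    (fun s m h1 h2 => sq.hom_ext (h1.trans (sq.lift_fst _ _ _).symm)
      (h2.trans (sq.lift_snd _ _ _).symm))⟩⟩

section Gpd

open Groth.Agent.H51.Gpd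

/-- The composition `c` of a groupoid is the base change of the source map `s` along itself:
`(α, β) ↦ (α ∘ β, β)` is an isomorphism `R ×_{s,U,t} R ≅ R ×_{s,U,s} R`. -/
theorem isPullback_c {B : Sp S} (G : GroupoidSp B) :
    IsPullback G.c (pullback.snd G.s G.t) G.s G.s := by
  have w : G.c ≫ G.s = pullback.snd G.s G.t ≫ G.s := by
    rw [c_eq G]
    exact comp_s G _ _ _
  refine ⟨⟨w⟩, ⟨PullbackCone.IsLimit.mk _
    (fun s => pullback.lift (comp G s.fst (s.snd ≫ G.i)
      (by rw [Category.assoc, G.i_t]; exact s.condition)) s.snd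
      (by rw [comp_s, Category.assoc, G.i_s])) ?_ ?_ ?_⟩⟩
  · intro s
    exact comp_i_comp' G s.fst s.snd s.condition
  · intro s
    exact pullback.lift_snd _ _ _
  · intro s m h1 h2
    have hcond : (m ≫ pullback.fst G.s G.t) ≫ G.s = (m ≫ pullback.snd G.s G.t) ≫ G.t := by
      rw [Category.assoc, pullback.condition, Category.assoc]
    have hc : comp G (m ≫ pullback.fst G.s G.t) (m ≫ pullback.snd G.s G.t) hcond = s.fst := by
      rw [← h1, c_eq G, precomp]
    apply pullback.hom_ext
    · rw [pullback.lift_fst,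
        ← comp_comp_i G (m ≫ pullback.fst G.s G.t) (m ≫ pullback.snd G.s G.t) hcond]
      exact comp_congr G hc (by rw [h2]) _ _
    · rw [pullback.lift_snd, h2]

end Gpd

end Groth.Agent.H50
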