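import Groth.Agent.H50.OpenSub
import Groth.Agent.H50.Points
import Groth.Agent.H52.FibProd
import Groth.Agent.H52.ChartAt
import Groth.Agent.S10194
import Groth.Prelude.Def_AlgSpMor5

/-!
# helper50: the "where a base change has a property" template

Given `f : X ⟶ Y` over `Z` with `X ⟶ Z` closed, an open locus `T ⊆ |X|` and a property `Pr` of the base
changes `f'` of `f` such that `Pr f'` holds iff all points of `X'` map into `T`, the open subspace
`W = Z \ p(|X| \ T)` of `Z` represents "the base change of `f` has `Pr`".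
-/

set_option autoImplicit false
universe u
open CategoryTheory CategoryTheory.Limits AlgebraicGeometry Opposite

namespace Groth.Agent.H50

open AlgSp Groth.Agent.H52

variable {S : Scheme.{u}}

/-- `LocP @Flat f` iff `f` is flat at every point (immediate from the definitions). -/
theorem locP_flat_iff_forall {F G : AlgSp.Sp S} (f : F ⟶ G) :
    AlgSp.LocP @Flat f ↔ ∀ x, AlgSp.IsFlatAtMor f x := by
  constructor
  · intro hf x U V a b h u ha hb hc _
    haveI := hf a b h ha hb hc
    exact Flat.stalkMap h.left u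
  · intro H U V a b h ha hb hc
    rw [Flat.iff_flat_stalkMap]
    intro u
    exact H (AlgSp.Points.ofPt a u) a b h u ha hb hc rfl

/-- The general template: see the module docstring. -/
theorem where_of_locus {X Y Z : AlgSp.Space S} (f : X ⟶ Y) (p : X ⟶ Z) (q : Y ⟶ Z) (hc : f ≫ q = p)
    (hp : AlgSp.IsClosedMor p.hom) (T : Set (AlgSp.Points X.obj)) (hT : IsOpen T)
    (Pr : ∀ {X' Y' : AlgSp.Space S}, (X' ⟶ Y') → Prop)
    (H : ∀ (Z' : AlgSp.Space S) (g : Z' ⟶ Z) (Y' : AlgSp.Space S) (gY : Y' ⟶ Y) (q' : Y' ⟶ Z'),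
      IsPullback gY.hom q'.hom q.hom g.hom → ∀ (X' : AlgSp.Space S) (gX : X' ⟶ X) (f' : X' ⟶ Y'),
        IsPullback gX.hom f'.hom f.hom gY.hom → (Pr f' ↔ ∀ x', AlgSp.Points.map gX.hom x' ∈ T)) :
    ∃ (W : AlgSp.Space S) (w : W ⟶ Z), AlgSp.RepWith @IsOpenImmersion w.hom ∧
      ∀ (Z' : AlgSp.Space S) (g : Z' ⟶ Z),
        (∃ k : Z' ⟶ W, k ≫ w = g) ↔
          ∀ (Y' : AlgSp.Space S) (gY : Y' ⟶ Y) (q' : Y' ⟶ Z'),
            IsPullback gY.hom q'.hom q.hom g.hom →
            ∀ (X' : AlgSp.Space S) (gX : X' ⟶ X) (f' : X' ⟶ Y'),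
              IsPullback gX.hom f'.hom f.hom gY.hom → Pr f' := by
  have hpe : p.hom = f.hom ≫ q.hom := by rw [← hc]; rfl
  set Wset : Set (AlgSp.Points Z.obj) := (AlgSp.Points.map p.hom '' Tᶜ)ᶜ with hWdef
  have hWopen : IsOpen Wset := (hp _ hT.isClosed_compl).isOpen_compl
  let Wsp : AlgSp.Space S := ⟨openSub Z.obj Wset, isAlgSpace_openSub hWopen Z.property⟩
  let w : Wsp ⟶ Z := ObjectProperty.homMk (openSubι Z.obj Wset)
  have hw : AlgSp.RepWith @IsOpenImmersion w.hom := repWith_isOpenImmersion_openSubι hWopen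
  refine ⟨Wsp, w, hw, ?_⟩
  intro Z' g
  rw [Groth.Agent.S10194.result w hw g]
  have hr : Set.range (AlgSp.Points.map w.hom) = Wset := range_map_openSubι Z.obj Wset
  rw [hr]
  constructor
  · intro hg Y' gY q' sq1 X' gX f' sq2
    rw [H Z' g Y' gY q' sq1 X' gX f' sq2]
    intro x'
    by_contra hx
    have h1 : AlgSp.Points.map p.hom (AlgSp.Points.map gX.hom x') ∈ AlgSp.Points.map p.hom '' Tᶜ :=
      ⟨_, hx, rfl⟩
    have h2 : AlgSp.Points.map p.hom (AlgSp.Points.map gX.hom x') =
        AlgSp.Points.map g.hom (AlgSp.Points.map q'.hom (AlgSp.Points.map f'.hom x')) := by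
      have e : gX.hom ≫ p.hom = f'.hom ≫ q'.hom ≫ g.hom := by
        rw [hpe, ← Category.assoc, sq2.w, Category.assoc, sq1.w]
      rw [← AlgSp.Points.map_comp, e, AlgSp.Points.map_comp, AlgSp.Points.map_comp]
    exact hg ⟨_, h2.symm⟩ h1
  · intro Hall z hz
    obtain ⟨z', rfl⟩ := hz
    intro hmem
    obtain ⟨x, hxT, hx⟩ := hmem
    have sq1 := IsPullback.of_hasPullback q.hom g.hom
    have hY' : AlgSp.IsAlgSpace (pullback q.hom g.hom) :=
      isAlgSpace_of_isPullback sq1 Z.property.diag Y.property Z'.property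
    let Y' : AlgSp.Space S := ⟨pullback q.hom g.hom, hY'⟩
    let gY : Y' ⟶ Y := ObjectProperty.homMk (pullback.fst q.hom g.hom)
    let q' : Y' ⟶ Z' := ObjectProperty.homMk (pullback.snd q.hom g.hom)
    have sq2 := IsPullback.of_hasPullback f.hom (pullback.fst q.hom g.hom)
    have hX' : AlgSp.IsAlgSpace (pullback f.hom (pullback.fst q.hom g.hom)) :=
      isAlgSpace_of_isPullback sq2 Y.property.diag X.property hY'
    let X' : AlgSp.Space S := ⟨pullback f.hom (pullback.fst q.hom g.hom), hX'⟩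
    let gX : X' ⟶ X := ObjectProperty.homMk (pullback.fst f.hom (pullback.fst q.hom g.hom))
    let f' : X' ⟶ Y' := ObjectProperty.homMk (pullback.snd f.hom (pullback.fst q.hom g.hom))
    have hPr := Hall Y' gY q' sq1 X' gX f' sq2
    rw [H Z' g Y' gY q' sq1 X' gX f' sq2] at hPr
    have sq3 : IsPullback gX.hom (f'.hom ≫ q'.hom) (f.hom ≫ q.hom) g.hom :=
      IsPullback.paste_vert (show IsPullback gX.hom f'.hom f.hom gY.hom from sq2)
        (show IsPullback gY.hom q'.hom q.hom g.hom from sq1)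
    obtain ⟨x', hx', -⟩ := exists_point_of_isPullback sq3 x z' (by rw [← hpe]; exact hx)
    exact hxT (hx' ▸ hPr x')

end Groth.Agent.H50
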