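import Groth.Agent.H50.Where3
import Groth.Agent.H50.OverField
import Groth.Agent.H50.AtMor
import Groth.Agent.S10639
import Groth.Agent.S10312
import Groth.Agent.S10313

/-!
# helper50: loci of group algebraic spaces that are invariant under translation

For a property `P` whose locus `T ⊆ |G|` is open and commutes with base change (unramified, locally quasi-finite), the
locus of a group algebraic space `G ⟶ B` is the preimage of `e⁻¹ T ⊆ |B|`, and `e⁻¹ T` is the largest open of `B` over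
which `G` has `P`.
-/

set_option autoImplicit false
universe u
open CategoryTheory CategoryTheory.Limits AlgebraicGeometry Opposite MonoidalCategory MonObj
open CartesianMonoidalCategory

namespace Groth.Agent.H50

open AlgSp Groth.Agent.H52

variable {S : Scheme.{u}}

/-- A property of morphisms with a pointwise locus that commutes with base change. -/
structure LocusPkg (S : Scheme.{u}) (P : MorphismProperty Scheme.{u})
    (Q : ∀ (U V : Scheme.{u}), (U ⟶ V) → ↥U → Prop) : Prop where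
  iff_forall : ∀ {X Y : AlgSp.Space S} (f : X ⟶ Y),
    AlgSp.LocP P f.hom ↔ ∀ x, AlgSp.HasAtMor Q f.hom x
  baseChange : ∀ {X Y X'' Y'' : AlgSp.Space S} (f : X ⟶ Y),
    AlgSp.LocP @LocallyOfFiniteType f.hom →
    ∀ (g : Y'' ⟶ Y) (b : X'' ⟶ X) (f'' : X'' ⟶ Y''), IsPullback b.hom f''.hom f.hom g.hom →
      ∀ x'', AlgSp.HasAtMor Q f''.hom x'' ↔ AlgSp.HasAtMor Q f.hom (AlgSp.Points.map b.hom x'')
  isOpen : ∀ {X Y : AlgSp.Space S} (f : X ⟶ Y), IsOpen {x | AlgSp.HasAtMor Q f.hom x}

theorem locP_lqf_iff' {X Y : AlgSp.Space S} (f : X ⟶ Y) :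
    AlgSp.LocP (@LocallyQuasiFinite ⊓ @LocallyOfFiniteType) f.hom ↔
      ∀ x, AlgSp.HasAtMor (fun U _ h u => ∃ W : U.Opens, u ∈ W ∧ LocallyQuasiFinite (W.ι ≫ h) ∧
        LocallyOfFiniteType (W.ι ≫ h)) f.hom x := by
  constructor
  · intro hf x
    obtain ⟨U, V, a, b, h, u, ha, hb, comm, hu⟩ :=
      exists_chart_diagram_at X.property Y.property f.hom x
    have hP : (@LocallyQuasiFinite ⊓ @LocallyOfFiniteType : MorphismProperty Scheme.{u})
        ((⊤ : U.left.Opens).ι ≫ h.left) := by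
      have := (etLocal_lqf.{u}).mult
      exact MorphismProperty.comp_mem _ _ _ (etLocal_lqf.etale _ inferInstance)
        (hf a b h ha hb comm)
    exact ⟨U, V, a, b, h, u, ha, hb, comm, hu, ⊤, trivial, hP.1, hP.2⟩
  · intro H
    refine locP_of_forall_hasAtMor_nbhd etLocal_lqf f.hom ?_
    intro x
    obtain ⟨U, V, a, b, h, u, ha, hb, comm, hu, W, huW, h1, h2⟩ := H x
    exact ⟨U, V, a, b, h, u, ha, hb, comm, hu, W, huW, h1, h2⟩

theorem locusPkg_unram : LocusPkg S (@LocallyOfFiniteType ⊓ @FormallyUnramified)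
    (fun U _ h u => ∃ W : U.Opens, u ∈ W ∧ LocallyOfFiniteType (W.ι ≫ h) ∧
      FormallyUnramified (W.ι ≫ h)) where
  iff_forall f := Groth.Agent.S10639.locP_unram_iff f
  baseChange {X Y X'' Y''} f hf g b f'' sq x'' := by
    have e := (Groth.Agent.S10312.result f f (𝟙 Y) (Category.comp_id f) hf g g (𝟙 Y'')
      IsPullback.of_id_snd b f'' sq).2
    exact Set.ext_iff.1 e x''
  isOpen f := isOpen_setOf_hasAtMor_nbhd
    (fun U V h W => LocallyOfFiniteType (W.ι ≫ h) ∧ FormallyUnramified (W.ι ≫ h)) f.hom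

theorem locusPkg_lqf : LocusPkg S (@LocallyQuasiFinite ⊓ @LocallyOfFiniteType)
    (fun U _ h u => ∃ W : U.Opens, u ∈ W ∧ LocallyQuasiFinite (W.ι ≫ h) ∧
      LocallyOfFiniteType (W.ι ≫ h)) where
  iff_forall f := locP_lqf_iff' f
  baseChange {X Y X'' Y''} f hf g b f'' sq x'' := by
    obtain ⟨X', j, -, -, -, hbc⟩ := Groth.Agent.S10313.result f hf
    have h1 := hbc Y'' X'' g b f'' sq x''
    have h2 := hbc Y X (𝟙 Y) (𝟙 X) f IsPullback.of_id_fst (AlgSp.Points.map b.hom x'')
    rw [show (𝟙 X : X ⟶ X).hom = 𝟙 X.obj from rfl, AlgSp.Points.map_id] at h2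
    exact h1.symm.trans h2
  isOpen f := isOpen_setOf_hasAtMor_nbhd
    (fun U V h W => LocallyQuasiFinite (W.ι ≫ h) ∧ LocallyOfFiniteType (W.ι ≫ h)) f.hom

/-- Morphisms of sheaves between algebraic spaces factor through an open subspace iff they do so on points. -/
theorem factors_iff_range_subset {X X' Y : AlgSp.Sp S} (hX : AlgSp.IsAlgSpace X)
    (hX' : AlgSp.IsAlgSpace X') (hY : AlgSp.IsAlgSpace Y) (j : X' ⟶ X)
    (hj : AlgSp.RepWith @IsOpenImmersion j) (f : Y ⟶ X) :
    (∃ g : Y ⟶ X', g ≫ j = f) ↔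
      Set.range (AlgSp.Points.map f) ⊆ Set.range (AlgSp.Points.map j) := by
  have key := Groth.Agent.S10194.result (X := (⟨X, hX⟩ : AlgSp.Space S))
    (X' := (⟨X', hX'⟩ : AlgSp.Space S)) (Y := (⟨Y, hY⟩ : AlgSp.Space S))
    (ObjectProperty.homMk j) hj (ObjectProperty.homMk f)
  refine Iff.trans ?_ key
  constructor
  · rintro ⟨g, hg⟩
    exact ⟨ObjectProperty.homMk g, ObjectProperty.hom_ext _ hg⟩
  · rintro ⟨g, hg⟩
    exact ⟨g.hom, congrArg (fun m => m.hom) hg⟩

variable {P : MorphismProperty Scheme.{u}} {Q : ∀ (U V : Scheme.{u}), (U ⟶ V) → ↥U → Prop}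

/-- The locus of a group algebraic space is stable under translation to the unit section. -/
theorem grp_locus_translate (pk : LocusPkg S P Q) {B : AlgSp.Sp S} (hB : AlgSp.IsAlgSpace B)
    (G : Over B) [GrpObj G] (hG : AlgSp.IsAlgSpace G.left)
    (hlft : AlgSp.LocP @LocallyOfFiniteType G.hom) (pt : AlgSp.Points G.left) :
    AlgSp.HasAtMor Q G.hom pt ↔
      AlgSp.HasAtMor Q G.hom (AlgSp.Points.map (η[G]).left (AlgSp.Points.map G.hom pt)) := by
  let Gs : AlgSp.Space S := ⟨G.left, hG⟩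
  let Bs : AlgSp.Space S := ⟨B, hB⟩
  let π : Gs ⟶ Bs := ObjectProperty.homMk G.hom
  have sqA : IsPullback (fst G G).left (snd G G).left G.hom G.hom :=
    IsPullback.of_hasPullback G.hom G.hom
  have sqM : IsPullback (μ[G]).left (snd G G).left G.hom G.hom :=
    (isPullback_mul G).map (Over.forget B)
  have hGG : AlgSp.IsAlgSpace (G ⊗ G).left := isAlgSpace_of_isPullback sqA hB.diag hG hG
  let GGs : AlgSp.Space S := ⟨(G ⊗ G).left, hGG⟩
  have hA := pk.baseChange π hlft π (ObjectProperty.homMk (fst G G).left : GGs ⟶ Gs)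
    (ObjectProperty.homMk (snd G G).left : GGs ⟶ Gs) sqA
  have hM := pk.baseChange π hlft π (ObjectProperty.homMk (μ[G]).left : GGs ⟶ Gs)
    (ObjectProperty.homMk (snd G G).left : GGs ⟶ Gs) sqM
  have e1 : (lift (toUnit G ≫ η[G]) (𝟙 G)).left ≫ (fst G G).left =
      G.hom ≫ (η[G]).left := by
    rw [← Over.comp_left, lift_fst, Over.comp_left]; rfl
  have e2 : (lift (toUnit G ≫ η[G]) (𝟙 G)).left ≫ (μ[G]).left = 𝟙 G.left := by
    rw [← Over.comp_left, MonObj.lift_comp_one_left]; rfl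
  have h := (hA (AlgSp.Points.map (lift (toUnit G ≫ η[G]) (𝟙 G)).left pt)).symm.trans
    (hM (AlgSp.Points.map (lift (toUnit G ≫ η[G]) (𝟙 G)).left pt))
  rw [show (ObjectProperty.homMk (fst G G).left : GGs ⟶ Gs).hom = (fst G G).left from rfl,
    show (ObjectProperty.homMk (μ[G]).left : GGs ⟶ Gs).hom = (μ[G]).left from rfl,
    ← AlgSp.Points.map_comp, ← AlgSp.Points.map_comp, e1, e2, AlgSp.Points.map_id,
    AlgSp.Points.map_comp] at h
  exact h.symm

/-- The base change of a group algebraic space along `g` has `P` iff `g` lands in the open `e⁻¹ T`. -/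
theorem grp_locP_baseChange_iff (pk : LocusPkg S P Q) {B : AlgSp.Sp S} (hB : AlgSp.IsAlgSpace B)
    (G : Over B) [GrpObj G] (hG : AlgSp.IsAlgSpace G.left)
    (hlft : AlgSp.LocP @LocallyOfFiniteType G.hom) {B'' G'' : AlgSp.Sp S}
    (hB'' : AlgSp.IsAlgSpace B'') (g : B'' ⟶ B) (b : G'' ⟶ G.left) (π'' : G'' ⟶ B'')
    (sq : IsPullback b π'' G.hom g) :
    AlgSp.LocP P π'' ↔ Set.range (AlgSp.Points.map g) ⊆
      AlgSp.Points.map (η[G]).left ⁻¹' {x | AlgSp.HasAtMor Q G.hom x} := by
  let Gs : AlgSp.Space S := ⟨G.left, hG⟩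
  let Bs : AlgSp.Space S := ⟨B, hB⟩
  let π : Gs ⟶ Bs := ObjectProperty.homMk G.hom
  let B''s : AlgSp.Space S := ⟨B'', hB''⟩
  have hG'' : AlgSp.IsAlgSpace G'' := isAlgSpace_of_isPullback sq hB.diag hG hB''
  let G''s : AlgSp.Space S := ⟨G'', hG''⟩
  let π''s : G''s ⟶ B''s := ObjectProperty.homMk π''
  have hbc := pk.baseChange π hlft (ObjectProperty.homMk g : B''s ⟶ Bs)
    (ObjectProperty.homMk b : G''s ⟶ Gs) π''s sq
  have hη : (η[G]).left ≫ G.hom = 𝟙 B := by
    have := Over.w η[G]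
    simpa using this
  rw [show π'' = π''s.hom from rfl, pk.iff_forall π''s]
  constructor
  · rintro h _ ⟨z'', rfl⟩
    show AlgSp.HasAtMor Q G.hom (AlgSp.Points.map (η[G]).left (AlgSp.Points.map g z''))
    have hpt : AlgSp.Points.map G.hom (AlgSp.Points.map (η[G]).left (AlgSp.Points.map g z'')) =
        AlgSp.Points.map g z'' := by
      rw [← AlgSp.Points.map_comp, hη]
      exact AlgSp.Points.map_id _
    obtain ⟨x'', hx'', -⟩ := exists_point_of_isPullback sq _ z'' hpt
    rw [← hx'']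
    exact (hbc x'').1 (h x'')
  · intro h x''
    refine (hbc x'').2 ?_
    show AlgSp.HasAtMor Q G.hom (AlgSp.Points.map b x'')
    rw [grp_locus_translate pk hB G hG hlft]
    have e : AlgSp.Points.map G.hom (AlgSp.Points.map b x'') =
        AlgSp.Points.map g (AlgSp.Points.map π'' x'') := by
      rw [← AlgSp.Points.map_comp, ← AlgSp.Points.map_comp, sq.w]
    rw [e]
    exact h ⟨_, rfl⟩

/-- The largest open of the base over which a group algebraic space has `P`, and its compatibility with base change. -/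
theorem grp_exists_largest_open (pk : LocusPkg S P Q) (B : AlgSp.Sp S) (hB : AlgSp.IsAlgSpace B)
    (G : Over B) [GrpObj G] (hG : AlgSp.IsAlgSpace G.left)
    (hlft : AlgSp.LocP @LocallyOfFiniteType G.hom) :
    ∃ (W : AlgSp.Sp S) (w : W ⟶ B), AlgSp.RepWith @IsOpenImmersion w ∧
      (∀ (W' : AlgSp.Sp S) (w' : W' ⟶ B), AlgSp.RepWith @IsOpenImmersion w' →
        (AlgSp.LocP P (pullback.snd G.hom w') ↔ ∃ k : W' ⟶ W, k ≫ w = w')) ∧
      (∀ (B' : AlgSp.Sp S), AlgSp.IsAlgSpace B' → ∀ (f : B' ⟶ B) (W'' : AlgSp.Sp S) (w'' : W'' ⟶ B'),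
        AlgSp.RepWith @IsOpenImmersion w'' →
        (AlgSp.LocP P (pullback.snd (pullback.snd G.hom f) w'') ↔
          ∃ k : W'' ⟶ pullback w f, k ≫ pullback.snd w f = w'')) := by
  let Gs : AlgSp.Space S := ⟨G.left, hG⟩
  let Bs : AlgSp.Space S := ⟨B, hB⟩
  let π : Gs ⟶ Bs := ObjectProperty.homMk G.hom
  obtain ⟨Wset, hWdef⟩ : ∃ Wset : Set (AlgSp.Points B),
      Wset = AlgSp.Points.map (η[G]).left ⁻¹' {x | AlgSp.HasAtMor Q G.hom x} := ⟨_, rfl⟩
  have hWopen : IsOpen Wset := by
    rw [hWdef]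
    exact (pk.isOpen π).preimage (AlgSp.Points.continuous_map _)
  have hw : AlgSp.RepWith @IsOpenImmersion (openSubι B Wset) :=
    repWith_isOpenImmersion_openSubι hWopen
  have hWalg : AlgSp.IsAlgSpace (openSub B Wset) := isAlgSpace_openSub hWopen hB
  have hr : Set.range (AlgSp.Points.map (openSubι B Wset)) = Wset := range_map_openSubι B Wset
  refine ⟨openSub B Wset, openSubι B Wset, hw, ?_, ?_⟩
  · intro W' w' hw'
    have hW' : AlgSp.IsAlgSpace W' := isAlgSpace_of_representable hw'.rep hB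
    have h1 := grp_locP_baseChange_iff pk hB G hG hlft hW' w' _ _
      (IsPullback.of_hasPullback G.hom w')
    rw [← hWdef] at h1
    have h2 := factors_iff_range_subset hB hWalg hW' (openSubι B Wset) hw w'
    rw [hr] at h2
    exact h1.trans h2.symm
  · intro B' hB' f W'' w'' hw''
    have hW'' : AlgSp.IsAlgSpace W'' := isAlgSpace_of_representable hw''.rep hB'
    have sq := (IsPullback.of_hasPullback (pullback.snd G.hom f) w'').paste_horiz
      (IsPullback.of_hasPullback G.hom f)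
    have h1 := grp_locP_baseChange_iff pk hB G hG hlft hW'' (w'' ≫ f) _ _ sq
    rw [← hWdef] at h1
    have hj : AlgSp.RepWith @IsOpenImmersion (pullback.snd (openSubι B Wset) f) :=
      repWith_snd_of_isPullback (IsPullback.of_hasPullback _ f) hw
    have hPalg : AlgSp.IsAlgSpace (pullback (openSubι B Wset) f) :=
      isAlgSpace_of_representable hj.rep hB'
    have h2 := factors_iff_range_subset hB' hPalg hW'' (pullback.snd (openSubι B Wset) f) hj w''
    have hrange : Set.range (AlgSp.Points.map (pullback.snd (openSubι B Wset) f)) =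
        AlgSp.Points.map f ⁻¹' Wset := by
      ext y
      constructor
      · rintro ⟨p, rfl⟩
        rw [Set.mem_preimage, ← AlgSp.Points.map_comp, ← pullback.condition, AlgSp.Points.map_comp]
        exact hr.subset ⟨_, rfl⟩
      · intro hy
        have hy' : AlgSp.Points.map f y ∈ Set.range (AlgSp.Points.map (openSubι B Wset)) := by
          rw [hr]; exact hy
        obtain ⟨ω, hω⟩ := hy'
        obtain ⟨p, -, hp⟩ := exists_point_of_isPullback (IsPullback.of_hasPullback _ f) ω y hω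
        exact ⟨p, hp⟩
    rw [hrange] at h2
    refine h1.trans (Iff.trans ?_ h2.symm)
    constructor
    · rintro h _ ⟨ω, rfl⟩
      rw [Set.mem_preimage, ← AlgSp.Points.map_comp]
      exact h ⟨ω, rfl⟩
    · rintro h _ ⟨ω, rfl⟩
      rw [AlgSp.Points.map_comp]
      exact h ⟨ω, rfl⟩

end Groth.Agent.H50
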