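import Groth.Prelude.Def_AlgSpModX
import Groth.Agent.H50.InfNbhd

/-!
# Quasi-coherent ideal families on the small etale site and ideal sheaves on charts

For a quasi-coherent family `I : IdealEt X` and an etale chart `b : h_T ⟶ X` (any scheme `T`) we build the ideal sheaf
`chartIdeal I hI b hb` on `T`, show that it is compatible with morphisms of charts (`comap_chartIdeal`), and deduce that
every quasi-coherent family is cut out by a closed subspace (`exists_isCutOutBy_of_isQCoh`).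
-/

set_option autoImplicit false
universe u
open CategoryTheory CategoryTheory.Limits AlgebraicGeometry Opposite
open AlgSp

namespace Groth.Agent.H50

variable {S : Scheme.{u}} {X : Sp S}

/-! ### Ring-level identities for restrictions to open subschemes -/

theorem opens_ι_appLE_top {T : Scheme.{u}} (W : T.Opens)
    (e : (⊤ : W.toScheme.Opens) ≤ W.ι ⁻¹ᵁ W) : W.ι.appLE W ⊤ e = W.topIso.inv := by
  rw [Scheme.Opens.ι_appLE]
  rfl

theorem appLE_top_top {A B : Scheme.{u}} (f : A ⟶ B) (e : (⊤ : A.Opens) ≤ f ⁻¹ᵁ ⊤) :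
    f.appLE ⊤ ⊤ e = f.appTop :=
  Scheme.Hom.appLE_eq_app f

theorem appLE_ι_comp_topIso {A B : Scheme.{u}} (f : A ⟶ B) (W : B.Opens) (Q : A.Opens)
    (e : Q ≤ f ⁻¹ᵁ W) (e' : (⊤ : Q.toScheme.Opens) ≤ (Q.ι ≫ f) ⁻¹ᵁ W) :
    (Q.ι ≫ f).appLE W ⊤ e' ≫ Q.topIso.hom = f.appLE W Q e := by
  have e1 : (⊤ : Q.toScheme.Opens) ≤ Q.ι ⁻¹ᵁ Q := by rw [Scheme.Opens.ι_preimage_self]
  have h := Scheme.Hom.appLE_comp_appLE Q.ι f W Q ⊤ e e1
  rw [opens_ι_appLE_top] at h
  rw [← h, Category.assoc, Iso.inv_hom_id, Category.comp_id]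

theorem topIso_comp_appLE_of_lift {A B : Scheme.{u}} (f : A ⟶ B) (W : B.Opens)
    (f' : A ⟶ W.toScheme) (hf' : f' ≫ W.ι = f) (e : (⊤ : A.Opens) ≤ f ⁻¹ᵁ W) :
    W.topIso.hom ≫ f.appLE W ⊤ e = f'.appTop := by
  subst hf'
  have e1 : (⊤ : W.toScheme.Opens) ≤ W.ι ⁻¹ᵁ W := by rw [Scheme.Opens.ι_preimage_self]
  have e2 : (⊤ : A.Opens) ≤ f' ⁻¹ᵁ ⊤ := le_top
  have h := Scheme.Hom.appLE_comp_appLE f' W.ι W ⊤ ⊤ e1 e2
  rw [opens_ι_appLE_top, appLE_top_top] at h
  rw [← h, Iso.hom_inv_id_assoc]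

theorem topIso_comp_res {T : Scheme.{u}} {W' W : T.Opens} (le : W' ≤ W) :
    W.topIso.hom ≫ T.presheaf.map (homOfLE le).op = (T.homOfLE le).appTop ≫ W'.topIso.hom := by
  have e : (⊤ : W'.toScheme.Opens) ≤ W'.ι ⁻¹ᵁ W := by
    intro y _
    exact le y.2
  have h1 := topIso_comp_appLE_of_lift W'.ι W (T.homOfLE le) (T.homOfLE_ι le) e
  have e1 : (⊤ : W'.toScheme.Opens) ≤ W'.ι ⁻¹ᵁ W' := by rw [Scheme.Opens.ι_preimage_self]
  have h2 : T.presheaf.map (homOfLE le).op ≫ W'.ι.appLE W' ⊤ e1 = W'.ι.appLE W ⊤ e :=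
    Scheme.Hom.map_appLE W'.ι e1 (homOfLE le).op
  rw [opens_ι_appLE_top] at h2
  rw [← h1, ← h2, Category.assoc, Category.assoc, Iso.inv_hom_id, Category.comp_id]

/-! ### Open subschemes of a chart as objects of the small etale site -/

/-- An open subscheme of a scheme over `S`, as a scheme over `S`. -/
abbrev opOver (T : Over S) (W : T.left.Opens) : Over S := Over.mk (W.ι ≫ T.hom)

/-- The inclusion of an open subscheme, over `S`. -/
abbrev opOverι (T : Over S) (W : T.left.Opens) : opOver T W ⟶ T := Over.homMk W.ι rfl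

theorem repWith_etale_opOverι_comp {T : Over S} (b : (yon S).obj T ⟶ X) (hb : RepWith @Etale b)
    (W : T.left.Opens) : RepWith @Etale ((yon S).map (opOverι T W) ≫ b) :=
  (repWith_isMultiplicative (S := S) @Etale).comp_mem _ _
    ((repWith_yon_map_iff _ _).2 (inferInstanceAs (Etale W.ι))) hb

/-- The object of the small etale site given by an open subscheme of an etale chart. -/
noncomputable abbrev eOpen {T : Over S} (b : (yon S).obj T ⟶ X) (hb : RepWith @Etale b)
    (W : T.left.Opens) : EtOver X :=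
  EtOver.mk ((yon S).map (opOverι T W) ≫ b) (repWith_etale_opOverι_comp b hb W)

/-- For a quasi-coherent family the values are related by extension of ideals. -/
theorem ideal_eq_map_of_isQCoh (I : IdealEt X) (hI : I.IsQCoh) {E E' : EtOver X} (g : E' ⟶ E)
    (hE : IsAffine E.obj.left.left) (hE' : IsAffine E'.obj.left.left) :
    I.ideal E' hE' = (I.ideal E hE).map g.hom.left.left.appTop.hom :=
  le_antisymm (hI g hE hE') (I.map_le g hE hE')

theorem ideal_eOpen_map_res (I : IdealEt X) (hI : I.IsQCoh) {T : Over S} (b : (yon S).obj T ⟶ X)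
    (hb : RepWith @Etale b) {W' W : T.left.Opens} (hW' : IsAffineOpen W') (hW : IsAffineOpen W)
    (le : W' ≤ W) :
    ((I.ideal (eOpen b hb W) hW).map W.topIso.hom.hom).map
        (T.left.presheaf.map (homOfLE le).op).hom =
      (I.ideal (eOpen b hb W') hW').map W'.topIso.hom.hom := by
  let g₀ : opOver T W' ⟶ opOver T W := Over.homMk (T.left.homOfLE le) (by
    show T.left.homOfLE le ≫ W.ι ≫ T.hom = W'.ι ≫ T.hom
    rw [← Category.assoc, Scheme.homOfLE_ι])
  have hg₀ : g₀ ≫ opOverι T W = opOverι T W' := by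
    apply Over.OverMorphism.ext
    exact Scheme.homOfLE_ι _ le
  let g : eOpen b hb W' ⟶ eOpen b hb W := EtOver.homMk g₀ (by
    show (yon S).map g₀ ≫ (yon S).map (opOverι T W) ≫ b = (yon S).map (opOverι T W') ≫ b
    rw [← Category.assoc, ← Functor.map_comp, hg₀])
  have h1 : I.ideal (eOpen b hb W') hW' =
      (I.ideal (eOpen b hb W) hW).map (T.left.homOfLE le).appTop.hom :=
    ideal_eq_map_of_isQCoh I hI g hW hW'
  rw [h1, Ideal.map_map, Ideal.map_map, ← CommRingCat.hom_comp, ← CommRingCat.hom_comp,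
    topIso_comp_res le]

/-- The ideal sheaf on an etale chart `T` given by a quasi-coherent family of ideals on the small etale site. -/
noncomputable def chartIdeal (I : IdealEt X) (hI : I.IsQCoh) {T : Over S} (b : (yon S).obj T ⟶ X)
    (hb : RepWith @Etale b) : T.left.IdealSheafData where
  ideal W := (I.ideal (eOpen b hb W.1) W.2).map W.1.topIso.hom.hom
  map_ideal_basicOpen W f :=
    ideal_eOpen_map_res I hI b hb (T.left.affineBasicOpen f).2 W.2 (T.left.basicOpen_le f)

theorem chartIdeal_ideal (I : IdealEt X) (hI : I.IsQCoh) {T : Over S} (b : (yon S).obj T ⟶ X)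
    (hb : RepWith @Etale b) (W : T.left.affineOpens) :
    (chartIdeal I hI b hb).ideal W = (I.ideal (eOpen b hb W.1) W.2).map W.1.topIso.hom.hom := rfl

theorem chartIdeal_congr (I : IdealEt X) (hI : I.IsQCoh) {T : Over S} {b b' : (yon S).obj T ⟶ X}
    (hb : RepWith @Etale b) (hb' : RepWith @Etale b') (h : b = b') :
    chartIdeal I hI b hb = chartIdeal I hI b' hb' := by
  subst h
  rfl

/-- The value of a quasi-coherent family on an affine object mapping into an affine open of a chart. -/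
theorem ideal_eq_map_chartIdeal (I : IdealEt X) (hI : I.IsQCoh) {T : Over S}
    (b : (yon S).obj T ⟶ X) (hb : RepWith @Etale b) {V : Over S} (hV : IsAffine V.left)
    (c : (yon S).obj V ⟶ X) (hc : RepWith @Etale c) (h : V ⟶ T) (hh : (yon S).map h ≫ b = c)
    (W : T.left.affineOpens) (e : (⊤ : V.left.Opens) ≤ h.left ⁻¹ᵁ W.1) :
    I.ideal (EtOver.mk c hc) hV =
      ((chartIdeal I hI b hb).ideal W).map (h.left.appLE W.1 ⊤ e).hom := by
  have hr : Set.range h.left ⊆ Set.range W.1.ι := by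
    rintro _ ⟨x, rfl⟩
    rw [Scheme.Opens.range_ι]
    exact e (show x ∈ (⊤ : V.left.Opens) from trivial)
  let h' : V.left ⟶ W.1.toScheme := IsOpenImmersion.lift W.1.ι h.left hr
  have hh' : h' ≫ W.1.ι = h.left := IsOpenImmersion.lift_fac _ _ _
  let g₀ : V ⟶ opOver T W.1 := Over.homMk h' (by
    show h' ≫ W.1.ι ≫ T.hom = V.hom
    rw [← Category.assoc, hh', Over.w])
  have hg₀ : g₀ ≫ opOverι T W.1 = h := by
    apply Over.OverMorphism.ext
    exact hh'
  let g : EtOver.mk c hc ⟶ eOpen b hb W.1 := EtOver.homMk g₀ (by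
    show (yon S).map g₀ ≫ (yon S).map (opOverι T W.1) ≫ b = c
    rw [← Category.assoc, ← Functor.map_comp, hg₀, hh])
  have h1 : I.ideal (EtOver.mk c hc) hV = (I.ideal (eOpen b hb W.1) W.2).map h'.appTop.hom :=
    ideal_eq_map_of_isQCoh I hI g W.2 hV
  rw [h1, chartIdeal_ideal, Ideal.map_map, ← CommRingCat.hom_comp,
    topIso_comp_appLE_of_lift h.left W.1 h' hh' e]

/-- Compatibility of the chart ideal sheaves with morphisms of charts. -/
theorem comap_chartIdeal (I : IdealEt X) (hI : I.IsQCoh) {T T' : Over S} (b : (yon S).obj T ⟶ X)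
    (hb : RepWith @Etale b) (b' : (yon S).obj T' ⟶ X) (hb' : RepWith @Etale b') (h : T' ⟶ T)
    (hh : (yon S).map h ≫ b = b') :
    (chartIdeal I hI b hb).comap h.left = chartIdeal I hI b' hb' := by
  have hex : ∀ x : T'.left, ∃ (W : T.left.affineOpens) (Q : T'.left.affineOpens),
      x ∈ Q.1 ∧ Q.1 ≤ h.left ⁻¹ᵁ W.1 := by
    intro x
    obtain ⟨_, ⟨W, hW, rfl⟩, hxW, -⟩ := T.left.isBasis_affineOpens.exists_subset_of_mem_open
      (Set.mem_univ (h.left x)) isOpen_univ
    obtain ⟨_, ⟨Q, hQ, rfl⟩, hxQ, hQW⟩ := T'.left.isBasis_affineOpens.exists_subset_of_mem_open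
      (show x ∈ ((h.left ⁻¹ᵁ W : T'.left.Opens) : Set T'.left) from hxW) (h.left ⁻¹ᵁ W).2
    exact ⟨⟨W, hW⟩, ⟨Q, hQ⟩, hxQ, hQW⟩
  choose W Q hxQ hQW using hex
  refine Scheme.IdealSheafData.ext_of_iSup_eq_top Q ?_ (fun x => ?_)
  · rw [eq_top_iff]
    intro x _
    exact TopologicalSpace.Opens.mem_iSup.2 ⟨x, hxQ x⟩
  · rw [H9.comap_ideal h.left _ (W x) (Q x) (hQW x), chartIdeal_ideal I hI b' hb' (Q x)]
    have e' : (⊤ : (opOver T' (Q x).1).left.Opens) ≤
        (opOverι T' (Q x).1 ≫ h).left ⁻¹ᵁ (W x).1 := by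
      intro y _
      exact hQW x y.2
    have h2 := ideal_eq_map_chartIdeal I hI b hb (V := opOver T' (Q x).1) (Q x).2
      ((yon S).map (opOverι T' (Q x).1) ≫ b') (repWith_etale_opOverι_comp b' hb' (Q x).1)
      (opOverι T' (Q x).1 ≫ h) (by rw [Functor.map_comp, Category.assoc, hh]) (W x) e'
    rw [h2, Ideal.map_map, ← CommRingCat.hom_comp]
    congr 2
    exact (appLE_ι_comp_topIso h.left (W x).1 (Q x).1 (hQW x) e').symm

/-- On an affine chart the global value of the chart ideal sheaf is the value of the family. -/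
theorem ideal_eq_chartIdeal_top (I : IdealEt X) (hI : I.IsQCoh) {V : Over S}
    (hV : IsAffine V.left) (c : (yon S).obj V ⟶ X) (hc : RepWith @Etale c) :
    I.ideal (EtOver.mk c hc) hV =
      (chartIdeal I hI c hc).ideal ⟨⊤, @isAffineOpen_top V.left hV⟩ := by
  have e : (⊤ : V.left.Opens) ≤ (𝟙 V : V ⟶ V).left ⁻¹ᵁ ⊤ := le_top
  have h1 := ideal_eq_map_chartIdeal I hI c hc hV c hc (𝟙 V)
    (by rw [CategoryTheory.Functor.map_id, Category.id_comp]) ⟨⊤, @isAffineOpen_top V.left hV⟩ e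
  rw [h1]
  have h2 : (𝟙 V : V ⟶ V).left.appLE ⊤ ⊤ e = 𝟙 _ := by
    rw [appLE_top_top]
    rfl
  rw [h2]
  exact Ideal.map_id _

/-- Every quasi-coherent family of ideals on the small etale site of an algebraic space is cut out by a closed
subspace. -/
theorem exists_isCutOutBy_of_isQCoh (hX : IsAlgSpace X) (I : IdealEt X) (hI : I.IsQCoh) :
    ∃ (Z : Sp S) (i : Z ⟶ X), IsAlgSpace Z ∧ IsCutOutBy I i := by
  obtain ⟨U, a, ha, has⟩ := hX.atlas
  have hrep : Representable a := ha.rep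
  obtain ⟨s, hs⟩ := (yon S).map_surjective (hrep.fst a)
  have hR : IsPullback ((yon S).map s) ((yon S).map (hrep.snd a)) a a := by
    rw [hs]
    exact hrep.isPullback a
  have hinv : Invariant a (chartIdeal I hI a ha) := by
    refine invariant_of_comap_eq s (hrep.snd a) hR ?_
    have hEs : Etale s.left := ha.property a _ s hR.flip
    have hes : RepWith @Etale ((yon S).map s ≫ a) :=
      (repWith_isMultiplicative (S := S) @Etale).comp_mem _ _ ((repWith_yon_map_iff _ _).2 hEs) ha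
    have het : RepWith @Etale ((yon S).map (hrep.snd a) ≫ a) := by
      rw [← hR.w]
      exact hes
    rw [comap_chartIdeal I hI a ha _ hes s rfl, comap_chartIdeal I hI a ha _ het (hrep.snd a) rfl]
    exact chartIdeal_congr I hI hes het hR.w
  have hcl := repWith_isClosedImmersion_closedSubι ha has hinv
  refine ⟨closedSub a (chartIdeal I hI a ha), closedSubι a (chartIdeal I hI a ha),
    isAlgSpace_closedSub ha has hinv hX, hcl, ?_⟩
  apply IdealEt.ext
  funext E hE
  have hc : RepWith @Etale E.obj.hom := E.property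
  obtain ⟨p₂, hp₂⟩ := (yon S).map_surjective (hrep.fst E.obj.hom)
  have sqP : IsPullback ((yon S).map p₂) ((yon S).map (hrep.snd E.obj.hom)) a E.obj.hom := by
    rw [hp₂]
    exact hrep.isPullback E.obj.hom
  haveI hp₁e : Etale (hrep.snd E.obj.hom).left := ha.property E.obj.hom _ _ sqP
  have hp₁s : Surjective (hrep.snd E.obj.hom).left := has.property E.obj.hom _ _ sqP
  have hd : (yon S).map p₂ ≫ a = (yon S).map (hrep.snd E.obj.hom) ≫ E.obj.hom := sqP.w
  have hde : RepWith @Etale ((yon S).map (hrep.snd E.obj.hom) ≫ E.obj.hom) :=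
    (repWith_isMultiplicative (S := S) @Etale).comp_mem _ _ ((repWith_yon_map_iff _ _).2 hp₁e) hc
  have hde' : RepWith @Etale ((yon S).map p₂ ≫ a) := by
    rw [hd]
    exact hde
  haveI hiV : IsClosedImmersion (hcl.1.snd E.obj.hom).left :=
    hcl.2 _ _ _ (hcl.1.isPullback E.obj.hom)
  have sqR2 := hcl.1.isPullback ((yon S).map p₂ ≫ a)
  have sqR1 : IsPullback (hcl.1.fst ((yon S).map p₂ ≫ a))
      ((yon S).map (hcl.1.snd ((yon S).map p₂ ≫ a))) (closedSubι a (chartIdeal I hI a ha))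
      ((yon S).map (hrep.snd E.obj.hom) ≫ E.obj.hom) := by
    rw [← hd]
    exact sqR2
  obtain ⟨l₁, hl₁⟩ := exists_isPullback_of_pullbacks (closedSubι a (chartIdeal I hI a ha))
    E.obj.hom (hrep.snd E.obj.hom) (hcl.1.fst E.obj.hom) (hcl.1.snd E.obj.hom)
    (hcl.1.isPullback E.obj.hom) _ (hcl.1.snd ((yon S).map p₂ ≫ a)) sqR1
  obtain ⟨l₂, hl₂⟩ := exists_isPullback_of_pullbacks (closedSubι a (chartIdeal I hI a ha))
    a p₂ (closedSubπ a (chartIdeal I hI a ha)) (vOverι U (chartIdeal I hI a ha))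
    (isPullback_closedSub hinv) _ (hcl.1.snd ((yon S).map p₂ ≫ a)) sqR2
  have k1 : (hcl.1.snd ((yon S).map p₂ ≫ a)).left.ker =
      (hcl.1.snd E.obj.hom).left.ker.comap (hrep.snd E.obj.hom).left :=
    ker_eq_comap_of_isClosedImmersion hl₁
  haveI : IsClosedImmersion (vOverι U (chartIdeal I hI a ha)).left :=
    inferInstanceAs (IsClosedImmersion (chartIdeal I hI a ha).subschemeι)
  have k2 : (hcl.1.snd ((yon S).map p₂ ≫ a)).left.ker = (chartIdeal I hI a ha).comap p₂.left := by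
    rw [ker_eq_comap_of_isClosedImmersion hl₂]
    show ((chartIdeal I hI a ha).subschemeι).ker.comap p₂.left = _
    rw [Scheme.IdealSheafData.ker_subschemeι]
  have k3 : (hcl.1.snd E.obj.hom).left.ker = chartIdeal I hI E.obj.hom hc := by
    refine idealSheaf_eq_of_flat_family _ _ (fun _ : Unit => (hrep.snd E.obj.hom).left)
      (fun _ => inferInstance) (fun x => ?_) (fun _ => ?_)
    · obtain ⟨y, hy⟩ := hp₁s.surj x
      exact ⟨(), y, hy⟩
    · rw [← k1, k2, comap_chartIdeal I hI a ha _ hde' p₂ rfl,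
        comap_chartIdeal I hI E.obj.hom hc _ hde (hrep.snd E.obj.hom) rfl]
      exact chartIdeal_congr I hI hde' hde hd
  show RingHom.ker (hcl.1.snd E.obj.hom).left.appTop.hom = I.ideal E hE
  rw [show I.ideal E hE = (chartIdeal I hI E.obj.hom hc).ideal ⟨⊤, @isAffineOpen_top _ hE⟩ from
    ideal_eq_chartIdeal_top I hI hE E.obj.hom hc, ← k3, Scheme.Hom.ker_apply]
  rfl

end Groth.Agent.H50
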