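import Groth.Agent.H50.OpenSub
import Groth.Agent.H50.OverField
import Groth.Agent.H50.AtMor

/-!
# helper50: charts of open subspaces
-/

set_option autoImplicit false
universe u
open CategoryTheory CategoryTheory.Limits AlgebraicGeometry Opposite

namespace Groth.Agent.H50

open AlgSp Groth.Agent.H52

variable {S : Scheme.{u}}

/-- Cancellation of a monomorphism `j`: if `a₁ ≫ j` is representable with `P`, so is `a₁`. -/
theorem repWith_of_comp_mono {P : MorphismProperty Scheme.{u}} {F G H : Sp S} (a₁ : F ⟶ G) (j : G ⟶ H)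
    [Mono j] (h : RepWith P (a₁ ≫ j)) : RepWith P a₁ := by
  have sq : IsPullback (𝟙 _) a₁ (a₁ ≫ j) j := IsPullback.of_horiz_isIso_mono ⟨by simp⟩
  exact repWith_snd_of_isPullback sq h

/-- A map to the subsheaf attached to `W` which hits every point of `W` is representable surjective. -/
theorem repWith_surjective_of_comp_openSubι {X : Sp S} {W : Set (Points X)} {T : Over S}
    (a₁ : (yon S).obj T ⟶ openSub X W) (hrep : Representable a₁)
    (hW : W ⊆ Set.range (Points.ofPt (a₁ ≫ openSubι X W))) : RepWith @Surjective a₁ := by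
  refine ⟨hrep, fun T' V' g fst snd sq => ?_⟩
  obtain ⟨φ, rfl⟩ := (yon S).map_surjective fst
  have sq' := isPullback_comp_mono (openSubι X W) sq
  show Surjective snd.left
  refine ⟨fun t => ?_⟩
  obtain ⟨u, hu⟩ := hW (ofPt_comp_openSubι_mem X W g t)
  obtain ⟨v, -, hv⟩ := exists_of_ofPt_eq_ofPt sq' u t hu
  exact ⟨v, hv⟩

/-- The restriction of an etale chart `a` of `X` to an open `W₀` of its source is an etale surjective chart of the
open subspace attached to the image of `W₀`. -/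
theorem exists_chart_openSub {X : Sp S} {U : Over S} (a : (yon S).obj U ⟶ X) (ha : RepWith @Etale a)
    (W₀ : U.left.Opens) :
    ∃ a₁ : (yon S).obj (opensOver U W₀) ⟶ openSub X (Points.ofPt a '' (W₀ : Set ↥U.left)),
      a₁ ≫ openSubι X (Points.ofPt a '' (W₀ : Set ↥U.left)) = (yon S).map (opensOverι U W₀) ≫ a ∧
      RepWith @Etale a₁ ∧ RepWith @Surjective a₁ := by
  have hfac : ∀ t : ↥(opensOver U W₀).left,
      Points.ofPt ((yon S).map (opensOverι U W₀) ≫ a) t ∈ Points.ofPt a '' (W₀ : Set ↥U.left) := by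
    intro t
    rw [ofPt_yon_map_comp]
    exact ⟨t.1, t.2, rfl⟩
  obtain ⟨a₁, ha₁j⟩ := (factors_openSubι_iff X _ _).2 hfac
  have ha₁e : RepWith @Etale (a₁ ≫ openSubι X (Points.ofPt a '' (W₀ : Set ↥U.left))) := by
    rw [ha₁j]
    exact repWith_etale_opens_ι_comp a ha W₀
  have ha₁ : RepWith @Etale a₁ := repWith_of_comp_mono a₁ _ ha₁e
  refine ⟨a₁, ha₁j, ha₁, repWith_surjective_of_comp_openSubι a₁ ha₁.rep ?_⟩
  rintro _ ⟨u₀, hu₀, rfl⟩
  refine ⟨(⟨u₀, hu₀⟩ : W₀), ?_⟩
  rw [ha₁j, ofPt_yon_map_comp]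
  rfl

end Groth.Agent.H50
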