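import Groth.Agent.H50.SchImage
import Groth.Agent.H50.OpenSubChart
import Mathlib.AlgebraicGeometry.Morphisms.Immersion
import Mathlib.Topology.LocallyClosed

/-!
# helper50: locally closed subspaces of a sheaf from an invariant immersion into an etale chart
-/

set_option autoImplicit false
universe u
open CategoryTheory CategoryTheory.Limits AlgebraicGeometry Opposite

namespace Groth.Agent.H50

open AlgSp Groth.Agent.H52

variable {S : Scheme.{u}}

/-- Two subobjects of `X` with isomorphic pullbacks along an epimorphism are isomorphic. -/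
theorem exists_iso_of_isPullback_of_epi {X G F₁ F₂ Q₁ Q₂ : Sp S} (p : G ⟶ X) [Epi p]
    (j₁ : F₁ ⟶ X) [Mono j₁] (j₂ : F₂ ⟶ X) [Mono j₂] {b₁ : Q₁ ⟶ F₁} {c₁ : Q₁ ⟶ G} {b₂ : Q₂ ⟶ F₂}
    {c₂ : Q₂ ⟶ G} (sq₁ : IsPullback b₁ c₁ j₁ p) (sq₂ : IsPullback b₂ c₂ j₂ p) (e : Q₁ ≅ Q₂)
    (he : e.hom ≫ c₂ = c₁) : ∃ ε : F₁ ≅ F₂, ε.hom ≫ j₂ = j₁ := by
  haveI : Epi b₁ := epi_fst_of_isPullback sq₁
  haveI : Epi b₂ := epi_fst_of_isPullback sq₂
  obtain ⟨k₁, hk₁, -⟩ := factor_of_epi_mono b₁ j₂ (e.hom ≫ b₂) j₁ (by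
    rw [sq₁.w, Category.assoc, sq₂.w, ← Category.assoc, he])
  obtain ⟨k₂, hk₂, -⟩ := factor_of_epi_mono b₂ j₁ (e.inv ≫ b₁) j₂ (by
    rw [sq₂.w, Category.assoc, sq₁.w, ← Category.assoc, ← he, Iso.inv_hom_id_assoc])
  refine ⟨⟨k₁, k₂, ?_, ?_⟩, hk₁⟩
  · rw [← cancel_mono j₁, Category.assoc, hk₂, hk₁, Category.id_comp]
  · rw [← cancel_mono j₂, Category.assoc, hk₁, hk₂, Category.id_comp]

/-- The pullback to the chart of the open subspace attached to the image of a saturated open. -/
theorem exists_isPullback_openSubι_of_saturated {X : Sp S} {U : Over S} (a : (yon S).obj U ⟶ X)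
    (ha : RepWith @Etale a) (W₀ : U.left.Opens)
    (hsat : ∀ u : ↥U.left, Points.ofPt a u ∈ Points.ofPt a '' (W₀ : Set ↥U.left) → u ∈ W₀) :
    ∃ a₁ : (yon S).obj (opensOver U W₀) ⟶ openSub X (Points.ofPt a '' (W₀ : Set ↥U.left)),
      IsPullback a₁ ((yon S).map (opensOverι U W₀))
        (openSubι X (Points.ofPt a '' (W₀ : Set ↥U.left))) a := by
  have hO : IsOpen (Points.ofPt a '' (W₀ : Set ↥U.left)) := isOpenMap_ofPt_of_etale a ha _ W₀.isOpen
  have hEq : preimageOpens hO a = W₀ := by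
    apply TopologicalSpace.Opens.ext
    ext u
    exact ⟨fun h => hsat u h, fun h => ⟨u, h, rfl⟩⟩
  have key : ∀ W' : U.left.Opens, W' = W₀ →
      (∃ gW : (yon S).obj (opensOver U W') ⟶ openSub X (Points.ofPt a '' (W₀ : Set ↥U.left)),
        IsPullback gW ((yon S).map (opensOverι U W'))
          (openSubι X (Points.ofPt a '' (W₀ : Set ↥U.left))) a) →
      ∃ a₁ : (yon S).obj (opensOver U W₀) ⟶ openSub X (Points.ofPt a '' (W₀ : Set ↥U.left)),
        IsPullback a₁ ((yon S).map (opensOverι U W₀))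
          (openSubι X (Points.ofPt a '' (W₀ : Set ↥U.left))) a := by
    rintro W' rfl h
    exact h
  exact key _ hEq (exists_isPullback_openSubι hO a)

/-- Invariance of an immersion into a chart under the equivalence relation of the chart, on points with values in
schemes. -/
def FInvariant {X : Sp S} {U : Over S} (p : (yon S).obj U ⟶ X) {Z' : Scheme.{u}} (i' : Z' ⟶ U.left) :
    Prop :=
  ∀ ⦃W : Over S⦄ (w₁ w₂ : W ⟶ U), (yon S).map w₁ ≫ p = (yon S).map w₂ ≫ p →
    (∃ d : W.left ⟶ Z', d ≫ i' = w₁.left) → ∃ d : W.left ⟶ Z', d ≫ i' = w₂.left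

/-- The range of an invariant immersion is saturated. -/
theorem FInvariant.saturated {X : Sp S} {U : Over S} {p : (yon S).obj U ⟶ X} (hpe : RepWith @Etale p)
    {Z' : Scheme.{u}} {i' : Z' ⟶ U.left} (hinv : FInvariant p i') (u : ↥U.left)
    (hu : Points.ofPt p u ∈ Points.ofPt p '' Set.range i') : u ∈ Set.range i' := by
  obtain ⟨_, ⟨z', rfl⟩, hz'⟩ := hu
  have hrep : Representable p := hpe.rep
  obtain ⟨s, hs⟩ := (yon S).map_surjective (hrep.fst p)
  have hR : IsPullback ((yon S).map s) ((yon S).map (hrep.snd p)) p p := by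
    rw [hs]
    exact hrep.isPullback p
  obtain ⟨r, hr1, hr2⟩ := exists_of_ofPt_eq_ofPt hR (i' z') u hz'
  let R₁ : Over S := Over.mk (pullback.fst s.left i' ≫ (hrep.pullback p).hom)
  let π₁ : R₁ ⟶ hrep.pullback p := Over.homMk (pullback.fst s.left i') rfl
  obtain ⟨d, hd⟩ := hinv (π₁ ≫ s) (π₁ ≫ hrep.snd p) (by
    rw [Functor.map_comp, Functor.map_comp, Category.assoc, Category.assoc, hR.w])
    ⟨pullback.snd s.left i', pullback.condition.symm⟩
  obtain ⟨ρ, hρ1, hρ2⟩ := Scheme.Pullback.exists_preimage_pullback r z' hr1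
  refine ⟨d ρ, ?_⟩
  rw [← Scheme.Hom.comp_apply, hd]
  show (hrep.snd p).left (pullback.fst s.left i' ρ) = u
  rw [hρ1, hr2]

/-- Factoring through a closed immersion, in terms of its kernel. -/
theorem le_ker_iff_factors_of_closedImmersion {Z' Y W : Scheme.{u}} (j : Z' ⟶ Y) [IsClosedImmersion j]
    (w : W ⟶ Y) : j.ker ≤ w.ker ↔ ∃ d : W ⟶ Z', d ≫ j = w := by
  constructor
  · intro h
    exact ⟨IsClosedImmersion.lift j w h, IsClosedImmersion.lift_fac _ _ _⟩
  · rintro ⟨d, rfl⟩
    exact Scheme.Hom.le_ker_comp d j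

/-- A pullback square over the chart makes the immersion invariant. -/
theorem FInvariant.of_isPullback {X Z : Sp S} {U : Over S} {p : (yon S).obj U ⟶ X} {Z' : Scheme.{u}}
    {i' : Z' ⟶ U.left} {i : Z ⟶ X} {q : (yon S).obj (Over.mk (i' ≫ U.hom)) ⟶ Z}
    (sq : IsPullback q ((yon S).map (Over.homMk i' rfl : Over.mk (i' ≫ U.hom) ⟶ U)) i p) :
    FInvariant p i' := by
  rintro W w₁ w₂ h ⟨d, hd⟩
  have hdw : d ≫ (i' ≫ U.hom) = W.hom := by
    rw [← Category.assoc, hd, Over.w]
  have hd' : (Over.homMk d hdw : W ⟶ Over.mk (i' ≫ U.hom)) ≫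
      (Over.homMk i' rfl : Over.mk (i' ≫ U.hom) ⟶ U) = w₁ := by
    apply Over.OverMorphism.ext
    exact hd
  obtain ⟨l, hl1, hl2⟩ := sq.exists_lift
    ((yon S).map (Over.homMk d hdw : W ⟶ Over.mk (i' ≫ U.hom)) ≫ q) ((yon S).map w₂) (by
    rw [Category.assoc, sq.w, ← Category.assoc, ← Functor.map_comp, hd', h])
  obtain ⟨l', rfl⟩ := (yon S).map_surjective l
  refine ⟨l'.left, ?_⟩
  rw [← Functor.map_comp] at hl2
  have h3 := (yon S).map_injective hl2
  exact congrArg CommaMorphism.left h3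

/-- Transport a pullback square along an isomorphism of the chart. -/
theorem isPullback_of_over_iso {X Z : Sp S} {U V V' : Over S} {p : (yon S).obj U ⟶ X} {i : Z ⟶ X}
    {q : (yon S).obj V ⟶ Z} {j : V ⟶ U} (sq : IsPullback q ((yon S).map j) i p) (θ : V' ≅ V)
    (j' : V' ⟶ U) (h : θ.hom ≫ j = j') :
    IsPullback ((yon S).map θ.hom ≫ q) ((yon S).map j') i p := by
  subst h
  refine sq.of_iso ((yon S).mapIso θ).symm (Iso.refl _) (Iso.refl _) (Iso.refl _) ?_ ?_ ?_ ?_
  · rw [Iso.refl_hom, Category.comp_id, Iso.symm_hom, Functor.mapIso_inv, ← Category.assoc,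
      ← Functor.map_comp, Iso.inv_hom_id, CategoryTheory.Functor.map_id, Category.id_comp]
  · rw [Iso.refl_hom, Category.comp_id, Iso.symm_hom, Functor.mapIso_inv, ← Functor.map_comp,
      Iso.inv_hom_id_assoc]
  · simp
  · simp

/-- The coborder of the range of an invariant immersion is saturated. -/
theorem FInvariant.saturated_coborder {X : Sp S} {U : Over S} {p : (yon S).obj U ⟶ X}
    (hpe : RepWith @Etale p) {Z' : Scheme.{u}} {i' : Z' ⟶ U.left} [IsImmersion i']
    (hinv : FInvariant p i') (u : ↥U.left)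
    (hu : Points.ofPt p u ∈ Points.ofPt p '' (i'.coborderRange : Set ↥U.left)) :
    u ∈ i'.coborderRange := by
  have hsatA : Set.range i' = Points.ofPt p ⁻¹' (Points.ofPt p '' Set.range i') := by
    apply Set.Subset.antisymm
    · exact Set.subset_preimage_image _ _
    · intro u hu
      exact hinv.saturated hpe u hu
  have hcob : coborder (Set.range i') =
      Points.ofPt p ⁻¹' coborder (Points.ofPt p '' Set.range i') := by
    rw [← coborder_preimage (isOpenMap_ofPt_of_etale p hpe) (Points.continuous_ofPt p), ← hsatA]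
  obtain ⟨u', hu', h⟩ := hu
  have h1 : u' ∈ coborder (Set.range i') := hu'
  rw [hcob, Set.mem_preimage, h] at h1
  have h2 : u ∈ Points.ofPt p ⁻¹' coborder (Points.ofPt p '' Set.range i') := h1
  rw [← hcob] at h2
  exact h2

/-- The chart of the closed subscheme of an open subscheme cut out by a closed immersion. -/
theorem exists_over_iso_vOver {U : Over S} {Z' : Scheme.{u}} (i' : Z' ⟶ U.left) (W₀ : U.left.Opens)
    (j : Z' ⟶ (W₀ : Scheme.{u})) [IsClosedImmersion j] (hj : j ≫ W₀.ι = i') :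
    ∃ θ : Over.mk (i' ≫ U.hom) ≅ vOver (opensOver U W₀) j.ker,
      θ.hom ≫ (vOverι (opensOver U W₀) j.ker ≫ opensOverι U W₀) =
        (Over.homMk i' rfl : Over.mk (i' ≫ U.hom) ⟶ U) := by
  have h1 : j.toImage ≫ (j.imageι ≫ (W₀.ι ≫ U.hom)) = i' ≫ U.hom := by
    rw [← Category.assoc, j.toImage_imageι, ← Category.assoc, hj]
  refine ⟨Over.isoMk (asIso j.toImage) h1, ?_⟩
  apply Over.OverMorphism.ext
  change j.toImage ≫ j.imageι ≫ W₀.ι = i'
  rw [← Category.assoc, j.toImage_imageι, hj]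

/-- An invariant closed subscheme of a saturated open subscheme of an etale surjective chart descends to a
locally closed subspace. -/
theorem exists_subspace_of_closed_in_open {X : Sp S} {U : Over S} (p : (yon S).obj U ⟶ X)
    (hpe : RepWith @Etale p) (hps : RepWith @Surjective p)
    {Z' : Scheme.{u}} (i' : Z' ⟶ U.left) (hinv : FInvariant p i') (W₀ : U.left.Opens)
    (hsat : ∀ u : ↥U.left, Points.ofPt p u ∈ Points.ofPt p '' (W₀ : Set ↥U.left) → u ∈ W₀)
    (j : Z' ⟶ (W₀ : Scheme.{u})) [IsClosedImmersion j] (hj : j ≫ W₀.ι = i') :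
    ∃ (Z : Sp S) (i : Z ⟶ X) (q : (yon S).obj (Over.mk (i' ≫ U.hom)) ⟶ Z),
      Mono i ∧ RepWith @IsImmersion i ∧
      IsPullback q ((yon S).map (Over.homMk i' rfl : Over.mk (i' ≫ U.hom) ⟶ U)) i p := by
  obtain ⟨a₁, sqO⟩ := exists_isPullback_openSubι_of_saturated p hpe W₀ hsat
  have hO : IsOpen (Points.ofPt p '' (W₀ : Set ↥U.left)) :=
    isOpenMap_ofPt_of_etale p hpe _ W₀.isOpen
  have ha₁e : RepWith @Etale a₁ := repWith_fst_of_isPullback sqO hpe
  have ha₁s : RepWith @Surjective a₁ := repWith_fst_of_isPullback sqO hps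
  have hfacI : ∀ {W : Over S} (w : W ⟶ opensOver U W₀),
      j.ker ≤ w.left.ker ↔ ∃ d : W.left ⟶ Z', d ≫ i' = (w ≫ opensOverι U W₀).left := by
    intro W w
    rw [le_ker_iff_factors_of_closedImmersion]
    constructor
    · rintro ⟨d, hd⟩
      refine ⟨d, ?_⟩
      show d ≫ i' = w.left ≫ W₀.ι
      rw [← hj, ← Category.assoc, hd]
    · rintro ⟨d, hd⟩
      refine ⟨d, ?_⟩
      rw [← cancel_mono W₀.ι, Category.assoc, hj]
      exact hd
  have hI : Invariant a₁ j.ker := by
    intro W w₁ w₂ h h1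
    rw [hfacI] at h1 ⊢
    refine hinv (w₁ ≫ opensOverι U _) (w₂ ≫ opensOverι U _) ?_ h1
    rw [Functor.map_comp, Functor.map_comp, Category.assoc, Category.assoc, ← sqO.w,
      ← Category.assoc, ← Category.assoc, h]
  have hC : RepWith @IsClosedImmersion (closedSubι a₁ j.ker) :=
    repWith_isClosedImmersion_closedSubι ha₁e ha₁s hI
  have hOp : RepWith @IsOpenImmersion (openSubι X (Points.ofPt p '' (W₀ : Set ↥U.left))) :=
    repWith_isOpenImmersion_openSubι hO
  have hmult := AlgSp.repWith_isMultiplicative (S := S) @IsImmersion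
  have hi : RepWith @IsImmersion (closedSubι a₁ j.ker ≫
      openSubι X (Points.ofPt p '' (W₀ : Set ↥U.left))) :=
    (RepWith @IsImmersion).comp_mem _ _
      (repWith_mono (fun _ _ g hg => by have := hg; infer_instance) hC)
      (repWith_mono (fun _ _ g hg => by have := hg; infer_instance) hOp)
  have sqP := (isPullback_closedSub hI).paste_vert sqO
  rw [← Functor.map_comp] at sqP
  obtain ⟨θ, hθ⟩ := exists_over_iso_vOver i' W₀ j hj
  exact ⟨closedSub a₁ j.ker, closedSubι a₁ j.ker ≫ openSubι X (Points.ofPt p '' (W₀ : Set ↥U.left)),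
    (yon S).map θ.hom ≫ closedSubπ a₁ j.ker, mono_comp _ _, hi,
    isPullback_of_over_iso sqP θ _ hθ⟩

/-- An invariant immersion into an etale surjective chart descends to a locally closed subspace. -/
theorem exists_locallyClosed_subspace_aux {X : Sp S} {U : Over S} (p : (yon S).obj U ⟶ X)
    (hpe : RepWith @Etale p) (hps : RepWith @Surjective p)
    {Z' : Scheme.{u}} (i' : Z' ⟶ U.left) [IsImmersion i'] (hinv : FInvariant p i') :
    ∃ (Z : Sp S) (i : Z ⟶ X) (q : (yon S).obj (Over.mk (i' ≫ U.hom)) ⟶ Z),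
      Mono i ∧ RepWith @IsImmersion i ∧
      IsPullback q ((yon S).map (Over.homMk i' rfl : Over.mk (i' ≫ U.hom) ⟶ U)) i p :=
  exists_subspace_of_closed_in_open p hpe hps i' hinv i'.coborderRange
    (fun u hu => hinv.saturated_coborder hpe u hu) i'.liftCoborder i'.liftCoborder_ι

/-- A subsheaf whose pullback to an etale surjective chart is a closed subscheme is a closed subspace. -/
theorem repWith_isClosedImmersion_of_isPullback {X Z : Sp S} {U : Over S} (p : (yon S).obj U ⟶ X)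
    (hpe : RepWith @Etale p) (hps : RepWith @Surjective p) {Z' : Scheme.{u}} (i' : Z' ⟶ U.left)
    [IsClosedImmersion i'] (i : Z ⟶ X) [Mono i] (q : (yon S).obj (Over.mk (i' ≫ U.hom)) ⟶ Z)
    (sq : IsPullback q ((yon S).map (Over.homMk i' rfl : Over.mk (i' ≫ U.hom) ⟶ U)) i p) :
    RepWith @IsClosedImmersion i := by
  haveI : Epi p := epi_of_etale_surjective p hpe hps
  have hinv : FInvariant p i' := FInvariant.of_isPullback sq
  have hIU : Invariant p i'.ker := by
    intro W w₁ w₂ h h1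
    rw [le_ker_iff_factors_of_closedImmersion] at h1 ⊢
    exact hinv w₁ w₂ h h1
  have h1 : i'.toImage ≫ (i'.imageι ≫ U.hom) = i' ≫ U.hom := by
    rw [← Category.assoc, i'.toImage_imageι]
  have hθ₂ : (Over.isoMk (asIso i'.toImage) h1 : Over.mk (i' ≫ U.hom) ≅ vOver U i'.ker).hom ≫
      vOverι U i'.ker = (Over.homMk i' rfl : Over.mk (i' ≫ U.hom) ⟶ U) := by
    apply Over.OverMorphism.ext
    exact i'.toImage_imageι
  obtain ⟨ε, hε⟩ := exists_iso_of_isPullback_of_epi p i (closedSubι p i'.ker) sq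
    (isPullback_closedSub hIU)
    ((yon S).mapIso (Over.isoMk (asIso i'.toImage) h1 : Over.mk (i' ≫ U.hom) ≅ vOver U i'.ker)) (by
      rw [Functor.mapIso_hom, ← Functor.map_comp, hθ₂])
  rw [← hε]
  exact ((RepWith @IsClosedImmersion).cancel_left_of_respectsIso ε.hom _).2
    (repWith_isClosedImmersion_closedSubι hpe hps hIU)

/-- A subsheaf whose pullback to an etale surjective chart is an open subscheme is an open subspace. -/
theorem repWith_isOpenImmersion_of_isPullback {X Z : Sp S} {U : Over S} (p : (yon S).obj U ⟶ X)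
    (hpe : RepWith @Etale p) (hps : RepWith @Surjective p) {Z' : Scheme.{u}} (i' : Z' ⟶ U.left)
    [IsOpenImmersion i'] (i : Z ⟶ X) [Mono i] (q : (yon S).obj (Over.mk (i' ≫ U.hom)) ⟶ Z)
    (sq : IsPullback q ((yon S).map (Over.homMk i' rfl : Over.mk (i' ≫ U.hom) ⟶ U)) i p) :
    RepWith @IsOpenImmersion i := by
  haveI : Epi p := epi_of_etale_surjective p hpe hps
  have hinv : FInvariant p i' := FInvariant.of_isPullback sq
  have hsat₁ : ∀ u : ↥U.left,
      Points.ofPt p u ∈ Points.ofPt p '' (i'.opensRange : Set ↥U.left) → u ∈ i'.opensRange := by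
    intro u hu
    exact hinv.saturated hpe u hu
  obtain ⟨a₃, sq₃⟩ := exists_isPullback_openSubι_of_saturated p hpe i'.opensRange hsat₁
  have hO₃ : IsOpen (Points.ofPt p '' (i'.opensRange : Set ↥U.left)) :=
    isOpenMap_ofPt_of_etale p hpe _ i'.opensRange.isOpen
  have h1 : i'.isoOpensRange.hom ≫ (i'.opensRange.ι ≫ U.hom) = i' ≫ U.hom := by
    rw [← Category.assoc, i'.isoOpensRange_hom_ι]
  have hθ₃ : (Over.isoMk i'.isoOpensRange h1 :
      Over.mk (i' ≫ U.hom) ≅ opensOver U i'.opensRange).hom ≫ opensOverι U i'.opensRange =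
      (Over.homMk i' rfl : Over.mk (i' ≫ U.hom) ⟶ U) := by
    apply Over.OverMorphism.ext
    exact i'.isoOpensRange_hom_ι
  obtain ⟨ε, hε⟩ := exists_iso_of_isPullback_of_epi p i
    (openSubι X (Points.ofPt p '' (i'.opensRange : Set ↥U.left))) sq sq₃
    ((yon S).mapIso (Over.isoMk i'.isoOpensRange h1 :
      Over.mk (i' ≫ U.hom) ≅ opensOver U i'.opensRange))
    (by rw [Functor.mapIso_hom, ← Functor.map_comp, hθ₃])
  rw [← hε]
  exact ((RepWith @IsOpenImmersion).cancel_left_of_respectsIso ε.hom _).2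
    (repWith_isOpenImmersion_openSubι hO₃)

/-- A subsheaf whose pullback to an etale surjective chart is a locally closed subscheme is a locally
closed subspace. -/
theorem repWith_isImmersion_of_isPullback {X Z : Sp S} {U : Over S} (p : (yon S).obj U ⟶ X)
    (hpe : RepWith @Etale p) (hps : RepWith @Surjective p) {Z' : Scheme.{u}} (i' : Z' ⟶ U.left)
    [IsImmersion i'] (i : Z ⟶ X) [Mono i] (q : (yon S).obj (Over.mk (i' ≫ U.hom)) ⟶ Z)
    (sq : IsPullback q ((yon S).map (Over.homMk i' rfl : Over.mk (i' ≫ U.hom) ⟶ U)) i p) :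
    RepWith @IsImmersion i := by
  haveI : Epi p := epi_of_etale_surjective p hpe hps
  obtain ⟨Z₂, i₂, q₂, hm, hi, sq₂⟩ :=
    exists_locallyClosed_subspace_aux p hpe hps i' (FInvariant.of_isPullback sq)
  haveI := hm
  obtain ⟨ε, hε⟩ := exists_iso_of_isPullback_of_epi p i i₂ sq sq₂ (Iso.refl _)
    (by rw [Iso.refl_hom, Category.id_comp])
  rw [← hε]
  exact ((RepWith @IsImmersion).cancel_left_of_respectsIso ε.hom _).2 hi

/-- An invariant immersion into an etale surjective chart descends to a locally closed subspace, closed or open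
when the immersion is. -/
theorem exists_locallyClosed_subspace {X : Sp S} {U : Over S} (p : (yon S).obj U ⟶ X)
    (hpe : RepWith @Etale p) (hps : RepWith @Surjective p)
    {Z' : Scheme.{u}} (i' : Z' ⟶ U.left) [IsImmersion i'] (hinv : FInvariant p i') :
    ∃ (Z : Sp S) (i : Z ⟶ X) (q : (yon S).obj (Over.mk (i' ≫ U.hom)) ⟶ Z),
      Mono i ∧ RepWith @IsImmersion i ∧
      IsPullback q ((yon S).map (Over.homMk i' rfl : Over.mk (i' ≫ U.hom) ⟶ U)) i p ∧
      (IsClosedImmersion i' → RepWith @IsClosedImmersion i) ∧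
      (IsOpenImmersion i' → RepWith @IsOpenImmersion i) := by
  obtain ⟨Z, i, q, hm, hi, sq⟩ := exists_locallyClosed_subspace_aux p hpe hps i' hinv
  haveI := hm
  exact ⟨Z, i, q, hm, hi, sq,
    fun _ => repWith_isClosedImmersion_of_isPullback p hpe hps i' i q sq,
    fun _ => repWith_isOpenImmersion_of_isPullback p hpe hps i' i q sq⟩

end Groth.Agent.H50
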