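import Groth.Agent.H50.Where2
import Groth.Agent.H50.Etale

/-!
# helper50: diagonal plumbing for the "where a base change has a property" results
-/

set_option autoImplicit false
universe u
open CategoryTheory CategoryTheory.Limits AlgebraicGeometry Opposite

namespace Groth.Agent.H50

section Cat

universe v₁ u₁
variable {C : Type u₁} [Category.{v₁} C]

/-- For `X' = X ×_Y Y'`, the fibre square `X' ×_{Y'} X'` is `(X ×_Y X) ×_{pr0, X} X'`. -/
theorem isPullback_fibreSquare {X Y X' Y' XX XX' : C} {f : X ⟶ Y} {f' : X' ⟶ Y'} {gX : X' ⟶ X}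
    {gY : Y' ⟶ Y} (sq2 : IsPullback gX f' f gY) {pr0 pr1 : XX ⟶ X} (hXX : IsPullback pr0 pr1 f f)
    {fst' snd' : XX' ⟶ X'} (hXX' : IsPullback fst' snd' f' f') (e : XX' ⟶ XX)
    (he0 : e ≫ pr0 = fst' ≫ gX) (he1 : e ≫ pr1 = snd' ≫ gX) :
    IsPullback e fst' pr0 gX := by
  have big : IsPullback (snd' ≫ gX) fst' f (f' ≫ gY) := hXX'.flip.paste_horiz sq2
  have big' : IsPullback (e ≫ pr1) fst' f (gX ≫ f) := by rw [he1, sq2.w]; exact big
  exact IsPullback.of_right big' he0 hXX.flip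

/-- The diagonal of the base change is the base change of the diagonal. -/
theorem isPullback_diagonal_of_fibreSquare {X X' XX XX' : C} {gX : X' ⟶ X} {pr0 : XX ⟶ X}
    {fst' : XX' ⟶ X'} {e : XX' ⟶ XX} (sqE : IsPullback e fst' pr0 gX) {Δ : X ⟶ XX} {Δ' : X' ⟶ XX'}
    (hΔ0 : Δ ≫ pr0 = 𝟙 X) (hΔ'0 : Δ' ≫ fst' = 𝟙 X') (hcomm : Δ' ≫ e = gX ≫ Δ) :
    IsPullback Δ' gX e Δ := by
  have big : IsPullback (Δ' ≫ fst') gX gX (Δ ≫ pr0) := by
    rw [hΔ0, hΔ'0]; exact IsPullback.of_id_fst
  exact IsPullback.of_right big hcomm sqE.flip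

/-- Both squares at once, for the chosen pullback `pullback f' f'`. -/
theorem exists_fibreSquare_map [HasPullbacks C] {X Y X' Y' XX : C} {f : X ⟶ Y} {f' : X' ⟶ Y'}
    {gX : X' ⟶ X} {gY : Y' ⟶ Y} (sq2 : IsPullback gX f' f gY) {pr0 pr1 : XX ⟶ X}
    (hXX : IsPullback pr0 pr1 f f) :
    ∃ e : pullback f' f' ⟶ XX, e ≫ pr0 = pullback.fst f' f' ≫ gX ∧
      e ≫ pr1 = pullback.snd f' f' ≫ gX ∧
      IsPullback e (pullback.fst f' f') pr0 gX ∧
      IsPullback (pullback.diagonal f') gX e (hXX.lift (𝟙 _) (𝟙 _) rfl) := by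
  have hw : (pullback.fst f' f' ≫ gX) ≫ f = (pullback.snd f' f' ≫ gX) ≫ f := by
    rw [Category.assoc, Category.assoc, sq2.w, ← Category.assoc, ← Category.assoc,
      pullback.condition]
  let e : pullback f' f' ⟶ XX := hXX.lift (pullback.fst f' f' ≫ gX) (pullback.snd f' f' ≫ gX) hw
  have he0 : e ≫ pr0 = pullback.fst f' f' ≫ gX := hXX.lift_fst _ _ _
  have he1 : e ≫ pr1 = pullback.snd f' f' ≫ gX := hXX.lift_snd _ _ _
  have sqE := isPullback_fibreSquare sq2 hXX (IsPullback.of_hasPullback f' f') e he0 he1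
  have hΔ0 : hXX.lift (𝟙 _) (𝟙 _) rfl ≫ pr0 = 𝟙 X := hXX.lift_fst _ _ _
  have hΔ1 : hXX.lift (𝟙 _) (𝟙 _) rfl ≫ pr1 = 𝟙 X := hXX.lift_snd _ _ _
  have hcomm : pullback.diagonal f' ≫ e = gX ≫ hXX.lift (𝟙 _) (𝟙 _) rfl := by
    apply hXX.hom_ext
    · rw [Category.assoc, he0, ← Category.assoc, pullback.diagonal_fst, Category.id_comp,
        Category.assoc, hΔ0, Category.comp_id]
    · rw [Category.assoc, he1, ← Category.assoc, pullback.diagonal_snd, Category.id_comp,
        Category.assoc, hΔ1, Category.comp_id]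
  exact ⟨e, he0, he1, sqE,
    isPullback_diagonal_of_fibreSquare sqE hΔ0 (pullback.diagonal_fst f') hcomm⟩

end Cat

open AlgSp Groth.Agent.H52

variable {S : Scheme.{u}}

/-- A representable open immersion of algebraic spaces is open on points. -/
theorem isOpenMap_map_of_repWith_isOpenImmersion {X' X : AlgSp.Space S} (j : X' ⟶ X)
    (hj : AlgSp.RepWith @IsOpenImmersion j.hom) : IsOpenMap (AlgSp.Points.map j.hom) := by
  have h1 : AlgSp.RepWith @Flat j.hom :=
    repWith_mono (fun _ _ g hg => by haveI : IsOpenImmersion g := hg; infer_instance) hj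
  have h2 : AlgSp.RepWith @LocallyOfFinitePresentation j.hom :=
    repWith_mono (fun _ _ g hg => by haveI : IsOpenImmersion g := hg; infer_instance) hj
  have hfl : AlgSp.LocP @Flat j.hom :=
    locP_of_repWith (fun _ _ g hg => by haveI : Etale g := hg; infer_instance) h1
  have hfp : AlgSp.LocP @LocallyOfFinitePresentation j.hom :=
    locP_of_repWith (fun _ _ g hg => by haveI : Etale g := hg; infer_instance) h2
  exact Groth.Agent.S9962.result j hfl hfp X.property (𝟙 _) (𝟙 _) j.hom IsPullback.of_id_fst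

/-- The open subspace attached to an open subset of the points of an algebraic space, with its universal property
and its set of points. -/
theorem exists_openSub_space' (Z : AlgSp.Space S) (Wset : Set (AlgSp.Points Z.obj)) (hW : IsOpen Wset) :
    ∃ (W : AlgSp.Space S) (w : W ⟶ Z), AlgSp.RepWith @IsOpenImmersion w.hom ∧
      Set.range (AlgSp.Points.map w.hom) = Wset ∧
      ∀ (Z' : AlgSp.Space S) (g : Z' ⟶ Z),
        (∃ k : Z' ⟶ W, k ≫ w = g) ↔ Set.range (AlgSp.Points.map g.hom) ⊆ Wset := by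
  let Wsp : AlgSp.Space S := ⟨openSub Z.obj Wset, isAlgSpace_openSub hW Z.property⟩
  let w : Wsp ⟶ Z := ObjectProperty.homMk (openSubι Z.obj Wset)
  have hw : AlgSp.RepWith @IsOpenImmersion w.hom := repWith_isOpenImmersion_openSubι hW
  have hr : Set.range (AlgSp.Points.map w.hom) = Wset := range_map_openSubι Z.obj Wset
  refine ⟨Wsp, w, hw, hr, fun Z' g => ?_⟩
  rw [Groth.Agent.S10194.result w hw g, hr]

end Groth.Agent.H50
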