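import Groth.Agent.S10191
import Groth.Agent.S9888
import Groth.Agent.H50.Where3
import Groth.Agent.H50.Basic
import Groth.Agent.H52.Topology
import Groth.Agent.H52.Points

/-!
# helper50: an immersion of algebraic spaces is a closed immersion into an open subspace
-/

set_option autoImplicit false
universe u
open CategoryTheory CategoryTheory.Limits AlgebraicGeometry Opposite Topology

namespace Groth.Agent.H50

open AlgSp

theorem exists_closed_open_factorization {S : Scheme.{u}} {Z X : AlgSp.Space S} (i : Z ⟶ X)
    (hi : RepWith @IsImmersion i.hom) :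
    ∃ (V : AlgSp.Space S) (c : Z ⟶ V) (v : V ⟶ X), c ≫ v = i ∧
      RepWith @IsClosedImmersion c.hom ∧ RepWith @IsOpenImmersion v.hom := by
  obtain ⟨-, hA⟩ := Groth.Agent.S10191.result i hi
  have hopen : IsOpen (coborder (Set.range (Points.map i.hom))) :=
    isLocallyClosed_iff_isOpen_coborder.1 hA
  obtain ⟨V, v, hv, hrange, huniv⟩ := exists_openSub_space' X _ hopen
  obtain ⟨c, hc⟩ := (huniv Z i).2 subset_coborder
  refine ⟨V, c, v, hc, ?_, hv⟩
  have hch : c.hom ≫ v.hom = i.hom := by rw [← hc]; rfl
  have hvI : RepWith @IsImmersion v.hom :=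
    repWith_mono (fun _ _ g (hg : IsOpenImmersion g) => (inferInstance : IsImmersion g)) hv
  have hvinj : Function.Injective (Points.map v.hom) :=
    (Groth.Agent.S10191.result v hvI).1.injective
  have hcI : RepWith @IsImmersion c.hom :=
    Groth.Agent.S9888.result S X.obj Z.obj V.obj X.property i.hom v.hom @IsImmersion hi hvI c.hom
      hch
  have hcl : IsClosed (Set.range (Points.map c.hom)) := by
    have e : Set.range (Points.map c.hom) =
        Points.map v.hom ⁻¹' closure (Set.range (Points.map i.hom)) := by
      ext y
      constructor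
      · rintro ⟨z, rfl⟩
        apply subset_closure
        refine ⟨z, ?_⟩
        rw [← hch, Points.map_comp]
      · intro hy
        have h1 : Points.map v.hom y ∈ coborder (Set.range (Points.map i.hom)) := by
          rw [← hrange]; exact ⟨y, rfl⟩
        have h2 : Points.map v.hom y ∈ Set.range (Points.map i.hom) := by
          have h3 := coborder_inter_closure (s := Set.range (Points.map i.hom))
          rw [← h3]; exact ⟨h1, hy⟩
        obtain ⟨z, hz⟩ := h2
        refine ⟨z, hvinj ?_⟩
        rw [← Points.map_comp, hch, hz]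
    rw [e]
    exact isClosed_closure.preimage (Points.continuous_map v.hom)
  refine ⟨hcI.1, fun T W t fst snd sq => ?_⟩
  have : IsImmersion snd.left := hcI.2 t fst snd sq
  have e : Set.range snd.left = Points.ofPt t ⁻¹' Set.range (Points.map c.hom) := by
    ext τ
    constructor
    · rintro ⟨ω, rfl⟩
      refine ⟨Points.ofPt fst ω, ?_⟩
      rw [Points.map_ofPt, sq.w, Groth.Agent.H52.ofPt_yon_map_comp]
    · rintro ⟨z, hz⟩
      rw [Points.ofPt_eq_map_ofScheme] at hz
      obtain ⟨π, hπ1, hπ2⟩ := Groth.Agent.H52.exists_point_of_isPullback sq z _ hz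
      obtain ⟨ω, rfl⟩ := (Points.schemeEquiv W).surjective π
      change Points.map _ (Points.ofScheme W ω) = _ at hπ2
      rw [Groth.Agent.H52.map_yon_map_ofScheme] at hπ2
      exact ⟨ω, Groth.Agent.H52.ofScheme_injective T hπ2⟩
  refine IsClosedImmersion.of_isPreimmersion snd.left ?_
  rw [e]
  exact hcl.preimage (Points.continuous_ofPt t)

end Groth.Agent.H50
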