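import Groth.Agent.H50.ClosedDesc
import Mathlib.AlgebraicGeometry.Morphisms.SchemeTheoreticallyDominant

/-!
# helper50: kernels of quasi-compact morphisms and flat base change; invariance of kernels on etale charts
-/

set_option autoImplicit false
universe u
open CategoryTheory CategoryTheory.Limits AlgebraicGeometry Opposite

namespace Groth.Agent.H50

open AlgSp Groth.Agent.H52

variable {S : Scheme.{u}}

/-- The morphism to the scheme theoretic image has trivial kernel. -/
theorem ker_toImage_eq_bot {X Y : Scheme.{u}} (f : X ⟶ Y) : f.toImage.ker = ⊥ := by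
  have h1 : (f.toImage.imageι ≫ f.imageι).ker ≤ f.ker := by
    have := Scheme.Hom.le_ker_comp f.toImage.toImage (f.toImage.imageι ≫ f.imageι)
    rwa [← Category.assoc, f.toImage.toImage_imageι, f.toImage_imageι] at this
  have h2 : f.imageι.ker ≤ (f.toImage.imageι ≫ f.imageι).ker := Scheme.Hom.le_ker_comp _ _
  have h3 : (f.toImage.imageι ≫ f.imageι).ker = f.imageι.ker := by
    refine le_antisymm ?_ h2
    rw [Scheme.IdealSheafData.ker_subschemeι]
    exact h1
  have : IsIso f.toImage.imageι :=
    IsClosedImmersion.isIso_of_ker_eq (f.toImage.imageι ≫ f.imageι) f.imageι f.toImage.imageι rfl h3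
  exact (Scheme.isIso_subschemeι_iff_eq_bot _).1 this

instance isSchemeTheoreticallyDominant_toImage {X Y : Scheme.{u}} (f : X ⟶ Y) :
    IsSchemeTheoreticallyDominant f.toImage := ⟨ker_toImage_eq_bot f⟩

/-- The kernel of a quasi-compact morphism commutes with flat base change. -/
theorem ker_eq_comap_of_isPullback {W U U' W' : Scheme.{u}} {f : W ⟶ U} {g : U' ⟶ U} {pW : W' ⟶ W}
    {f' : W' ⟶ U'} (sq : IsPullback pW f' f g) [QuasiCompact f] [Flat g] :
    f'.ker = f.ker.comap g := by
  have hw : f' ≫ g = (pW ≫ f.toImage) ≫ f.ker.subschemeι := by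
    rw [Category.assoc]
    exact (sq.w.symm).trans (by rw [f.toImage_imageι])
  have h1 : pullback.lift f' (pW ≫ f.toImage) hw ≫ pullback.fst g f.ker.subschemeι = f' :=
    pullback.lift_fst _ _ _
  have h2 : pullback.lift f' (pW ≫ f.toImage) hw ≫ pullback.snd g f.ker.subschemeι =
      pW ≫ f.toImage := pullback.lift_snd _ _ _
  have sq1 : IsPullback (pullback.lift f' (pW ≫ f.toImage) hw ≫ pullback.fst g f.ker.subschemeι) pW g
      (f.toImage ≫ f.imageι) := by
    rw [h1, f.toImage_imageι]
    exact sq.flip
  have sq2 : IsPullback (pullback.lift f' (pW ≫ f.toImage) hw) pW (pullback.snd g f.ker.subschemeι)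
      f.toImage := IsPullback.of_right sq1 h2 (IsPullback.of_hasPullback g f.ker.subschemeι)
  have : IsSchemeTheoreticallyDominant (pullback.lift f' (pW ≫ f.toImage) hw) :=
    IsSchemeTheoreticallyDominant.of_isPullback sq2.flip
  calc f'.ker = (pullback.lift f' (pW ≫ f.toImage) hw ≫ pullback.fst g f.ker.subschemeι).ker := by
        rw [h1]
    _ = (pullback.lift f' (pW ≫ f.toImage) hw).ker.map (pullback.fst g f.ker.subschemeι) :=
        Scheme.Hom.ker_comp _ _
    _ = (pullback.fst g f.ker.subschemeι).ker := by
        rw [Scheme.Hom.ker_eq_bot (pullback.lift f' (pW ≫ f.toImage) hw),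
          Scheme.IdealSheafData.map_bot]
    _ = f.ker.comap g := rfl

/-- The kernel of the pullback to an etale chart of a representable quasi-compact morphism is invariant under the
equivalence relation of the chart. -/
theorem invariant_ker_of_quasiCompact {X Z : Sp S} {U ZU : Over S} (a : (yon S).obj U ⟶ X)
    (ha : RepWith @Etale a) (i : Z ⟶ X) (hi : Representable i) (iU : ZU ⟶ U)
    (top : (yon S).obj ZU ⟶ Z) (sq0 : IsPullback top ((yon S).map iU) i a) [QuasiCompact iU.left] :
    Invariant a iU.left.ker := by
  have hrepa : Representable a := ha.rep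
  obtain ⟨s, hs⟩ := (yon S).map_surjective (hrepa.fst a)
  have hR : IsPullback ((yon S).map s) ((yon S).map (hrepa.snd a)) a a := by
    rw [hs]
    exact hrepa.isPullback a
  haveI hEs : Etale s.left := ha.property a _ s hR.flip
  haveI hEt : Etale (hrepa.snd a).left := ha.property_snd a
  refine invariant_of_comap_eq s (hrepa.snd a) hR ?_
  have sqR := hi.isPullback ((yon S).map s ≫ a)
  have key : ∀ (r : hrepa.pullback a ⟶ U), (yon S).map r ≫ a = (yon S).map s ≫ a → Flat r.left →
      (hi.snd ((yon S).map s ≫ a)).left.ker = iU.left.ker.comap r.left := by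
    intro r hr hfl
    haveI := hfl
    have sqR' : IsPullback (hi.fst ((yon S).map s ≫ a))
        ((yon S).map (hi.snd ((yon S).map s ≫ a))) i ((yon S).map r ≫ a) := by
      rw [hr]
      exact sqR
    obtain ⟨l, hl1, hl2⟩ := sq0.exists_lift (hi.fst ((yon S).map s ≫ a))
      ((yon S).map (hi.snd ((yon S).map s ≫ a)) ≫ (yon S).map r) (by
        rw [sqR'.w, Category.assoc])
    have sqL : IsPullback l ((yon S).map (hi.snd ((yon S).map s ≫ a))) ((yon S).map iU)
        ((yon S).map r) :=
      IsPullback.of_right (by rw [hl1]; exact sqR') hl2 sq0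
    obtain ⟨l', rfl⟩ := (yon S).map_surjective l
    have sqO : IsPullback l' (hi.snd ((yon S).map s ≫ a)) iU r :=
      IsPullback.of_map (yon S) (by
        apply (yon S).map_injective
        rw [Functor.map_comp, Functor.map_comp]
        exact hl2) sqL
    have sqS := sqO.map (Over.forget S)
    exact ker_eq_comap_of_isPullback sqS
  rw [← key s rfl inferInstance, ← key (hrepa.snd a) hR.w.symm inferInstance]

end Groth.Agent.H50
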