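import Groth.Agent.H50.Descent
import Mathlib.AlgebraicGeometry.Morphisms.FinitePresentation
import Mathlib.AlgebraicGeometry.Morphisms.FiniteType

set_option autoImplicit false
universe u v
open CategoryTheory CategoryTheory.Limits AlgebraicGeometry Opposite MorphismProperty

namespace Groth.Agent.H50

set_option backward.isDefEq.respectTransparency.types false in
/-- If `f ≫ g` is locally of finite presentation and `g` is locally of finite type, then `f` is
locally of finite presentation. -/
theorem lfp_of_comp_of_lft {X Y Z : Scheme.{u}} (f : X ⟶ Y) (g : Y ⟶ Z)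
    (h : LocallyOfFinitePresentation (f ≫ g)) (hg : LocallyOfFiniteType g) :
    LocallyOfFinitePresentation f := by
  wlog hZ : IsAffine Z generalizing X Y Z
  · rw [IsZariskiLocalAtTarget.iff_of_iSup_eq_top (P := @LocallyOfFinitePresentation) _
      (g.iSup_preimage_eq_top (iSup_affineOpens_eq_top Z))]
    intro U
    have H := IsZariskiLocalAtTarget.restrict h U.1
    rw [morphismRestrict_comp] at H
    exact this _ _ H (IsZariskiLocalAtTarget.restrict hg U.1) inferInstance
  wlog hY : IsAffine Y generalizing X Y
  · rw [IsZariskiLocalAtTarget.iff_of_iSup_eq_top (P := @LocallyOfFinitePresentation) _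
      (iSup_affineOpens_eq_top Y)]
    intro U
    have H := HasRingHomProperty.comp_of_isOpenImmersion @LocallyOfFinitePresentation
      (f ⁻¹ᵁ U.1).ι (f ≫ g) h
    rw [← morphismRestrict_ι_assoc] at H
    exact this _ _ H (inferInstance : LocallyOfFiniteType (U.1.ι ≫ g)) inferInstance
  wlog hX : IsAffine X generalizing X
  · rw [IsZariskiLocalAtSource.iff_of_iSup_eq_top (P := @LocallyOfFinitePresentation) _
      (iSup_affineOpens_eq_top X)]
    intro U
    have H := HasRingHomProperty.comp_of_isOpenImmersion @LocallyOfFinitePresentation
      U.1.ι (f ≫ g) h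
    rw [← Category.assoc] at H
    exact this _ H inferInstance
  rw [HasRingHomProperty.iff_of_isAffine (P := @LocallyOfFinitePresentation)] at h ⊢
  rw [HasRingHomProperty.iff_of_isAffine (P := @LocallyOfFiniteType)] at hg
  rw [Scheme.Hom.comp_appTop, CommRingCat.hom_comp] at h
  exact RingHom.FinitePresentation.of_comp_finiteType _ h hg

/-- The fibre product `X ×_Y X` is the base change of the diagonal of `Y` along `f × f`. -/
theorem isPullback_prod_diag {C : Type u} [Category.{v} C] [HasPullbacks C] [HasBinaryProducts C]
    {X Y : C} (f : X ⟶ Y) :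
    IsPullback (prod.lift (pullback.fst f f) (pullback.snd f f)) (pullback.fst f f ≫ f)
      (prod.map f f) (Limits.diag Y) := by
  have key : ∀ s : PullbackCone (prod.map f f) (Limits.diag Y),
      (s.fst ≫ prod.fst) ≫ f = s.snd ∧ (s.fst ≫ prod.snd) ≫ f = s.snd := by
    intro s
    have h1 := congrArg (fun m => m ≫ prod.fst) s.condition
    have h2 := congrArg (fun m => m ≫ prod.snd) s.condition
    simp only [Category.assoc, prod.map_fst, prod.map_snd, prod.lift_fst, prod.lift_snd,
      Category.comp_id] at h1 h2
    exact ⟨by rw [Category.assoc]; exact h1, by rw [Category.assoc]; exact h2⟩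
  refine ⟨⟨?_⟩, ⟨PullbackCone.IsLimit.mk _
    (fun s => pullback.lift (s.fst ≫ prod.fst) (s.fst ≫ prod.snd)
      ((key s).1.trans (key s).2.symm)) ?_ ?_ ?_⟩⟩
  · apply prod.hom_ext
    · simp only [Category.assoc, prod.map_fst, prod.lift_fst, prod.lift_fst_assoc,
        Category.comp_id]
    · simp only [Category.assoc, prod.map_snd, prod.lift_snd, prod.lift_snd_assoc,
        Category.comp_id, pullback.condition]
  · intro s
    apply prod.hom_ext
    · simp only [Category.assoc, prod.lift_fst, pullback.lift_fst]
    · simp only [Category.assoc, prod.lift_snd, pullback.lift_snd]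
  · intro s
    rw [← Category.assoc, pullback.lift_fst]
    exact (key s).1
  · intro s m hm1 _
    apply pullback.hom_ext
    · rw [pullback.lift_fst, ← hm1, Category.assoc, prod.lift_fst]
    · rw [pullback.lift_snd, ← hm1, Category.assoc, prod.lift_snd]

end Groth.Agent.H50
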