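import Groth.Agent.H50.ThickLft

/-!
# helper50: a surjective closed immersion locally of finite presentation into an affine scheme has
nilpotent kernel; locally of finite type ascends along a cartesian morphism of thickenings whose
source thickening is locally of finite presentation.
-/

set_option autoImplicit false
universe u
open CategoryTheory CategoryTheory.Limits AlgebraicGeometry Opposite

namespace Groth.Agent.H50

theorem isNilpotent_ker_of_isAffine_of_lfp {U W : Scheme.{u}} (i : U ⟶ W) [IsAffine W]
    [IsClosedImmersion i] [Surjective i] [LocallyOfFinitePresentation i] :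
    IsNilpotent i.ker := by
  obtain ⟨hUaff, hsurj⟩ := IsClosedImmersion.isAffine_surjective_of_isAffine i
  haveI := hUaff
  have hfp : i.appTop.hom.FinitePresentation :=
    (HasRingHomProperty.iff_of_isAffine (P := @LocallyOfFinitePresentation)).1 inferInstance
  have hfg : (RingHom.ker i.appTop.hom).FG := by
    algebraize [i.appTop.hom]
    exact Algebra.FinitePresentation.ker_fG_of_surjective (Algebra.ofId Γ(W, ⊤) Γ(U, ⊤)) hsurj
  have hnil : RingHom.ker i.appTop.hom ≤ nilradical Γ(W, ⊤) := by
    intro x hx
    rw [mem_nilradical, Scheme.isNilpotent_iff_basicOpen_eq_bot]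
    have h1 : i ⁻¹ᵁ (W.basicOpen x) = ⊥ := by
      rw [Scheme.preimage_basicOpen_top]
      have h0 : i.appTop x = 0 := hx
      rw [h0, Scheme.basicOpen_zero]
    rw [eq_bot_iff]
    intro w hw
    obtain ⟨u, rfl⟩ := (inferInstance : Surjective i).surj w
    have h2 : u ∈ i ⁻¹ᵁ (W.basicOpen x) := hw
    rw [h1] at h2
    exact h2
  obtain ⟨n, hn⟩ := hfg.isNilpotent_iff_le_nilradical.2 hnil
  refine ⟨n, ?_⟩
  rw [Scheme.ker_of_isAffine, ← Scheme.IdealSheafData.equivOfIsAffine_symm_apply, ← map_pow,
    hn]
  exact map_zero _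

theorem lft_of_isPullback_of_lfp_source {U U' V V' : Scheme.{u}} {iU : U ⟶ U'}
    {iV : V ⟶ V'} {k : U ⟶ V} {k' : U' ⟶ V'} (sq : IsPullback iU k k' iV)
    (hV : MoreMor.IsThickening iV) (hU : MoreMor.IsThickening iU)
    [LocallyOfFinitePresentation iU] [LocallyOfFiniteType k] : LocallyOfFiniteType k' := by
  obtain ⟨hcU, hsU⟩ := hU
  have := hcU
  have := hsU
  rw [IsZariskiLocalAtSource.iff_of_openCover (P := @LocallyOfFiniteType) U'.affineCover]
  intro j
  have sqj : IsPullback (pullback.snd iU (U'.affineCover.f j)) (pullback.fst iU (U'.affineCover.f j))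
      (U'.affineCover.f j) iU := (IsPullback.of_hasPullback iU (U'.affineCover.f j)).flip
  have sq2 := sqj.paste_vert sq
  haveI : IsAffine (U'.affineCover.X j) := by
    dsimp [Scheme.affineCover]; infer_instance
  have hnil : IsNilpotent (pullback.snd iU (U'.affineCover.f j)).ker :=
    isNilpotent_ker_of_isAffine_of_lfp _
  exact lft_of_isPullback_of_finiteOrder_source sq2 hV ⟨⟨inferInstance, inferInstance⟩, hnil⟩

end Groth.Agent.H50
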