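import Groth.Prelude.Def_AlgSp4
import Groth.Agent.H50.Basic

/-! Permanence: properties of `a ≫ b` pass to `a` through the diagonal of `b` (helper50). -/

set_option autoImplicit false
universe u
open CategoryTheory CategoryTheory.Limits AlgebraicGeometry
open AlgSp

namespace Groth.Agent.H50

variable {S : Scheme.{u}}

/-- If the diagonal of `b` is representable with `Q`, `a ≫ b` is representable with `P`, and `Q`-morphisms followed
by `P`-morphisms are `P'`-morphisms, then `a` is representable with `P'`: the base change of `a` to a scheme `T`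
is the base change of the diagonal of `b` followed by the base change of `a ≫ b`. -/
theorem repWith_of_comp_of_diagonal {Q P P' : MorphismProperty Scheme.{u}} [P'.RespectsIso]
    (hQP : ∀ ⦃A B C : Scheme.{u}⦄ (k : A ⟶ B) (l : B ⟶ C), Q k → P l → P' (k ≫ l))
    {Z Y X : Sp S} (a : Z ⟶ Y) (b : Y ⟶ X) (hΔ : RepWith Q (pullback.diagonal b))
    (hab : RepWith P (a ≫ b)) : RepWith P' a := by
  refine MorphismProperty.relative.of_exists (fun T g => ?_)
  have sq₁ := hab.rep.isPullback (g ≫ b)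
  have hP : P (hab.rep.snd (g ≫ b)).left := hab.property_snd (g ≫ b)
  have hψ : (hab.rep.fst (g ≫ b) ≫ a) ≫ b = ((yon S).map (hab.rep.snd (g ≫ b)) ≫ g) ≫ b := by
    rw [Category.assoc, Category.assoc]
    exact sq₁.w
  obtain ⟨ψ, hψ1, hψ2⟩ : ∃ ψ : (yon S).obj (hab.rep.pullback (g ≫ b)) ⟶ pullback b b,
      ψ ≫ pullback.fst b b = hab.rep.fst (g ≫ b) ≫ a ∧
      ψ ≫ pullback.snd b b = (yon S).map (hab.rep.snd (g ≫ b)) ≫ g :=
    ⟨pullback.lift _ _ hψ, pullback.lift_fst _ _ _, pullback.lift_snd _ _ _⟩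
  have sq₂ := hΔ.rep.isPullback ψ
  have hQ : Q (hΔ.rep.snd ψ).left := hΔ.property_snd ψ
  have e1 : hΔ.rep.fst ψ = (yon S).map (hΔ.rep.snd ψ) ≫ hab.rep.fst (g ≫ b) ≫ a := by
    have h := sq₂.w =≫ pullback.fst b b
    rw [Category.assoc, pullback.diagonal_fst, Category.comp_id, Category.assoc, hψ1] at h
    exact h
  have e2 : hΔ.rep.fst ψ =
      (yon S).map (hΔ.rep.snd ψ) ≫ (yon S).map (hab.rep.snd (g ≫ b)) ≫ g := by
    have h := sq₂.w =≫ pullback.snd b b
    rw [Category.assoc, pullback.diagonal_snd, Category.comp_id, Category.assoc, hψ2] at h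
    exact h
  have hcone : ∀ {A : Sp S} (s : A ⟶ Z) (t : A ⟶ (yon S).obj T), s ≫ a = t ≫ g →
      ∃ l : A ⟶ (yon S).obj (hΔ.rep.pullback ψ),
        l ≫ (yon S).map (hΔ.rep.snd ψ) ≫ hab.rep.fst (g ≫ b) = s ∧
        l ≫ (yon S).map (hΔ.rep.snd ψ) ≫ (yon S).map (hab.rep.snd (g ≫ b)) = t := by
    intro A s t hst
    have h1 : s ≫ a ≫ b = t ≫ g ≫ b := by rw [← Category.assoc, hst, Category.assoc]
    have h2 : (s ≫ a) ≫ pullback.diagonal b = sq₁.lift s t h1 ≫ ψ := by
      apply pullback.hom_ext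
      · rw [Category.assoc, pullback.diagonal_fst, Category.comp_id, Category.assoc, hψ1,
          ← Category.assoc, sq₁.lift_fst]
      · rw [Category.assoc, pullback.diagonal_snd, Category.comp_id, Category.assoc, hψ2,
          ← Category.assoc, sq₁.lift_snd, hst]
    refine ⟨sq₂.lift (s ≫ a) (sq₁.lift s t h1) h2, ?_, ?_⟩
    · rw [← Category.assoc, sq₂.lift_snd, sq₁.lift_fst]
    · rw [← Category.assoc, sq₂.lift_snd, sq₁.lift_snd]
  have huniq : ∀ {A : Sp S} (m m' : A ⟶ (yon S).obj (hΔ.rep.pullback ψ)),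
      m ≫ (yon S).map (hΔ.rep.snd ψ) ≫ hab.rep.fst (g ≫ b) =
        m' ≫ (yon S).map (hΔ.rep.snd ψ) ≫ hab.rep.fst (g ≫ b) →
      m ≫ (yon S).map (hΔ.rep.snd ψ) ≫ (yon S).map (hab.rep.snd (g ≫ b)) =
        m' ≫ (yon S).map (hΔ.rep.snd ψ) ≫ (yon S).map (hab.rep.snd (g ≫ b)) → m = m' := by
    intro A m m' h1 h2
    have h3 : m ≫ (yon S).map (hΔ.rep.snd ψ) = m' ≫ (yon S).map (hΔ.rep.snd ψ) := by
      apply sq₁.hom_ext
      · simpa only [Category.assoc] using h1
      · simpa only [Category.assoc] using h2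
    apply sq₂.hom_ext _ h3
    rw [e1]
    have h4 := congrArg (· ≫ hab.rep.fst (g ≫ b) ≫ a) h3
    simpa only [Category.assoc] using h4
  refine ⟨hΔ.rep.pullback ψ, (yon S).map (hΔ.rep.snd ψ) ≫ hab.rep.fst (g ≫ b),
    hΔ.rep.snd ψ ≫ hab.rep.snd (g ≫ b), ?_, ?_⟩
  · refine ⟨⟨?_⟩, ⟨PullbackCone.IsLimit.mk _
      (fun s => (hcone s.fst s.snd s.condition).choose) ?_ ?_ ?_⟩⟩
    · rw [Functor.map_comp, Category.assoc, Category.assoc, ← e1, ← e2]
    · intro s
      exact (hcone s.fst s.snd s.condition).choose_spec.1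
    · intro s
      rw [Functor.map_comp]
      exact (hcone s.fst s.snd s.condition).choose_spec.2
    · intro s m h1 h2
      apply huniq
      · rw [(hcone s.fst s.snd s.condition).choose_spec.1]
        exact h1
      · rw [(hcone s.fst s.snd s.condition).choose_spec.2, ← Functor.map_comp]
        exact h2
  · show P' ((hΔ.rep.snd ψ).left ≫ (hab.rep.snd (g ≫ b)).left)
    exact hQP _ _ hQ hP

end Groth.Agent.H50
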