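import Groth.Agent.H50.OpenSubChart

/-!
# helper50: presentations from charts; cancellation of monomorphisms in pullback squares
-/

set_option autoImplicit false
universe u
open CategoryTheory CategoryTheory.Limits AlgebraicGeometry Opposite

namespace Groth.Agent.H50

open AlgSp Groth.Agent.H52

variable {S : Scheme.{u}}

/-- Cancel a monomorphism from both legs of the cospan of a pullback square. -/
theorem isPullback_of_comp_mono {C : Type*} [Category C] {P X Y Z W : C} {fst : P ⟶ X} {snd : P ⟶ Y}
    {f : X ⟶ Z} {g : Y ⟶ Z} (j : Z ⟶ W) [Mono j] (sq : IsPullback fst snd (f ≫ j) (g ≫ j)) :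
    IsPullback fst snd f g := by
  have w : fst ≫ f = snd ≫ g := by
    rw [← cancel_mono j, Category.assoc, Category.assoc]
    exact sq.w
  refine ⟨⟨w⟩, ⟨PullbackCone.IsLimit.mk w
    (fun s => sq.lift s.fst s.snd (by
      rw [← Category.assoc, s.condition, Category.assoc]))
    (fun s => sq.lift_fst _ _ _) (fun s => sq.lift_snd _ _ _)
    (fun s m h1 h2 => sq.hom_ext (h1.trans (sq.lift_fst _ _ _).symm)
      (h2.trans (sq.lift_snd _ _ _).symm))⟩⟩

/-- The fibre product of an etale chart with itself is an etale equivalence relation. -/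
theorem isEtaleEqvRel_of_isPullback {X : Sp S} {R U : Over S} (s t : R ⟶ U)
    (a : (yon S).obj U ⟶ X) (ha : RepWith @Etale a)
    (sq : IsPullback ((yon S).map t) ((yon S).map s) a a) : IsEtaleEqvRel s t where
  injective := by
    intro T r r' h1 h2
    apply (yon S).map_injective
    apply sq.hom_ext
    · rw [← Functor.map_comp, ← Functor.map_comp, h1]
    · rw [← Functor.map_comp, ← Functor.map_comp, h2]
  equivalence := by
    intro T
    have key : ∀ x y : T ⟶ U, (∃ r : T ⟶ R, r ≫ t = x ∧ r ≫ s = y) ↔
        (yon S).map x ≫ a = (yon S).map y ≫ a := by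
      intro x y
      constructor
      · rintro ⟨r, rfl, rfl⟩
        rw [Functor.map_comp, Functor.map_comp, Category.assoc, Category.assoc, sq.w]
      · intro h
        obtain ⟨r, hr⟩ := (yon S).map_surjective (sq.lift _ _ h)
        refine ⟨r, ?_, ?_⟩
        · apply (yon S).map_injective
          rw [Functor.map_comp, hr, sq.lift_fst]
        · apply (yon S).map_injective
          rw [Functor.map_comp, hr, sq.lift_snd]
    exact
      { refl := fun x => (key x x).2 rfl
        symm := fun {x y} h => (key y x).2 ((key x y).1 h).symm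
        trans := fun {x y z} h1 h2 => (key x z).2 (((key x y).1 h1).trans ((key y z).1 h2)) }
  etale_left := ha.2 a ((yon S).map t) s sq
  etale_right := ha.2 a ((yon S).map s) t sq.flip

/-- A map to a subsheaf `j : X' ⟶ X` which hits every point of the image of `j` is representable surjective. -/
theorem repWith_surjective_of_comp_mono {X' X : Sp S} (j : X' ⟶ X) [Mono j] {T : Over S}
    (a₁ : (yon S).obj T ⟶ X') (hrep : Representable a₁)
    (hW : Set.range (Points.map j) ⊆ Set.range (Points.ofPt (a₁ ≫ j))) : RepWith @Surjective a₁ := by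
  refine ⟨hrep, fun T' V' g fst snd sq => ?_⟩
  obtain ⟨φ, rfl⟩ := (yon S).map_surjective fst
  have sq' := isPullback_comp_mono j sq
  show Surjective snd.left
  refine ⟨fun t => ?_⟩
  obtain ⟨u, hu⟩ := hW ⟨Points.ofPt g t, rfl⟩
  obtain ⟨v, -, hv⟩ := exists_of_ofPt_eq_ofPt sq' u t (hu.trans (Points.map_ofPt g j t))
  exact ⟨v, hv⟩

end Groth.Agent.H50
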