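import Mathlib

/-!
# Descent of "locally generated by one element" along a flat finitely presented ring map
-/

universe u

namespace Groth.Agent.H50

open PrimeSpectrum

/-- If `I·B = (t)`, then some `a₀ ∈ I` has `φ a₀ = c * t` with `c` outside a given prime. -/
theorem exists_mem_map_eq_mul' {A B : Type u} [CommRing A] [CommRing B] (φ : A →+* B) (I : Ideal A)
    (t : B) (hI : I.map φ = Ideal.span {t}) (q : Ideal B)
    [hq : q.IsPrime] : ∃ a₀ ∈ I, ∃ c : B, c ∉ q ∧ φ a₀ = c * t := by
  have h1 : I.map φ ≤ Ideal.span {t} * Ideal.span {c : B | ∃ a ∈ I, φ a = c * t} := by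
    rw [Ideal.map_le_iff_le_comap]
    intro a ha
    rw [Ideal.mem_comap]
    have h0 : φ a ∈ Ideal.span {t} := hI ▸ Ideal.mem_map_of_mem φ ha
    obtain ⟨c, hc⟩ := Ideal.mem_span_singleton'.1 h0
    rw [← hc, mul_comm c t]
    exact Ideal.mul_mem_mul (Ideal.mem_span_singleton_self t)
      (Ideal.subset_span (show ∃ a ∈ I, φ a = c * t from ⟨a, ha, hc.symm⟩))
  have h2 : t ∈ Ideal.span {t} * Ideal.span {c : B | ∃ a ∈ I, φ a = c * t} :=
    h1 (hI ▸ Ideal.mem_span_singleton_self t)
  rw [Ideal.mem_span_singleton_mul] at h2
  obtain ⟨j, hj, hjt⟩ := h2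
  by_cases hjq : j ∈ q
  · refine ⟨0, I.zero_mem, 1 - j, ?_, ?_⟩
    · intro h
      apply hq.ne_top
      rw [Ideal.eq_top_iff_one]
      have h3 := q.add_mem h hjq
      rwa [sub_add_cancel] at h3
    · rw [map_zero, sub_mul, one_mul, mul_comm j t, hjt, sub_self]
  · by_contra hcon
    push_neg at hcon
    have hle : Ideal.span {c : B | ∃ a ∈ I, φ a = c * t} ≤ q := by
      rw [Ideal.span_le]
      rintro c ⟨a, ha, hac⟩
      by_contra hc
      exact hcon a ha c hc hac
    exact hjq (hle hj)

/-- Descent of "locally generated by one element" along a flat finitely presented ring map, pointwise. -/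
theorem exists_away_span_singleton_of_flat' {A B : Type u} [CommRing A] [CommRing B] (φ : A →+* B)
    (hflat : φ.Flat) (hfp : φ.FinitePresentation) (I : Ideal A) (t : B)
    (hI : I.map φ = Ideal.span {t}) (q : Ideal B) [hq : q.IsPrime] :
    ∃ s : A, φ s ∉ q ∧ ∀ (A' : Type u) [CommRing A'] [Algebra A A'] [IsLocalization.Away s A'],
      ∃ a : A', I.map (algebraMap A A') = Ideal.span {a} := by
  obtain ⟨a₀, ha₀, c, hcq, hca⟩ := exists_mem_map_eq_mul' φ I t hI q
  algebraize [φ]
  have hopen : IsOpenMap (comap (algebraMap A B)) :=
    isOpenMap_comap_of_hasGoingDown_of_finitePresentation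
  have himg : IsOpen (comap (algebraMap A B) '' (basicOpen c : Set (PrimeSpectrum B))) :=
    hopen _ (basicOpen c).isOpen
  have hp : comap (algebraMap A B) ⟨q, hq⟩ ∈
      comap (algebraMap A B) '' (basicOpen c : Set (PrimeSpectrum B)) :=
    ⟨⟨q, hq⟩, hcq, rfl⟩
  obtain ⟨_, ⟨s, rfl⟩, hps, hsub⟩ :=
    isTopologicalBasis_basic_opens.exists_subset_of_mem_open hp himg
  refine ⟨s, fun h => hps h, ?_⟩
  intro A' _ _ _
  -- the localization of `B` inverting `φ s * c`
  have hunit : IsUnit (((algebraMap B (Localization.Away (algebraMap A B s * c))).comp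
      (algebraMap A B)) s) :=
    isUnit_of_mul_isUnit_left (y := algebraMap B (Localization.Away (algebraMap A B s * c)) c) (by
      rw [RingHom.comp_apply, ← map_mul]
      exact IsLocalization.Away.algebraMap_isUnit (algebraMap A B s * c))
  have hcunit : IsUnit (algebraMap B (Localization.Away (algebraMap A B s * c)) c) :=
    isUnit_of_mul_isUnit_right
      (x := algebraMap B (Localization.Away (algebraMap A B s * c)) (algebraMap A B s)) (by
      rw [← map_mul]
      exact IsLocalization.Away.algebraMap_isUnit (algebraMap A B s * c))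
  letI : Algebra A' (Localization.Away (algebraMap A B s * c)) :=
    (IsLocalization.Away.lift s hunit).toAlgebra
  haveI : IsScalarTower A A' (Localization.Away (algebraMap A B s * c)) :=
    IsScalarTower.of_algebraMap_eq (fun x =>
      (IsScalarTower.algebraMap_apply A B (Localization.Away (algebraMap A B s * c)) x).trans
        (IsLocalization.Away.lift_eq s hunit x).symm)
  haveI : Module.Flat B (Localization.Away (algebraMap A B s * c)) :=
    IsLocalization.flat _ (Submonoid.powers (algebraMap A B s * c))
  haveI : Module.Flat A (Localization.Away (algebraMap A B s * c)) :=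
    Module.Flat.trans A B _
  haveI : IsLocalizedModule (Submonoid.powers s)
      (LinearMap.id : Localization.Away (algebraMap A B s * c) →ₗ[A] _) :=
    isLocalizedModule_id (Submonoid.powers s) _ A'
  haveI : Module.Flat A' (Localization.Away (algebraMap A B s * c)) :=
    Module.Flat.isBaseChange (R := A) (S := A') (M := Localization.Away (algebraMap A B s * c))
      _ (IsLocalizedModule.isBaseChange (Submonoid.powers s) A' LinearMap.id)
  -- surjectivity on spectra
  have hsurj : Function.Surjective
      (comap (algebraMap A' (Localization.Away (algebraMap A B s * c)))) := by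
    intro P'
    have hsP : s ∉ (comap (algebraMap A A') P').asIdeal := by
      intro hs
      have h1 : algebraMap A A' s ∈ P'.asIdeal := hs
      exact P'.isPrime.ne_top (Ideal.eq_top_of_isUnit_mem _ h1
        (IsLocalization.Away.algebraMap_isUnit s))
    obtain ⟨q', hcq', hq'⟩ := hsub hsP
    have hsq' : algebraMap A B s ∉ q'.asIdeal := by
      intro h
      apply hsP
      rw [← hq']
      exact h
    have hdisj : Disjoint (Submonoid.powers (algebraMap A B s * c) : Set B) q'.asIdeal := by
      rw [Set.disjoint_left]
      rintro _ ⟨n, rfl⟩ hn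
      have h1 := q'.isPrime.mem_of_pow_mem n hn
      rcases q'.isPrime.mem_or_mem h1 with h2 | h2
      · exact hsq' h2
      · exact hcq' h2
    obtain ⟨Q', hQ'⟩ : q' ∈ Set.range
        (comap (algebraMap B (Localization.Away (algebraMap A B s * c)))) := by
      rw [localization_comap_range _ (Submonoid.powers (algebraMap A B s * c))]
      exact hdisj
    refine ⟨Q', ?_⟩
    apply localization_comap_injective A' (Submonoid.powers s)
    rw [← comap_comp_apply, ← IsScalarTower.algebraMap_eq,
      IsScalarTower.algebraMap_eq A B (Localization.Away (algebraMap A B s * c)),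
      comap_comp_apply, hQ', hq']
  haveI : Module.FaithfullyFlat A' (Localization.Away (algebraMap A B s * c)) :=
    Module.FaithfullyFlat.of_comap_surjective hsurj
  -- the generator
  have hkey : algebraMap A' (Localization.Away (algebraMap A B s * c)) (algebraMap A A' a₀) =
      algebraMap B (Localization.Away (algebraMap A B s * c)) c *
        algebraMap B (Localization.Away (algebraMap A B s * c)) t := by
    rw [← IsScalarTower.algebraMap_apply A A' (Localization.Away (algebraMap A B s * c)),
      IsScalarTower.algebraMap_apply A B (Localization.Away (algebraMap A B s * c)), ← map_mul]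
    exact congrArg _ hca
  refine ⟨algebraMap A A' a₀, ?_⟩
  have hI' : I.map (algebraMap A B) = Ideal.span {t} := hI
  apply Ideal.map_injective_of_faithfullyFlat
    (B := Localization.Away (algebraMap A B s * c))
  rw [Ideal.map_map, ← IsScalarTower.algebraMap_eq,
    IsScalarTower.algebraMap_eq A B (Localization.Away (algebraMap A B s * c)),
    ← Ideal.map_map, hI', Ideal.map_span, Set.image_singleton, Ideal.map_span,
    Set.image_singleton, hkey, Ideal.span_singleton_mul_left_unit hcunit]

end Groth.Agent.H50
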