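import Groth.Agent.H50.ClosedDesc

/-!
# helper50: scheme theoretic images of morphisms of algebraic spaces
-/

set_option autoImplicit false
universe u
open CategoryTheory CategoryTheory.Limits AlgebraicGeometry Opposite

namespace Groth.Agent.H50

open AlgSp Groth.Agent.H52

variable {S : Scheme.{u}}

/-- The pullback of a closed subspace to a scheme is the closed subscheme of an ideal sheaf. -/
theorem exists_ideal_of_closedImmersion {Y Z' : Sp S} (i' : Z' ⟶ Y)
    (hi' : RepWith @IsClosedImmersion i') {V : Over S} (a : (yon S).obj V ⟶ Y) :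
    ∃ (I' : V.left.IdealSheafData) (b : (yon S).obj (vOver V I') ⟶ Z'),
      IsPullback b ((yon S).map (vOverι V I')) i' a := by
  have hrep : Representable i' := hi'.rep
  haveI hc : IsClosedImmersion (hrep.snd a).left := hi'.property_snd a
  let eIso : vOver V (hrep.snd a).left.ker ≅ hrep.pullback a :=
    Over.isoMk (asIso (hrep.snd a).left.toImage).symm (by
      change inv (hrep.snd a).left.toImage ≫ (hrep.pullback a).hom =
        (hrep.snd a).left.ker.subschemeι ≫ V.hom
      rw [IsIso.inv_comp_eq, ← Over.w (hrep.snd a), ← Category.assoc]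
      congr 1
      exact ((hrep.snd a).left.toImage_imageι).symm)
  have he : eIso.hom ≫ hrep.snd a = vOverι V (hrep.snd a).left.ker := by
    apply Over.OverMorphism.ext
    change inv (hrep.snd a).left.toImage ≫ (hrep.snd a).left = (hrep.snd a).left.ker.subschemeι
    rw [IsIso.inv_comp_eq]
    exact ((hrep.snd a).left.toImage_imageι).symm
  refine ⟨(hrep.snd a).left.ker, (yon S).map eIso.hom ≫ hrep.fst a, ?_⟩
  refine (hrep.isPullback a).of_iso ((yon S).mapIso eIso).symm (Iso.refl _) (Iso.refl _) (Iso.refl _)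
    ?_ ?_ ?_ ?_
  · simp [← Category.assoc, ← Functor.map_comp]
  · simp only [Iso.refl_hom, Category.comp_id, Iso.symm_hom, Functor.mapIso_inv]
    rw [← he, Functor.map_comp, ← Category.assoc, ← Functor.map_comp, Iso.inv_hom_id,
      CategoryTheory.Functor.map_id, Category.id_comp]
  · simp
  · simp

/-- Every morphism of algebraic spaces has a scheme theoretic image. -/
theorem exists_isSchImage {X Y : Sp S} (hX : IsAlgSpace X) (hY : IsAlgSpace Y) (f : X ⟶ Y) :
    ∃ (Z : Sp S) (i : Z ⟶ Y), IsAlgSpace Z ∧ IsSchImage f i := by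
  obtain ⟨V, a, ha, has⟩ := hY.atlas
  haveI : Epi a := epi_of_etale_surjective a ha has
  let 𝓘 : Set V.left.IdealSheafData := {I | Invariant a I ∧
    ∀ (W : Over S) (x : (yon S).obj W ⟶ X) (v : W ⟶ V), x ≫ f = (yon S).map v ≫ a → I ≤ v.left.ker}
  have hI₀inv : Invariant a (sSup 𝓘) := by
    intro W w₁ w₂ h h1
    apply sSup_le
    intro I hI
    exact hI.1 w₁ w₂ h ((le_sSup hI).trans h1)
  have hI₀fac : ∀ (W : Over S) (x : (yon S).obj W ⟶ X) (v : W ⟶ V),
      x ≫ f = (yon S).map v ≫ a → sSup 𝓘 ≤ v.left.ker :=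
    fun W x v h => sSup_le fun I hI => hI.2 W x v h
  obtain ⟨W₀, b, hb, hbs⟩ := hX.atlas
  have hrep : Representable a := ha.rep
  obtain ⟨v, hv⟩ := (yon S).map_surjective (hrep.fst (b ≫ f))
  have sqW : IsPullback ((yon S).map v) ((yon S).map (hrep.snd (b ≫ f))) a (b ≫ f) := by
    rw [hv]
    exact hrep.isPullback _
  haveI : Etale (hrep.snd (b ≫ f)).left := ha.property_snd _
  haveI : Surjective (hrep.snd (b ≫ f)).left := has.property_snd _
  haveI : Epi ((yon S).map (hrep.snd (b ≫ f))) := epi_yon_map_of_fppf _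
  haveI : Epi b := epi_of_etale_surjective b hb hbs
  haveI : Epi ((yon S).map (hrep.snd (b ≫ f)) ≫ b) := epi_comp _ _
  have hcomm : ((yon S).map (hrep.snd (b ≫ f)) ≫ b) ≫ f = (yon S).map v ≫ a := by
    rw [Category.assoc, ← sqW.w]
  obtain ⟨f', hf'⟩ := exists_factor_closedSub (I := sSup 𝓘) f
    ((yon S).map (hrep.snd (b ≫ f)) ≫ b) v hcomm (hI₀fac _ _ v hcomm)
  refine ⟨closedSub a (sSup 𝓘), closedSubι a (sSup 𝓘), isAlgSpace_closedSub ha has hI₀inv hY,
    repWith_isClosedImmersion_closedSubι ha has hI₀inv, ⟨f', hf'⟩, ?_⟩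
  rintro Z' i' hZ' hi' ⟨f'', hf''⟩
  obtain ⟨I', b', sq'⟩ := exists_ideal_of_closedImmersion i' hi' a
  haveI : Mono i' := mono_of_repWith (fun _ _ g hg => by have := hg; infer_instance) hi'
  have hI'inv : Invariant a I' := invariant_of_isPullback i' b' sq'
  have hI'mem : I' ∈ 𝓘 := by
    refine ⟨hI'inv, fun W x v h => ?_⟩
    obtain ⟨l, hl⟩ := (yon S).map_surjective (sq'.lift (x ≫ f'') ((yon S).map v) (by
      rw [Category.assoc, hf'', h]))
    exact le_ker_of_factors I' v l ((yon S).map_injective (by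
      rw [Functor.map_comp, hl, IsPullback.lift_snd]))
  obtain ⟨e, he⟩ := exists_iso_closedSub i' b' sq'
  obtain ⟨k, hk⟩ := exists_hom_closedSub_of_le (a := a) (le_sSup hI'mem : I' ≤ sSup 𝓘)
  exact ⟨k ≫ e.inv, by rw [Category.assoc, ← he, Iso.inv_hom_id_assoc, hk]⟩

end Groth.Agent.H50
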