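import Groth.Agent.H50.KerBC
import Groth.Agent.H50.SchImage

/-!
# helper50: the scheme theoretic image through the kernel on a chart; uniqueness
-/

set_option autoImplicit false
universe u
open CategoryTheory CategoryTheory.Limits AlgebraicGeometry Opposite

namespace Groth.Agent.H50

open AlgSp Groth.Agent.H52

variable {S : Scheme.{u}}

/-- If the kernel of a chart of `f` over an etale surjective chart of the target is invariant, the closed subspace it
defines is the scheme theoretic image of `f`. -/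
theorem isSchImage_closedSubι_of_chart {X F : Sp S} {U M : Over S} (a : (yon S).obj U ⟶ X)
    (hae : RepWith @Etale a) (has : RepWith @Surjective a) (f : F ⟶ X)
    (x : (yon S).obj M ⟶ F) [Epi x] (m : M ⟶ U) (hcomm : x ≫ f = (yon S).map m ≫ a)
    (hI : Invariant a m.left.ker) : IsSchImage f (closedSubι a m.left.ker) := by
  haveI : Epi a := epi_of_etale_surjective a hae has
  refine ⟨repWith_isClosedImmersion_closedSubι hae has hI,
    exists_factor_closedSub f x m hcomm le_rfl, ?_⟩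
  rintro Z' i' hZ' hi' ⟨f'', hf''⟩
  obtain ⟨I', b', sq'⟩ := exists_ideal_of_closedImmersion i' hi' a
  haveI : Mono i' := mono_of_repWith (fun _ _ g hg => by have := hg; infer_instance) hi'
  have hle : I' ≤ m.left.ker := by
    obtain ⟨l, hl⟩ := (yon S).map_surjective (sq'.lift (x ≫ f'') ((yon S).map m) (by
      rw [Category.assoc, hf'', hcomm]))
    exact le_ker_of_factors I' m l ((yon S).map_injective (by
      rw [Functor.map_comp, hl, IsPullback.lift_snd]))
  obtain ⟨e, he⟩ := exists_iso_closedSub i' b' sq'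
  obtain ⟨k, hk⟩ := exists_hom_closedSub_of_le (a := a) hle
  exact ⟨k ≫ e.inv, by rw [Category.assoc, ← he, Iso.inv_hom_id_assoc, hk]⟩

/-- The scheme theoretic image of a representable quasi-compact morphism, through the kernel on a chart. -/
theorem isSchImage_closedSubι_ker {X Z : Sp S} {U ZU : Over S} (a : (yon S).obj U ⟶ X)
    (hae : RepWith @Etale a) (has : RepWith @Surjective a) (i : Z ⟶ X) (hi : Representable i)
    (iU : ZU ⟶ U) (top : (yon S).obj ZU ⟶ Z) (sq0 : IsPullback top ((yon S).map iU) i a)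
    [QuasiCompact iU.left] : IsSchImage i (closedSubι a iU.left.ker) := by
  haveI : Epi a := epi_of_etale_surjective a hae has
  haveI : Epi top := epi_fst_of_isPullback sq0
  exact isSchImage_closedSubι_of_chart a hae has i top iU sq0.w
    (invariant_ker_of_quasiCompact a hae i hi iU top sq0)

/-- Two scheme theoretic images of the same morphism are isomorphic over the target. -/
theorem exists_iso_of_isSchImage {F X Z₁ Z₂ : Sp S} {f : F ⟶ X} {i₁ : Z₁ ⟶ X} {i₂ : Z₂ ⟶ X}
    (hZ₁ : IsAlgSpace Z₁) (hZ₂ : IsAlgSpace Z₂) (h₁ : IsSchImage f i₁) (h₂ : IsSchImage f i₂) :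
    ∃ ε : Z₁ ≅ Z₂, ε.hom ≫ i₂ = i₁ := by
  haveI : Mono i₁ := mono_of_repWith (fun _ _ g hg => by have := hg; infer_instance) h₁.1
  haveI : Mono i₂ := mono_of_repWith (fun _ _ g hg => by have := hg; infer_instance) h₂.1
  obtain ⟨k₁, hk₁⟩ := h₁.2.2 i₂ hZ₂ h₂.1 h₂.2.1
  obtain ⟨k₂, hk₂⟩ := h₂.2.2 i₁ hZ₁ h₁.1 h₁.2.1
  refine ⟨⟨k₁, k₂, ?_, ?_⟩, hk₁⟩
  · rw [← cancel_mono i₁, Category.assoc, hk₂, hk₁, Category.id_comp]
  · rw [← cancel_mono i₂, Category.assoc, hk₁, hk₂, Category.id_comp]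

/-- Being a scheme theoretic image is invariant under isomorphisms over the target. -/
theorem isSchImage_of_iso {F X Z₁ Z₂ : Sp S} {f : F ⟶ X} {i₁ : Z₁ ⟶ X} {i₂ : Z₂ ⟶ X}
    (h₁ : IsSchImage f i₁) (ε : Z₂ ≅ Z₁) (hε : ε.hom ≫ i₁ = i₂) : IsSchImage f i₂ := by
  obtain ⟨hc, ⟨f', hf'⟩, hmin⟩ := h₁
  refine ⟨?_, ⟨f' ≫ ε.inv, ?_⟩, ?_⟩
  · rw [← hε]
    exact ((RepWith @IsClosedImmersion).cancel_left_of_respectsIso ε.hom i₁).2 hc
  · rw [← hε, Category.assoc, Iso.inv_hom_id_assoc, hf']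
  · intro Z' i' hZ' hi' hfac
    obtain ⟨k, hk⟩ := hmin i' hZ' hi' hfac
    exact ⟨ε.hom ≫ k, by rw [Category.assoc, hk, hε]⟩

end Groth.Agent.H50
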