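import Groth.Agent.H50.SchDense
import Groth.Agent.H50.SchImage2
import Groth.Agent.H50.SigmaChart
import Groth.Agent.H51.Reduced

/-!
# helper50: dense open immersions into scheme theoretic images
-/

set_option autoImplicit false
universe u
open CategoryTheory CategoryTheory.Limits AlgebraicGeometry Opposite

namespace Groth.Agent.H50

open AlgSp Groth.Agent.H52 Groth.Agent.H51

variable {S : Scheme.{u}}

/-- An immersion with dense range into a reduced scheme is an open immersion. -/
theorem isOpenImmersion_of_denseRange_of_isReduced {A B : Scheme.{u}} (g : A ⟶ B) [IsImmersion g]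
    [IsReduced B] (hd : DenseRange g) : IsOpenImmersion g := by
  haveI : Surjective g.liftCoborder := by
    constructor
    intro b₀
    have hb : g.coborderRange.ι b₀ ∈ coborder (Set.range g) := b₀.2
    have hcl : g.coborderRange.ι b₀ ∈ closure (Set.range g) := hd _
    have hr : g.coborderRange.ι b₀ ∈ Set.range g := by
      by_contra hn
      exact hb ⟨hcl, hn⟩
    obtain ⟨x, hx⟩ := hr
    refine ⟨x, ?_⟩
    apply g.coborderRange.ι.isEmbedding.injective
    rw [← Scheme.Hom.comp_apply, g.liftCoborder_ι, hx]
  haveI : IsIso g.liftCoborder := isIso_of_isClosedImmersion_of_surjective g.liftCoborder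
  have : IsOpenImmersion (g.liftCoborder ≫ g.coborderRange.ι) := inferInstance
  rwa [g.liftCoborder_ι] at this

/-- A dense open subscheme of a reduced scheme is schematically dense. -/
theorem isSchematicallyDense_of_dense_of_isReduced {B : Scheme.{u}} [IsReduced B] (W : B.Opens)
    (hW : Dense (W : Set B)) : CInt.IsSchematicallyDense W := by
  intro V
  show Function.Injective (B.presheaf.map (homOfLE (inf_le_left : V ⊓ W ≤ V)).op).hom
  rw [injective_iff_map_eq_zero]
  intro s hs
  rw [← basicOpen_eq_bot_iff]
  have h1 : B.basicOpen ((B.presheaf.map (homOfLE (inf_le_left : V ⊓ W ≤ V)).op).hom s) = ⊥ := by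
    rw [hs]
    exact Scheme.basicOpen_zero _ _
  rw [Scheme.basicOpen_res] at h1
  by_contra hne
  have hne' : (B.basicOpen s : Set B).Nonempty := by
    by_contra h
    exact hne ((TopologicalSpace.Opens.not_nonempty_iff_eq_bot _).1 h)
  obtain ⟨x, hx1, hx2⟩ := hW.inter_open_nonempty _ (B.basicOpen s).isOpen hne'
  have hx : x ∈ ((V ⊓ W) ⊓ B.basicOpen s : B.Opens) := ⟨⟨B.basicOpen_le s hx1, hx2⟩, hx1⟩
  rw [h1] at hx
  exact hx

/-- A scheme etale over a reduced sheaf is reduced. -/
theorem isReduced_of_isReducedSp {F : Sp S} (hF : IsReducedSp F) {U : Over S}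
    (a : (yon S).obj U ⟶ F) (ha : RepWith @Etale a) : IsReduced U.left := by
  obtain ⟨U₁, p₁, hp₁e, hp₁s, hU₁⟩ := hF
  have hrep : Representable a := ha.rep
  have sq := hrep.isPullback p₁
  haveI : IsReduced U₁.left := hU₁
  haveI : Etale (hrep.snd p₁).left := ha.property_snd p₁
  haveI : IsReduced (hrep.pullback p₁).left := isReduced_of_smooth (hrep.snd p₁).left
  obtain ⟨w, hw⟩ := (yon S).map_surjective (hrep.fst p₁)
  have hwe : RepWith @Etale ((yon S).map w) := by
    rw [hw]
    exact repWith_fst_of_isPullback sq hp₁e
  have hws : RepWith @Surjective ((yon S).map w) := by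
    rw [hw]
    exact repWith_fst_of_isPullback sq hp₁s
  haveI : Etale w.left := (repWith_yon_map_iff _ w).1 hwe
  haveI : Surjective w.left := (repWith_yon_map_iff _ w).1 hws
  exact isReduced_of_flat_of_surjective w.left

/-- An open subspace which on an etale surjective chart is a schematically dense and dense open subscheme is
schematically dense and dense. -/
theorem isSchDense_of_chart {Z Zb : Sp S} (h' : Z ⟶ Zb) {V ZU : Over S} (φ : (yon S).obj V ⟶ Zb)
    (hφe : RepWith @Etale φ) (hφs : RepWith @Surjective φ) (τ : ZU ⟶ V)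
    (top : (yon S).obj ZU ⟶ Z) (sq : IsPullback top ((yon S).map τ) h' φ)
    [IsOpenImmersion τ.left] (hd : CInt.IsSchematicallyDense τ.left.opensRange)
    (hdr : DenseRange τ.left) :
    RepWith @IsOpenImmersion h' ∧ IsSchDense h' ∧ Dense (Set.range (Points.map h')) := by
  have hopen : RepWith @IsOpenImmersion h' :=
    repWith_immersion_of_isPullback_chart @IsOpenImmersion (Or.inr (Or.inl rfl)) h' φ hφe hφs τ
      inferInstance top sq
  have hι : τ.left.isoOpensRange.inv ≫ τ.left = τ.left.opensRange.ι :=
    τ.left.isoOpensRange_inv_comp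
  have hθw : τ.left.isoOpensRange.inv ≫ ZU.hom = (opensOver V τ.left.opensRange).hom := by
    change _ = τ.left.opensRange.ι ≫ V.hom
    rw [← hι, Category.assoc, Over.w]
  have hθ : (Over.isoMk τ.left.isoOpensRange.symm hθw :
      opensOver V τ.left.opensRange ≅ ZU).hom ≫ τ = opensOverι V τ.left.opensRange := by
    apply Over.OverMorphism.ext
    exact hι
  have sqW := isPullback_of_over_iso sq _ _ hθ
  refine ⟨hopen, ⟨hopen, V, φ, τ.left.opensRange, _, hφe, hφs, sqW, hd⟩, ?_⟩
  have hsub : Points.ofPt φ '' Set.range τ.left ⊆ Set.range (Points.map h') := by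
    rintro _ ⟨_, ⟨z, rfl⟩, rfl⟩
    refine ⟨Points.ofPt top z, ?_⟩
    rw [Points.map_ofPt, sq.w, ofPt_yon_map_comp]
  refine Dense.mono hsub ?_
  have hsurj : Function.Surjective (Points.ofPt φ) := surjective_ofPt_of_surjective φ hφs
  exact hsurj.denseRange.dense_image (Points.continuous_ofPt φ) hdr

/-- The range of a quasi-compact open immersion with trivial kernel is schematically dense. -/
theorem isSchematicallyDense_opensRange_of_ker_eq_bot {A B : Scheme.{u}} (t : A ⟶ B)
    [IsOpenImmersion t] [QuasiCompact t] (hk : t.ker = ⊥) :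
    CInt.IsSchematicallyDense t.opensRange := by
  have hι : t.isoOpensRange.inv ≫ t = t.opensRange.ι := t.isoOpensRange_inv_comp
  haveI : QuasiCompact t.opensRange.ι := by
    rw [← hι]
    infer_instance
  apply isSchematicallyDense_of_ker_ι_eq_bot
  rw [← hι, Scheme.Hom.ker_comp_of_isIso, hk]

/-- A quasi-compact immersion is a dense open immersion, with trivial kernel, into the closed subscheme of its
kernel. -/
theorem isOpenImmersion_of_eq_ker {A B : Scheme.{u}} (g : A ⟶ B) [IsImmersion g] [QuasiCompact g]
    (I : B.IdealSheafData) (hI : I = g.ker) (t : A ⟶ I.subscheme) (ht : t ≫ I.subschemeι = g) :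
    ∃ (_ : IsOpenImmersion t), CInt.IsSchematicallyDense t.opensRange ∧ DenseRange t := by
  subst hI
  have hτ : t = g.toImage := by
    rw [← cancel_mono g.ker.subschemeι, ht]
    exact (g.toImage_imageι).symm
  subst hτ
  refine ⟨inferInstance, isSchematicallyDense_opensRange_of_ker_eq_bot _ (ker_toImage_eq_bot g),
    Scheme.Hom.denseRange _⟩

/-- An immersion from a scheme into a reduced closed subscheme supported on the closure of its range is a dense
open immersion. -/
theorem isOpenImmersion_of_isReduced_of_range_eq {A B : Scheme.{u}} (g : A ⟶ B) [IsImmersion g]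
    (I : B.IdealSheafData) [IsReduced I.subscheme] (t : A ⟶ I.subscheme)
    (ht : t ≫ I.subschemeι = g) (hcl : Set.range I.subschemeι = closure (Set.range g)) :
    ∃ (_ : IsOpenImmersion t), CInt.IsSchematicallyDense t.opensRange ∧ DenseRange t := by
  haveI : IsImmersion (t ≫ I.subschemeι) := by
    rw [ht]
    infer_instance
  haveI : IsImmersion t := IsImmersion.of_comp t I.subschemeι
  have hdr : DenseRange t := by
    rw [DenseRange, I.subschemeι.isEmbedding.isInducing.dense_iff]
    intro x
    have himg : I.subschemeι '' Set.range t = Set.range g := by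
      rw [← ht, ← Set.range_comp]
      rfl
    rw [himg, ← hcl]
    exact ⟨x, rfl⟩
  have hτo : IsOpenImmersion t := isOpenImmersion_of_denseRange_of_isReduced t hdr
  exact ⟨hτo, isSchematicallyDense_of_dense_of_isReduced _ hdr, hdr⟩

end Groth.Agent.H50
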