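import Groth.Agent.H50.CartierDescent
import Groth.Agent.H50.RingPrincipal
import Groth.Agent.H50.SchImage3
import Groth.Prelude.Def_W4stk3spdivLocPr

/-!
# Locally principal closed subspaces: descent of local principality, affineness of the complement

* `isLocPrincipal_comap`, `isLocPrincipal_of_comap`: local principality of an ideal sheaf is preserved by pullback and
  descends along flat, locally finitely presented, surjective morphisms.
* `isAffineHom_ι_of_isLocPrincipal`: the open complement of a locally principal closed subscheme is affine over the scheme.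
* `isSchematicallyDense_compl_of_isEffCartierIdeal`: the open complement of an effective Cartier divisor is schematically dense.
* `mem_range_left_iff_of_isPullback`: points of a represented pullback.
* `isAffineMor_compl_of_isLocPrincipalSub`: the space-level statement.
-/

set_option autoImplicit false
universe u
open CategoryTheory CategoryTheory.Limits AlgebraicGeometry Opposite
open AlgSp

namespace Groth.Agent.H50

section Scheme

variable {X : Scheme.{u}}

theorem exists_affine_isPrincipal {I : X.IdealSheafData} (h : Curv2.IsLocPrincipal I)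
    (W : X.Opens) (x : X) (hx : x ∈ W) (hxs : x ∈ I.support) :
    ∃ U : X.affineOpens, x ∈ U.1 ∧ U.1 ≤ W ∧ ∃ t : Γ(X, U.1), I.ideal U = Ideal.span {t} := by
  obtain ⟨U₁, hxU₁, t, hI⟩ := h x hxs
  obtain ⟨U₀, hU₀, hxU₀, hU₀W⟩ := exists_isAffineOpen_mem_and_subset (x := x) (U := W) hx
  obtain ⟨g, g₁, hgg, hxg⟩ := exists_basicOpen_le_affine_inter hU₀ U₁.2 x ⟨hxU₀, hxU₁⟩
  have e : X.basicOpen g = X.basicOpen g₁ := hgg
  refine ⟨X.affineBasicOpen g₁, ?_, ?_,
    (algebraMap Γ(X, U₁.1) Γ(X, X.basicOpen g₁) t : Γ(X, X.basicOpen g₁)), ?_⟩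
  · show x ∈ X.basicOpen g₁
    rw [← e]
    exact hxg
  · show X.basicOpen g₁ ≤ W
    rw [← e]
    exact (X.basicOpen_le g).trans hU₀W
  · rw [← I.map_ideal_basicOpen U₁ g₁, hI, Ideal.map_span, Set.image_singleton]
    rfl

theorem isLocPrincipal_comap {W V : Scheme.{u}} (g : W ⟶ V) (I : V.IdealSheafData)
    (h : Curv2.IsLocPrincipal I) : Curv2.IsLocPrincipal (I.comap g) := by
  intro w hw
  have hgw : g w ∈ I.support := by
    rw [Scheme.IdealSheafData.support_comap] at hw
    exact hw
  obtain ⟨U, hU, f, hf⟩ := h (g w) hgw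
  obtain ⟨U', hU', hwU', hle⟩ :=
    exists_isAffineOpen_mem_and_subset (x := w) (U := g ⁻¹ᵁ U.1) hU
  refine ⟨⟨U', hU'⟩, hwU', (g.appLE U.1 U' hle).hom f, ?_⟩
  rw [H9.comap_ideal g I U ⟨U', hU'⟩ hle, hf, Ideal.map_span, Set.image_singleton]

theorem exists_isPrincipal_of_comap {W V : Scheme.{u}} (g : W ⟶ V) [Flat g]
    [LocallyOfFinitePresentation g] (I : V.IdealSheafData)
    (h : Curv2.IsLocPrincipal (I.comap g)) (w : W) (hw : w ∈ (I.comap g).support) :
    ∃ U : V.affineOpens, g w ∈ U.1 ∧ ∃ f : Γ(V, U.1), I.ideal U = Ideal.span {f} := by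
  obtain ⟨_, ⟨U₀, hU₀, rfl⟩, hwU₀, -⟩ := V.isBasis_affineOpens.exists_subset_of_mem_open
    (Set.mem_univ (g w)) isOpen_univ
  obtain ⟨U', hwU', hU'le, t, hIt⟩ := exists_affine_isPrincipal h (g ⁻¹ᵁ U₀) w hwU₀ hw
  have hflat : (g.appLE U₀ U'.1 hU'le).hom.Flat :=
    HasRingHomProperty.appLE (P := @Flat) g inferInstance ⟨U₀, hU₀⟩ U' hU'le
  have hfp : (g.appLE U₀ U'.1 hU'le).hom.FinitePresentation :=
    HasRingHomProperty.appLE (P := @LocallyOfFinitePresentation) g inferInstance ⟨U₀, hU₀⟩ U' hU'le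
  have hI : (I.ideal ⟨U₀, hU₀⟩).map (g.appLE U₀ U'.1 hU'le).hom = Ideal.span {t} := by
    rw [← H9.comap_ideal g I ⟨U₀, hU₀⟩ U' hU'le, hIt]
  obtain ⟨s, hs, hloc⟩ := exists_away_span_singleton_of_flat' _ hflat hfp _ t hI
    (U'.2.primeIdealOf ⟨w, hwU'⟩).asIdeal
  haveI := hU₀.isLocalization_basicOpen s
  obtain ⟨a, hIa⟩ := hloc Γ(V, V.basicOpen s)
  refine ⟨V.affineBasicOpen (U := ⟨U₀, hU₀⟩) s, ?_, a, ?_⟩
  · have h1 := mem_basicOpen_of_notMem_primeIdealOf U'.2 w hwU' _ hs
    rw [Scheme.basicOpen_appLE] at h1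
    exact h1.2
  · rw [← I.map_ideal_basicOpen ⟨U₀, hU₀⟩ s]
    exact hIa

theorem isLocPrincipal_of_comap {W V : Scheme.{u}} (g : W ⟶ V) [Flat g]
    [LocallyOfFinitePresentation g] [Surjective g] (I : V.IdealSheafData)
    (h : Curv2.IsLocPrincipal (I.comap g)) : Curv2.IsLocPrincipal I := by
  intro v hv
  obtain ⟨w, rfl⟩ := g.surjective v
  have hw : w ∈ (I.comap g).support := by
    rw [Scheme.IdealSheafData.support_comap]
    exact hv
  exact exists_isPrincipal_of_comap g I h w hw

theorem mem_support_iff_notMem_basicOpen {K : X.IdealSheafData} {U₀ : X.affineOpens}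
    {f : Γ(X, U₀.1)} (hf : K.ideal U₀ = Ideal.span {f}) {x : X} (hx : x ∈ U₀.1) :
    x ∈ K.support ↔ x ∉ X.basicOpen f := by
  rw [Scheme.IdealSheafData.mem_support_iff_of_mem hx, hf, Scheme.zeroLocus_span,
    Scheme.zeroLocus_singleton]
  rfl

/-- The open complement of a locally principal closed subscheme is affine over the scheme. -/
theorem isAffineHom_ι_of_isLocPrincipal (K : X.IdealSheafData) (h : Curv2.IsLocPrincipal K)
    (Uc : X.Opens) (hUc : (Uc : Set X) = (K.support : Set X)ᶜ) : IsAffineHom Uc.ι := by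
  apply isAffineHom_of_forall_exists_isAffineOpen
  intro z
  by_cases hz : z ∈ K.support
  · obtain ⟨U₀, hzU₀, f, hf⟩ := h z hz
    refine ⟨U₀.1, hzU₀, U₀.2, ?_⟩
    rw [← (Scheme.Opens.ι Uc).isAffineOpen_iff_of_isOpenImmersion,
      Scheme.Hom.image_preimage_eq_opensRange_inf, Scheme.Opens.opensRange_ι]
    have e : Uc ⊓ U₀.1 = X.basicOpen f := by
      apply le_antisymm
      · rintro x ⟨hxU, hx0⟩
        by_contra hxf
        have h1 : x ∈ K.support := (mem_support_iff_notMem_basicOpen hf hx0).2 hxf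
        have h2 : x ∈ (K.support : Set X)ᶜ := by
          rw [← hUc]
          exact hxU
        exact h2 h1
      · intro x hxf
        have hx0 : x ∈ U₀.1 := X.basicOpen_le f hxf
        refine ⟨?_, hx0⟩
        show x ∈ (Uc : Set X)
        rw [hUc]
        intro h1
        exact (mem_support_iff_notMem_basicOpen hf hx0).1 h1 hxf
    rw [e]
    exact U₀.2.basicOpen f
  · have hzU : z ∈ Uc := by
      show z ∈ (Uc : Set X)
      rw [hUc]
      exact hz
    obtain ⟨U₀, hU₀, hzU₀, hle⟩ := exists_isAffineOpen_mem_and_subset (x := z) (U := Uc) hzU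
    have hle' : U₀ ≤ Uc := hle
    refine ⟨U₀, hzU₀, hU₀, ?_⟩
    rw [← (Scheme.Opens.ι Uc).isAffineOpen_iff_of_isOpenImmersion,
      Scheme.Hom.image_preimage_eq_opensRange_inf, Scheme.Opens.opensRange_ι,
      inf_eq_right.2 hle']
    exact hU₀

theorem isLocPrincipal_of_isEffCartierIdeal {I : X.IdealSheafData}
    (h : BlowUp.IsEffCartierIdeal I) : Curv2.IsLocPrincipal I := by
  intro x _
  obtain ⟨U, hxU, f, -, hf⟩ := h x
  exact ⟨U, hxU, f, hf⟩

/-- The open complement of an effective Cartier divisor is schematically dense. -/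
theorem isSchematicallyDense_compl_of_isEffCartierIdeal (I : X.IdealSheafData)
    (hI : BlowUp.IsEffCartierIdeal I) (W : X.Opens) (hW : (W : Set X) = (I.support : Set X)ᶜ) :
    CInt.IsSchematicallyDense W := by
  intro V
  rw [injective_iff_map_eq_zero]
  intro t ht
  refine TopCat.Presheaf.section_ext X.sheaf V t 0 (fun x hxV => ?_)
  rw [map_zero]
  obtain ⟨U₁, hxU₁, hU₁V, f, hfnzd, hf⟩ := H9.exists_affine_isPrincipalNZD hI V x hxV
  set t' : Γ(X, U₁.1) := X.presheaf.map (homOfLE hU₁V).op t with ht'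
  have hle : X.basicOpen f ≤ V ⊓ W := by
    intro y hy
    have hy1 : y ∈ U₁.1 := X.basicOpen_le f hy
    refine ⟨hU₁V hy1, ?_⟩
    show y ∈ (W : Set X)
    rw [hW]
    intro h1
    exact (mem_support_iff_notMem_basicOpen hf hy1).1 h1 hy
  have hres : X.presheaf.map (homOfLE (X.basicOpen_le f)).op t' = 0 := by
    have h1 : X.presheaf.map (homOfLE (X.basicOpen_le f)).op t' =
        X.presheaf.map (homOfLE hle).op
          (X.presheaf.map (homOfLE (inf_le_left : V ⊓ W ≤ V)).op t) := by
      rw [ht']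
      simp only [← CommRingCat.comp_apply, ← Functor.map_comp]
      rfl
    rw [h1, ht, map_zero]
  obtain ⟨n, hn⟩ := exists_pow_mul_eq_zero_of_res_basicOpen_eq_zero_of_isAffineOpen X U₁.2 t' f hres
  have ht0 : t' = 0 := by
    have h2 : f ^ n ∈ nonZeroDivisors Γ(X, U₁.1) := pow_mem hfnzd n
    exact (mem_nonZeroDivisors_iff.mp h2).1 _ hn
  have ht1 : X.presheaf.germ U₁.1 x hxU₁ t' = X.presheaf.germ V x hxV t := by
    rw [ht']
    exact X.presheaf.germ_res_apply (homOfLE hU₁V) x hxU₁ t
  have hfin : X.presheaf.germ V x hxV t = 0 := by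
    rw [← ht1, ht0, map_zero]
  exact hfin

end Scheme

section Space

variable {S : Scheme.{u}}

/-- Points of a represented pullback: a point of the chart lies in the range of the projection iff its image lies in the
range of the map pulled back. -/
theorem mem_range_left_iff_of_isPullback {F G : Sp S} (m : F ⟶ G) {T P : Over S}
    (g : (yon S).obj T ⟶ G) (fst : (yon S).obj P ⟶ F) (snd : P ⟶ T)
    (sq : IsPullback fst ((yon S).map snd) m g) (t : ↥T.left) :
    t ∈ Set.range snd.left ↔ Points.ofPt g t ∈ Set.range (Points.map m) := by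
  constructor
  · rintro ⟨p, rfl⟩
    refine ⟨Points.ofPt fst p, ?_⟩
    rw [Points.map_ofPt, sq.w, H52.ofPt_yon_map_comp]
  · rintro ⟨x, hx⟩
    have hxy : Points.map m x = Points.map g (Points.ofScheme T t) := by
      rw [← Points.ofPt_eq_map_ofScheme, hx]
    obtain ⟨z, -, hz2⟩ := H52.exists_point_of_isPullback sq x _ hxy
    obtain ⟨p, rfl⟩ := (Points.schemeEquiv P).surjective z
    have h2 : Points.map ((yon S).map snd) (Points.ofScheme P p) = Points.ofScheme T t := hz2
    rw [H52.map_yon_map_ofScheme] at h2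
    exact ⟨p, H52.ofScheme_injective T h2⟩

/-- For complementary open and closed subsheaves, the represented pullbacks to a chart are complementary. -/
theorem range_left_eq_compl_support {X Z U : Sp S} (i : Z ⟶ X) (j : U ⟶ X)
    (hU : Set.range (Points.map j) = (Set.range (Points.map i))ᶜ) {T P : Over S}
    (g : (yon S).obj T ⟶ X) (fstP : (yon S).obj P ⟶ U) (sndP : P ⟶ T)
    (sqP : IsPullback fstP ((yon S).map sndP) j g) (K : T.left.IdealSheafData)
    (fstK : (yon S).obj (vOver T K) ⟶ Z)
    (sqK : IsPullback fstK ((yon S).map (vOverι T K)) i g) :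
    Set.range sndP.left = (K.support : Set ↥T.left)ᶜ := by
  ext t
  rw [mem_range_left_iff_of_isPullback j g fstP sndP sqP t, hU, Set.mem_compl_iff,
    ← mem_range_left_iff_of_isPullback i g fstK (vOverι T K) sqK t, Set.mem_compl_iff]
  have e : Set.range (vOverι T K).left = (K.support : Set ↥T.left) := K.range_subschemeι
  rw [e]

/-- The open complement of a locally principal closed subspace is affine over the space. -/
theorem isAffineMor_compl_of_isLocPrincipalSub {X Z U : Sp S} (i : Z ⟶ X)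
    (hZ : IsLocPrincipalSub i) (j : U ⟶ X) (hj : RepWith @IsOpenImmersion j)
    (hU : Set.range (Points.map j) = (Set.range (Points.map i))ᶜ) : IsAffineMor j := by
  obtain ⟨hcl, V, φ, IV, fstV, hφe, hφs, sqV, hIV⟩ := hZ
  intro Z₁ hZ₁ g
  have sqP := hj.1.isPullback g
  haveI : IsOpenImmersion (hj.1.snd g).left := hj.2 _ _ _ sqP
  refine ⟨_, hj.1.snd g, hj.1.fst g, sqP, ?_⟩
  -- the ideal of the pullback of `Z`
  have sqD := hcl.1.isPullback g
  haveI : IsClosedImmersion (hcl.1.snd g).left := hcl.2 _ _ _ sqD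
  obtain ⟨K, fstK, sqK⟩ : ∃ (K : Z₁.left.IdealSheafData)
      (fstK : (yon S).obj (vOver Z₁ K) ⟶ Z),
      IsPullback fstK ((yon S).map (vOverι Z₁ K)) i g := by
    obtain ⟨fst', sq'⟩ := exists_isPullback_vOver_of_ker_eq i g _ _ sqD _ rfl
    exact ⟨_, fst', sq'⟩
  -- the etale cover of `Z₁` by the pullback of the chart
  have hrep : Representable φ := hφe.1
  obtain ⟨pV, hpV⟩ := (yon S).map_surjective (hrep.fst g)
  have sqW : IsPullback ((yon S).map pV) ((yon S).map (hrep.snd g)) φ g := by
    rw [hpV]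
    exact hrep.isPullback g
  haveI : Etale (hrep.snd g).left := hφe.property g _ _ sqW
  haveI : Surjective (hrep.snd g).left := hφs.property g _ _ sqW
  have hcomap : K.comap (hrep.snd g).left = IV.comap pV.left :=
    comap_eq_comap_of_isPullback i hcl g φ (hrep.snd g) pV sqW.w K fstK sqK IV fstV sqV
  have hKloc : Curv2.IsLocPrincipal K := by
    apply isLocPrincipal_of_comap (hrep.snd g).left K
    rw [hcomap]
    exact isLocPrincipal_comap _ _ hIV
  have hrange : ((hj.1.snd g).left.opensRange : Set ↥Z₁.left) = (K.support : Set ↥Z₁.left)ᶜ :=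
    range_left_eq_compl_support i j hU g (hj.1.fst g) (hj.1.snd g) sqP K fstK sqK
  haveI : IsAffineHom (hj.1.snd g).left.opensRange.ι :=
    isAffineHom_ι_of_isLocPrincipal K hKloc _ hrange
  haveI : IsAffineHom (hj.1.snd g).left := by
    rw [← (hj.1.snd g).left.isoOpensRange_hom_ι]
    infer_instance
  haveI : IsAffine Z₁.left := hZ₁
  exact isAffine_of_isAffineHom (hj.1.snd g).left

end Space

end Groth.Agent.H50
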