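import Groth.Agent.H50.FppfImm
import Groth.Agent.H50.SchImage3
import Groth.Agent.H51.EtaleChart

/-!
# helper50: the scheme theoretic image of a reduced algebraic space commutes with etale base change
-/

set_option autoImplicit false
set_option linter.style.haveILetI false
universe u
open CategoryTheory CategoryTheory.Limits AlgebraicGeometry Opposite

namespace Groth.Agent.H50

open AlgSp Groth.Agent.H52

variable {S : Scheme.{u}}

/-- An algebraic space etale over a reduced sheaf is reduced. -/
theorem isReducedSp_of_isEtaleMor {A B : Sp S} (hA : IsAlgSpace A) (g : A ⟶ B) (hg : IsEtaleMor g)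
    (hB : IsReducedSp B) : IsReducedSp A := by
  obtain ⟨U, φ, hφe, hφs⟩ := hA.atlas
  exact ⟨U, φ, hφe, hφs, isReduced_of_isReducedSp hB (φ ≫ g) (hg φ hφe)⟩

/-- A reduced closed subspace whose points are the closure of the image of a morphism from a reduced space is the
scheme theoretic image. -/
theorem isSchImage_of_reduced {X Y Z : Sp S} (hY : IsAlgSpace Y) (f : X ⟶ Y) (i : Z ⟶ Y)
    (hi : RepWith @IsClosedImmersion i) (hXr : IsReducedSp X) (hZr : IsReducedSp Z)
    (hrange : Set.range (Points.map i) = closure (Set.range (Points.map f))) : IsSchImage f i := by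
  refine ⟨hi, exists_factor_of_isReducedSp f i hi hXr (by rw [hrange]; exact subset_closure), ?_⟩
  rintro Z' i' hZ' hi' ⟨f'', hf''⟩
  refine exists_factor_of_isReducedSp i i' hi' hZr ?_
  rw [hrange]
  refine closure_minimal ?_ (isClosed_range_map_of_closedImmersion hY i' hi')
  rintro _ ⟨x, rfl⟩
  exact ⟨Points.map f'' x, by rw [← Points.map_comp, hf'']⟩

/-- The scheme theoretic image of a morphism from a reduced algebraic space commutes with etale base change. -/
theorem isSchImage_etale_baseChange_of_reduced {X Y Z V XV ZV : Sp S} (hX : IsAlgSpace X)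
    (hY : IsAlgSpace Y) (hZ : IsAlgSpace Z) (hV : IsAlgSpace V) (hXV : IsAlgSpace XV)
    (hZV : IsAlgSpace ZV) (f : X ⟶ Y) (i : Z ⟶ Y) (hXr : IsReducedSp X) (hZi : IsSchImage f i)
    (b : V ⟶ Y) (hb : IsEtaleMor b) (f₁ : XV ⟶ X) (fV : XV ⟶ V) (i₁ : ZV ⟶ Z) (iV : ZV ⟶ V)
    (sqX : IsPullback f₁ fV f b) (sqZ : IsPullback i₁ iV i b) : IsSchImage fV iV := by
  obtain ⟨hi, hrange, hZr⟩ := isRedInduced_of_isSchImage hX hY f i hXr hZi
  have hf₁ : IsEtaleMor f₁ := H51.isEtaleMor_snd_of_isPullback hV hY hX hXV sqX.flip hb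
  have hi₁ : IsEtaleMor i₁ := H51.isEtaleMor_snd_of_isPullback hV hY hZ hZV sqZ.flip hb
  have hXVr := isReducedSp_of_isEtaleMor hXV f₁ hf₁ hXr
  have hZVr := isReducedSp_of_isEtaleMor hZV i₁ hi₁ hZr
  have hiV : RepWith @IsClosedImmersion iV := repWith_snd_of_isPullback sqZ hi
  have hfl : LocP @Flat b := fun _ _ a' b' h ha' hb' hc => by
    haveI := H51.etale_of_isEtaleMor_of_charts b hb a' b' h ha' hb' hc
    infer_instance
  have hlfp : LocP @LocallyOfFinitePresentation b := fun _ _ a' b' h ha' hb' hc => by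
    haveI := H51.etale_of_isEtaleMor_of_charts b hb a' b' h ha' hb' hc
    infer_instance
  have hopen : IsOpenMap (Points.map b) :=
    H51.isOpenMor_of_isUnivOpenMor hY b (H51.isUnivOpenMor_of_fppf hV hY b ⟨hfl, hlfp⟩)
  refine isSchImage_of_reduced hV fV iV hiV hXVr hZVr ?_
  rw [← preimage_range_map_of_isPullback sqZ, hrange, ← preimage_range_map_of_isPullback sqX]
  exact hopen.preimage_closure_eq_closure_preimage (Points.continuous_map b) _

end Groth.Agent.H50
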