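import Groth.Agent.H50.Basic

set_option autoImplicit false
universe u
open CategoryTheory CategoryTheory.Limits AlgebraicGeometry Opposite

namespace Groth.Agent.H50

open AlgSp

variable {S : Scheme.{u}}

/-- The diagonal of a representable morphism of sheaves is representable. -/
theorem representable_diagonal {F X : Sp S} {f : F ⟶ X} (hf : Representable f) :
    Representable (pullback.diagonal f) := by
  intro T g
  obtain ⟨a, ha⟩ : ∃ a, a = g ≫ pullback.fst f f := ⟨_, rfl⟩
  obtain ⟨b, hb⟩ : ∃ b, b = g ≫ pullback.snd f f := ⟨_, rfl⟩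
  obtain ⟨c, hc⟩ : ∃ c, c = a ≫ f := ⟨_, rfl⟩
  have hcb : c = b ≫ f := by
    rw [hc, ha, hb, Category.assoc, Category.assoc, pullback.condition]
  have hia : a ≫ f = (yon S).map (𝟙 T) ≫ c := by
    rw [hc, (yon S).map_id, Category.id_comp]
  have hib : b ≫ f = (yon S).map (𝟙 T) ≫ c := by
    rw [hcb, (yon S).map_id, Category.id_comp]
  have hσa1 := hf.lift_fst a (𝟙 T) hia
  have hσa2 := hf.lift_snd a (𝟙 T) hia
  have hσb1 := hf.lift_fst b (𝟙 T) hib
  have hσb2 := hf.lift_snd b (𝟙 T) hib
  generalize hf.lift a (𝟙 T) hia = σa at hσa1 hσa2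
  generalize hf.lift b (𝟙 T) hib = σb at hσb1 hσb2
  have hfs : pullback.fst σa σb = pullback.snd σa σb := by
    have h1 := congrArg (fun m => m ≫ hf.snd c) (pullback.condition (f := σa) (g := σb))
    simpa only [Category.assoc, hσa2, hσb2, Category.comp_id] using h1
  have sqE : IsPullback ((yon S).map (pullback.fst σa σb)) ((yon S).map (pullback.snd σa σb))
      ((yon S).map σa) ((yon S).map σb) := (IsPullback.of_hasPullback σa σb).map (yon S)
  have hEab : (yon S).map (pullback.fst σa σb) ≫ a = (yon S).map (pullback.fst σa σb) ≫ b := by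
    rw [← hσa1, ← hσb1, ← Category.assoc, ← Category.assoc, sqE.w, hfs]
  refine ⟨pullback σa σb, pullback.fst σa σb, (yon S).map (pullback.fst σa σb) ≫ a, ?_⟩
  refine ⟨⟨?_⟩, ⟨PullbackCone.IsLimit.mk _ (fun s => sqE.lift s.snd s.snd ?_) ?_ ?_ ?_⟩⟩
  · apply pullback.hom_ext
    · simp only [Category.assoc, pullback.diagonal_fst, Category.comp_id]
      rw [← ha]
    · simp only [Category.assoc, pullback.diagonal_snd, Category.comp_id]
      rw [← hb]
      exact hEab
  · have hs1 : s.fst = s.snd ≫ a := by
      have := congrArg (fun m => m ≫ pullback.fst f f) s.condition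
      simpa only [Category.assoc, pullback.diagonal_fst, Category.comp_id, ← ha] using this
    have hs2 : s.fst = s.snd ≫ b := by
      have := congrArg (fun m => m ≫ pullback.snd f f) s.condition
      simpa only [Category.assoc, pullback.diagonal_snd, Category.comp_id, ← hb] using this
    apply (hf.isPullback c).hom_ext
    · rw [Category.assoc, Category.assoc, hσa1, hσb1, ← hs1, ← hs2]
    · rw [Category.assoc, Category.assoc, ← Functor.map_comp, ← Functor.map_comp, hσa2, hσb2]
  · intro s
    have hs1 : s.fst = s.snd ≫ a := by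
      have := congrArg (fun m => m ≫ pullback.fst f f) s.condition
      simpa only [Category.assoc, pullback.diagonal_fst, Category.comp_id, ← ha] using this
    rw [← Category.assoc, sqE.lift_fst, hs1]
  · intro s
    exact sqE.lift_fst _ _ _
  · intro s m hm1 hm2
    apply sqE.hom_ext
    · rw [sqE.lift_fst]; exact hm2
    · rw [sqE.lift_snd, ← hfs]; exact hm2

end Groth.Agent.H50
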