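import Groth.Agent.H50.RepBySp
import Groth.Agent.H50.Rep

/-!
# helper50: diagonals and morphisms representable by algebraic spaces
-/

set_option autoImplicit false
universe u
open CategoryTheory CategoryTheory.Limits AlgebraicGeometry Opposite

namespace Groth.Agent.H50

open AlgSp

variable {S : Scheme.{u}}

/-- The diagonal of a morphism of presheaves representable by algebraic spaces is representable by
algebraic spaces (even by schemes). -/
theorem repBySp_diagonal {F G : PSp S} (a : F ⟶ G) (ha : RepBySp a) :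
    RepBySp (pullback.diagonal a) := by
  intro T g P fst snd sq
  have sqF := IsPullback.of_hasPullback a (g ≫ pullback.fst a a ≫ a)
  obtain ⟨hsh, hF''⟩ := ha _ _ _ sqF
  obtain ⟨σa, σb, ha1, ha2, hb1, hb2⟩ := exists_sections g sqF
  obtain ⟨σa', hσa'⟩ : ∃ σa' : (yon S).obj T ⟶
      (⟨pullback a (g ≫ pullback.fst a a ≫ a), hsh⟩ : Sp S), σa'.hom = σa :=
    ⟨ObjectProperty.homMk σa, rfl⟩
  obtain ⟨σb', hσb'⟩ : ∃ σb' : (yon S).obj T ⟶
      (⟨pullback a (g ≫ pullback.fst a a ≫ a), hsh⟩ : Sp S), σb'.hom = σb :=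
    ⟨ObjectProperty.homMk σb, rfl⟩
  obtain ⟨E, e2, e1, sqE⟩ := hF''.representable_from_yon σa' σb'
  have sqE' : IsPullback e1.hom ((pyon S).map e2) σa'.hom σb'.hom :=
    sqE.map (sheafToPresheaf (J S) (Type (u + 1)))
  rw [hσa', hσb'] at sqE'
  have sqD := isPullback_diagonal_of_sections g sqF ha1 ha2 hb1 hb2 sqE'
  exact (isAlgSpaceP_pyon E).of_iso (sqD.isoIsPullback _ _ sq)

/-- Any two maps into the presheaf represented by the terminal scheme over `S` agree. -/
theorem hom_ext_pyon_top {Z : PSp S} (a b : Z ⟶ (pyon S).obj (Over.mk (𝟙 S))) : a = b := by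
  ext T' z
  apply ULift.ext
  exact Over.mkIdTerminal.hom_ext _ _

/-- If the diagonal of `F` is representable by algebraic spaces, so is every map from a scheme. -/
theorem repBySp_of_diag {F : PSp S} (hF : RepBySp (Limits.diag F)) {T : Over S}
    (ξ : (pyon S).obj T ⟶ F) : RepBySp ξ := by
  intro U ζ F' fst snd sq
  obtain ⟨t, -⟩ : ∃ t : T ⟶ Over.mk (𝟙 S), t = t := ⟨Over.homMk T.hom, rfl⟩
  obtain ⟨u', -⟩ : ∃ u' : U ⟶ Over.mk (𝟙 S), u' = u' := ⟨Over.homMk U.hom, rfl⟩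
  have sqV : IsPullback ((pyon S).map (pullback.fst t u')) ((pyon S).map (pullback.snd t u'))
      ((pyon S).map t) ((pyon S).map u') :=
    ((IsPullback.of_hasPullback t u').map (yon S)).map (sheafToPresheaf (J S) (Type (u + 1)))
  obtain ⟨v, hv1, hv2⟩ : ∃ v : F' ⟶ (pyon S).obj (pullback t u'),
      v ≫ (pyon S).map (pullback.fst t u') = fst ∧ v ≫ (pyon S).map (pullback.snd t u') = snd :=
    ⟨sqV.lift fst snd (hom_ext_pyon_top _ _), sqV.lift_fst _ _ _, sqV.lift_snd _ _ _⟩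
  have sqD := isPullback_diag_of_isPullback sq (fun a b h1 h2 => sqV.hom_ext h1 h2) hv1 hv2
  exact hF _ _ _ sqD

/-- If every map from a scheme to `F` is representable by algebraic spaces, so is the diagonal. -/
theorem repBySp_diag_of_forall {F : PSp S}
    (h : ∀ (T : Over S) (ξ : (pyon S).obj T ⟶ F), RepBySp ξ) : RepBySp (Limits.diag F) := by
  intro T ξ' P fst snd sq
  obtain ⟨x1, hx1⟩ : ∃ x1, x1 = ξ' ≫ prod.fst := ⟨_, rfl⟩
  obtain ⟨x2, hx2⟩ : ∃ x2, x2 = ξ' ≫ prod.snd := ⟨_, rfl⟩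
  have hξ' : ξ' = prod.lift x1 x2 := by
    apply Limits.prod.hom_ext
    · rw [prod.lift_fst, hx1]
    · rw [prod.lift_snd, hx2]
  have sqP := IsPullback.of_hasPullback x1 x2
  obtain ⟨hsh, hP''⟩ := h T x1 x2 _ _ sqP
  -- sheaf-level data
  obtain ⟨q1s, hq1s⟩ : ∃ q1s : (⟨pullback x1 x2, hsh⟩ : Sp S) ⟶ (yon S).obj T,
      q1s.hom = pullback.fst x1 x2 := ⟨ObjectProperty.homMk (pullback.fst x1 x2), rfl⟩
  obtain ⟨q2s, hq2s⟩ : ∃ q2s : (⟨pullback x1 x2, hsh⟩ : Sp S) ⟶ (yon S).obj T,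
      q2s.hom = pullback.snd x1 x2 := ⟨ObjectProperty.homMk (pullback.snd x1 x2), rfl⟩
  obtain ⟨t, -⟩ : ∃ t : T ⟶ Over.mk (𝟙 S), t = t := ⟨Over.homMk T.hom, rfl⟩
  obtain ⟨τ, hτ⟩ : ∃ τ, τ = (yon S).map t := ⟨_, rfl⟩
  have hcomm : q1s ≫ τ = q2s ≫ τ :=
    (sheafToPresheaf (J S) (Type (u + 1))).map_injective (by
      rw [hτ]
      exact hom_ext_pyon_top _ _)
  obtain ⟨l, hl1, hl2⟩ : ∃ l : (⟨pullback x1 x2, hsh⟩ : Sp S) ⟶ pullback τ τ,
      l ≫ pullback.fst τ τ = q1s ∧ l ≫ pullback.snd τ τ = q2s :=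
    ⟨pullback.lift q1s q2s hcomm, pullback.lift_fst _ _ _, pullback.lift_snd _ _ _⟩
  have hrepδ : Representable (pullback.diagonal τ) := by
    rw [hτ]
    exact representable_diagonal (representable_yon_map t)
  have hrepe1 : Representable (pullback.fst l (pullback.diagonal τ)) :=
    MorphismProperty.pullback_fst (P := Representable (S := S)) l (pullback.diagonal τ) hrepδ
  have hEs : IsAlgSpace (pullback l (pullback.diagonal τ)) :=
    isAlgSpace_of_representable hrepe1 hP''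
  -- pass to presheaves
  have sqE' : IsPullback (pullback.fst l (pullback.diagonal τ)).hom
      (pullback.snd l (pullback.diagonal τ)).hom l.hom (pullback.diagonal τ).hom :=
    (IsPullback.of_hasPullback l (pullback.diagonal τ)).map
      (sheafToPresheaf (J S) (Type (u + 1)))
  have sqW' : IsPullback (pullback.fst τ τ).hom (pullback.snd τ τ).hom τ.hom τ.hom :=
    (IsPullback.of_hasPullback τ τ).map (sheafToPresheaf (J S) (Type (u + 1)))
  have hδ1 : (pullback.diagonal τ).hom ≫ (pullback.fst τ τ).hom = 𝟙 _ :=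
    congrArg (fun m => m.hom) (pullback.diagonal_fst τ)
  have hδ2 : (pullback.diagonal τ).hom ≫ (pullback.snd τ τ).hom = 𝟙 _ :=
    congrArg (fun m => m.hom) (pullback.diagonal_snd τ)
  have hl1' : l.hom ≫ (pullback.fst τ τ).hom = pullback.fst x1 x2 :=
    (congrArg (fun m => m.hom) hl1).trans hq1s
  have hl2' : l.hom ≫ (pullback.snd τ τ).hom = pullback.snd x1 x2 :=
    (congrArg (fun m => m.hom) hl2).trans hq2s
  have sqD := isPullback_diag_of_equalizer sqP (fun a b h1 h2 => sqW'.hom_ext h1 h2)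
    hδ1 hδ2 hl1' hl2' sqE'
  rw [hξ'] at sq
  exact ((isAlgSpaceP_obj_iff _).2 hEs).of_iso (sqD.isoIsPullback _ _ sq)

end Groth.Agent.H50
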