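import Groth.Agent.H50.KerBC
import Groth.Agent.H50.OpenSub
import Groth.Prelude.Def_AlgSpSub

/-!
# helper50: schematically dense opens, kernels and flat base change
-/

set_option autoImplicit false
universe u
open CategoryTheory CategoryTheory.Limits AlgebraicGeometry Opposite

namespace Groth.Agent.H50

open AlgSp Groth.Agent.H52

variable {S : Scheme.{u}}

/-- The inclusion of a schematically dense open subscheme has trivial kernel. -/
theorem ker_ι_eq_bot_of_isSchematicallyDense {X : Scheme.{u}} {W : X.Opens}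
    (hW : CInt.IsSchematicallyDense W) : W.ι.ker = ⊥ := by
  apply Scheme.IdealSheafData.ext
  funext U
  have key : ∀ (A : X.Opens) (_ : A = U.1 ⊓ W) (hA : A ≤ U.1),
      Function.Injective (X.presheaf.map (homOfLE hA).op) := by
    rintro _ rfl hA
    exact hW U.1
  have hinj : Function.Injective (W.ι.app U.1) := by
    rw [Scheme.Opens.ι_app]
    refine key _ ?_ _
    rw [Scheme.Hom.image_preimage_eq_opensRange_inf, Scheme.Opens.opensRange_ι, inf_comm]
  have h1 := Scheme.Hom.ideal_ker_le W.ι U
  rw [(RingHom.injective_iff_ker_eq_bot _).1 hinj] at h1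
  exact le_bot_iff.1 h1

/-- A quasi-compact open subscheme whose inclusion has trivial kernel is schematically dense. -/
theorem isSchematicallyDense_of_ker_ι_eq_bot {X : Scheme.{u}} {W : X.Opens} [QuasiCompact W.ι]
    (hW : W.ι.ker = ⊥) : CInt.IsSchematicallyDense W := by
  haveI : IsSchemeTheoreticallyDominant W.ι := ⟨hW⟩
  intro V
  have hinj := Scheme.Hom.app_injective W.ι V
  rw [Scheme.Opens.ι_app] at hinj
  have key : ∀ (A : X.Opens) (_ : A = V ⊓ W) (hA : A ≤ V),
      Function.Injective (X.presheaf.map (homOfLE hA).op) →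
      Function.Injective (X.presheaf.map (homOfLE (inf_le_left : V ⊓ W ≤ V)).op) := by
    rintro _ rfl hA h
    exact h
  refine key _ ?_ _ hinj
  rw [Scheme.Hom.image_preimage_eq_opensRange_inf, Scheme.Opens.opensRange_ι, inf_comm]

/-- The preimage of an open subscheme of a scheme over `S`, as a pullback of sheaves. -/
theorem exists_isPullback_yon_opensOver {T V₀ : Over S} (h : T ⟶ V₀) (W : V₀.left.Opens) :
    ∃ hW : opensOver T (h.left ⁻¹ᵁ W) ⟶ opensOver V₀ W,
      IsPullback ((yon S).map hW) ((yon S).map (opensOverι T (h.left ⁻¹ᵁ W)))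
        ((yon S).map (opensOverι V₀ W)) ((yon S).map h) := by
  have hw : (h.left ∣_ W) ≫ (opensOver V₀ W).hom = (opensOver T (h.left ⁻¹ᵁ W)).hom := by
    change (h.left ∣_ W) ≫ (W.ι ≫ V₀.hom) = (h.left ⁻¹ᵁ W).ι ≫ T.hom
    rw [← Category.assoc, morphismRestrict_ι, Category.assoc, Over.w]
  have hcomm : (Over.homMk (h.left ∣_ W) hw : opensOver T (h.left ⁻¹ᵁ W) ⟶ opensOver V₀ W) ≫
      opensOverι V₀ W = opensOverι T (h.left ⁻¹ᵁ W) ≫ h := by
    apply Over.OverMorphism.ext
    exact morphismRestrict_ι h.left W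
  refine ⟨Over.homMk (h.left ∣_ W) hw, ?_⟩
  have sqO : IsPullback (Over.homMk (h.left ∣_ W) hw : opensOver T (h.left ⁻¹ᵁ W) ⟶ opensOver V₀ W)
      (opensOverι T (h.left ⁻¹ᵁ W)) (opensOverι V₀ W) h :=
    IsPullback.of_map (Over.forget S) hcomm (isPullback_morphismRestrict h.left W)
  exact sqO.map (yon S)

/-- Flat base change of a quasi-compact schematically dense open subscheme. -/
theorem isSchematicallyDense_preimage_of_flat {T V₀ : Scheme.{u}} (h : T ⟶ V₀) [Flat h]
    (W : V₀.Opens) [QuasiCompact W.ι] (hW : CInt.IsSchematicallyDense W) :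
    CInt.IsSchematicallyDense (h ⁻¹ᵁ W) := by
  have sq := isPullback_morphismRestrict h W
  haveI : QuasiCompact (h ⁻¹ᵁ W).ι := MorphismProperty.of_isPullback sq inferInstance
  apply isSchematicallyDense_of_ker_ι_eq_bot
  rw [ker_eq_comap_of_isPullback sq, ker_ι_eq_bot_of_isSchematicallyDense hW,
    Scheme.IdealSheafData.comap_bot]

end Groth.Agent.H50
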