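import Groth.Agent.H50.FOThick
import Groth.Agent.H52.EtLocalInst
import Groth.Agent.H52.LocPBC

/-!
# Chart diagrams of a morphism of thickenings

For a cartesian morphism of thickenings `(f, f') : (X ⊂ X') ⟶ (Y ⊂ Y')` of sheaves, every etale chart diagram of `f'`
restricts to an etale chart diagram of `f`, and the two chart diagrams form a cartesian morphism of thickenings of schemes.
-/

set_option autoImplicit false
universe u
open CategoryTheory CategoryTheory.Limits AlgebraicGeometry Opposite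
open AlgSp

namespace Groth.Agent.H50

variable {S : Scheme.{u}}

theorem exists_thick_chart {X X' Y Y' : Sp S} (i : X ⟶ X') (j : Y ⟶ Y') (f : X ⟶ Y)
    (f' : X' ⟶ Y') (hi : IsThickMor i) (hj : IsThickMor j) (hcart : IsPullback i f f' j)
    {U' V' : Over S} (a' : (yon S).obj U' ⟶ X') (b' : (yon S).obj V' ⟶ Y') (h' : U' ⟶ V')
    (ha' : RepWith @Etale a') (hb' : RepWith @Etale b') (comm : a' ≫ f' = (yon S).map h' ≫ b') :
    ∃ (U V : Over S) (iU : U ⟶ U') (iV : V ⟶ V') (a : (yon S).obj U ⟶ X)
      (b : (yon S).obj V ⟶ Y) (h : U ⟶ V),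
      RepWith @Etale a ∧ RepWith @Etale b ∧ a ≫ f = (yon S).map h ≫ b ∧
      IsPullback a ((yon S).map iU) i a' ∧ IsPullback b ((yon S).map iV) j b' ∧
      MoreMor.IsThickening iU.left ∧ MoreMor.IsThickening iV.left ∧
      IsPullback iU.left h.left h'.left iV.left := by
  haveI := AlgSp.repWith_isStableUnderBaseChange (S := S) @Etale
  have sqU := hi.1.isPullback a'
  have sqV := hj.1.isPullback b'
  have sqUY : IsPullback (hi.1.fst a' ≫ f) ((yon S).map (hi.1.snd a')) j
      ((yon S).map h' ≫ b') := by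
    rw [← comm]
    exact sqU.paste_horiz hcart.flip
  obtain ⟨l, hl1, hl2⟩ := sqV.exists_lift (hi.1.fst a' ≫ f)
    ((yon S).map (hi.1.snd a') ≫ (yon S).map h') (by rw [sqUY.w, Category.assoc])
  have sqL : IsPullback l ((yon S).map (hi.1.snd a')) ((yon S).map (hj.1.snd b'))
      ((yon S).map h') :=
    IsPullback.of_right (by rw [hl1]; exact sqUY) hl2 sqV
  obtain ⟨l', rfl⟩ := (yon S).map_surjective l
  have sqO : IsPullback l' (hi.1.snd a') (hj.1.snd b') h' :=
    IsPullback.of_map (yon S) (by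
      apply (yon S).map_injective
      rw [Functor.map_comp, Functor.map_comp]
      exact hl2) sqL
  have sqS : IsPullback l'.left (hi.1.snd a').left (hj.1.snd b').left h'.left :=
    sqO.map (Over.forget S)
  exact ⟨_, _, hi.1.snd a', hj.1.snd b', hi.1.fst a', hj.1.fst b', l',
    MorphismProperty.of_isPullback sqU.flip ha', MorphismProperty.of_isPullback sqV.flip hb',
    hl1.symm, sqU, sqV, hi.2 _ _ _ sqU, hj.2 _ _ _ sqV, sqS.flip⟩

/-- Transfer of an etale-local property from `f` to `f'` along a cartesian morphism of thickenings, given the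
scheme-level transfer. -/
theorem locP_of_thick {P Q Q' : MorphismProperty Scheme.{u}} {X X' Y Y' : Sp S} (i : X ⟶ X')
    (j : Y ⟶ Y') (f : X ⟶ Y) (f' : X' ⟶ Y') (hi : IsThickMor i) (hj : IsThickMor j)
    (hcart : IsPullback i f f' j)
    (htr : ∀ {A A' B B' : Scheme.{u}} (iA : A ⟶ A') (iB : B ⟶ B') (g : A ⟶ B) (g' : A' ⟶ B'),
      MoreMor.IsThickening iA → MoreMor.IsThickening iB → IsPullback iA g g' iB → Q g → Q' g' → P g → P g')
    (hQ : LocP Q f) (hQ' : LocP Q' f') (hf : LocP P f) : LocP P f' := by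
  intro U' V' a' b' h' ha' hb' comm
  obtain ⟨U, V, iU, iV, a, b, h, hae, hbe, hcomm, -, -, hUt, hVt, sq⟩ :=
    exists_thick_chart i j f f' hi hj hcart a' b' h' ha' hb' comm
  exact htr iU.left iV.left h.left h'.left hUt hVt sq (hQ a b h hae hbe hcomm)
    (hQ' a' b' h' ha' hb' comm) (hf a b h hae hbe hcomm)

end Groth.Agent.H50
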