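import Groth.Agent.H50.ThickFlat

/-!
# helper50: a base change of a finite order thickening of algebraic spaces is a finite order thickening
-/

set_option autoImplicit false
universe u
open CategoryTheory CategoryTheory.Limits AlgebraicGeometry Opposite

namespace Groth.Agent.H50

open AlgSp

variable {S : Scheme.{u}}

theorem isFinThickMor_of_isPullback {F G F' G' : Sp S} (hG : IsAlgSpace G) {i : F ⟶ G}
    {p : G' ⟶ G} {i' : F' ⟶ G'} {q : F' ⟶ F} (sq : IsPullback i' q p i)
    (hi : IsFinThickMor i) : IsFinThickMor i' := by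
  obtain ⟨n, hn⟩ := hi
  refine ⟨n, isThickMor_of_isPullback sq hn.1, ?_⟩
  intro V W b fst snd _ _ sqb
  exact powZero_of_isNThickMor hG n i hn (b ≫ p) (fst ≫ q) snd (sqb.paste_horiz sq.flip)

end Groth.Agent.H50
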