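import Groth.Agent.H50.Where2
import Groth.Agent.H50.AnUnivClosed
import Groth.Agent.H50.Etale
import Groth.Agent.S10639
import Groth.Agent.S10614
import Groth.Agent.S9984
import Groth.Agent.H52.Iso
import Groth.Agent.H52.QF.ClopenFinite
import Groth.Agent.H51.DiagOpen
import Groth.Agent.H51.Proper
import Groth.Agent.H32.GoodMore

/-! The locus over which a morphism becomes a closed immersion (helper50). -/

set_option autoImplicit false
universe u
open CategoryTheory CategoryTheory.Limits AlgebraicGeometry Opposite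

namespace Groth.Agent.H50.WhereCI

section cat

variable {C : Type*} [Category C] [HasPullbacks C]
variable {X Y X' Y' : C} {f : X ⟶ Y} {f' : X' ⟶ Y'} {gX : X' ⟶ X} {gY : Y' ⟶ Y}

/-- The comparison map of kernel pairs along a base change square. -/
noncomputable abbrev kmap (sq : IsPullback gX f' f gY) : pullback f' f' ⟶ pullback f f :=
  pullback.map f' f' f f gX gX gY sq.w.symm sq.w.symm

theorem isPullback_kmap_fst (sq : IsPullback gX f' f gY) :
    IsPullback (kmap sq) (pullback.fst f' f') (pullback.fst f f) gX := by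
  have hsnd : kmap sq ≫ pullback.snd f f = pullback.snd f' f' ≫ gX := pullback.lift_snd _ _ _
  have hfst : kmap sq ≫ pullback.fst f f = pullback.fst f' f' ≫ gX := pullback.lift_fst _ _ _
  have left : IsPullback (pullback.snd f' f') (pullback.fst f' f') f' f' :=
    (IsPullback.of_hasPullback f' f').flip
  have outer0 : IsPullback (pullback.snd f' f' ≫ gX) (pullback.fst f' f') f (f' ≫ gY) :=
    left.paste_horiz sq
  have outer : IsPullback (kmap sq ≫ pullback.snd f f) (pullback.fst f' f') f (gX ≫ f) := by
    rw [hsnd, sq.w]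
    exact outer0
  exact IsPullback.of_right outer hfst (IsPullback.of_hasPullback f f).flip

theorem diagonal_kmap (sq : IsPullback gX f' f gY) :
    pullback.diagonal f' ≫ kmap sq = gX ≫ pullback.diagonal f := by
  apply pullback.hom_ext
  · rw [Category.assoc, pullback.lift_fst, pullback.diagonal_fst_assoc, Category.assoc,
      pullback.diagonal_fst, Category.comp_id]
  · rw [Category.assoc, pullback.lift_snd, pullback.diagonal_snd_assoc, Category.assoc,
      pullback.diagonal_snd, Category.comp_id]

theorem isPullback_diagonal_kmap (sq : IsPullback gX f' f gY) :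
    IsPullback (pullback.diagonal f') gX (kmap sq) (pullback.diagonal f) := by
  have outer : IsPullback (pullback.diagonal f' ≫ pullback.fst f' f') gX gX
      (pullback.diagonal f ≫ pullback.fst f f) := by
    rw [pullback.diagonal_fst, pullback.diagonal_fst]
    exact IsPullback.of_horiz_isIso ⟨by simp⟩
  exact IsPullback.of_right outer (diagonal_kmap sq) (isPullback_kmap_fst sq).flip

theorem isPullback_kmap_proj {Z Z' : C} {q : Y ⟶ Z} {q' : Y' ⟶ Z'} {g : Z' ⟶ Z}
    (sq : IsPullback gX f' f gY) (sq1 : IsPullback gY q' q g) :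
    IsPullback (kmap sq) (pullback.fst f' f' ≫ f' ≫ q') (pullback.fst f f ≫ f ≫ q) g :=
  (isPullback_kmap_fst sq).paste_vert (sq.paste_vert sq1)

theorem mono_of_isIso_diagonal {A B : C} (h : A ⟶ B) [IsIso (pullback.diagonal h)] : Mono h := by
  have hfs : pullback.fst h h = pullback.snd h h := by
    rw [← cancel_epi (pullback.diagonal h), pullback.diagonal_fst, pullback.diagonal_snd]
  refine ⟨fun a b hab => ?_⟩
  rw [← pullback.lift_fst a b hab, hfs, pullback.lift_snd]

theorem fst_diagonal_of_mono {A B : C} (h : A ⟶ B) [Mono h] :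
    pullback.fst h h ≫ pullback.diagonal h = 𝟙 _ := by
  have hfs : pullback.fst h h = pullback.snd h h := by
    rw [← cancel_mono h]
    exact pullback.condition
  apply pullback.hom_ext
  · rw [Category.assoc, pullback.diagonal_fst, Category.comp_id, Category.id_comp]
  · rw [Category.assoc, pullback.diagonal_snd, Category.comp_id, Category.id_comp, hfs]

end cat

open AlgSp Groth.Agent.H52

variable {S : Scheme.{u}}

/-- A representable closed immersion is unramified. -/
theorem locP_unram_of_closedImmersion {F G : Sp S} {f : F ⟶ G}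
    (h : RepWith @IsClosedImmersion f) :
    LocP (@LocallyOfFiniteType ⊓ @FormallyUnramified) f := by
  have hm := (etLocal_unramified.{u}).mult
  refine Groth.Agent.H50.locP_of_repWith (P := @LocallyOfFiniteType ⊓ @FormallyUnramified)
    (etLocal_unramified.{u}).etale ?_
  exact Groth.Agent.H50.repWith_mono
    (fun _ _ g (hg : IsClosedImmersion g) => ⟨inferInstance, inferInstance⟩) h

/-- The closed immersion locus of an unramified morphism. -/
theorem where_ci_of_unramified {X Y Z : AlgSp.Space S} (f : X ⟶ Y) (q : Y ⟶ Z)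
    (hf : LocP (@LocallyOfFiniteType ⊓ @FormallyUnramified) f.hom)
    (hp : IsUnivClosedMor (f ≫ q).hom) (hq : IsSeparatedMor q.hom) :
    ∃ (W : AlgSp.Space S) (w : W ⟶ Z), RepWith @IsOpenImmersion w.hom ∧
      ∀ (Z' : AlgSp.Space S) (g : Z' ⟶ Z),
        (∃ k : Z' ⟶ W, k ≫ w = g) ↔
          ∀ (Y' : AlgSp.Space S) (gY : Y' ⟶ Y) (q' : Y' ⟶ Z'),
            IsPullback gY.hom q'.hom q.hom g.hom →
            ∀ (X' : AlgSp.Space S) (gX : X' ⟶ X) (f' : X' ⟶ Y'),
              IsPullback gX.hom f'.hom f.hom gY.hom → RepWith @IsClosedImmersion f'.hom := by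
  have sqD := IsPullback.of_hasPullback f.hom f.hom
  have hD : IsAlgSpace (pullback f.hom f.hom) :=
    isAlgSpace_of_isPullback sqD Y.property.diag X.property X.property
  have hΔ : RepWith @IsOpenImmersion (pullback.diagonal f.hom) :=
    Groth.Agent.H51.repWith_isOpenImmersion_diagonal_of_unramified X.property Y.property f.hom hf
  have hfuc : IsUnivClosedMor f.hom := Groth.Agent.H52.QF.isUnivClosedMor_of_comp f q hq hp
  have hfst : IsUnivClosedMor (pullback.fst f.hom f.hom) :=
    Groth.Agent.H51.univSp_of_isPullback _ sqD.flip hfuc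
  have hπuc : IsUnivClosedMor (pullback.fst f.hom f.hom ≫ f.hom ≫ q.hom) :=
    Groth.Agent.H51.isUnivClosedMor_comp X.property Z.property hfst hp
  have hπc : IsClosedMap (Points.map (pullback.fst f.hom f.hom ≫ f.hom ≫ q.hom)) :=
    hπuc Z.property (𝟙 _) (𝟙 _) _ IsPullback.of_id_fst
  have hΔopen : IsOpen (Set.range (Points.map (pullback.diagonal f.hom))) :=
    (Groth.Agent.H50.AnUnivClosed.isOpenMap_map_of_etale X.property _
      (Groth.Agent.H50.repWith_etale_of_isOpenImmersion hΔ)).isOpen_range
  have hT : IsClosed (Set.range (Points.map (pullback.diagonal f.hom)))ᶜ := hΔopen.isClosed_compl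
  have hW : IsOpen (Points.map (pullback.fst f.hom f.hom ≫ f.hom ≫ q.hom) ''
      (Set.range (Points.map (pullback.diagonal f.hom)))ᶜ)ᶜ := (hπc _ hT).isOpen_compl
  obtain ⟨W, w, hw, Hfac⟩ := Groth.Agent.H50.exists_openSub_space Z _ hW
  refine ⟨W, w, hw, fun Z' g => ?_⟩
  rw [Hfac Z' g]
  constructor
  · intro hg Y' gY q' sq1 X' gX f' sq2
    have sq3 : IsPullback gX.hom (f'.hom ≫ q'.hom) (f.hom ≫ q.hom) g.hom := sq2.paste_vert sq1
    have hq' : IsSeparatedMor q'.hom :=
      Groth.Agent.H32.GoodMore.isSeparatedMor_of_isPullback q g gY q' sq1 hq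
    have hp' : IsUnivClosedMor (f'.hom ≫ q'.hom) := Groth.Agent.H51.univSp_of_isPullback _ sq3 hp
    have huc' : IsUnivClosedMor f'.hom := Groth.Agent.H52.QF.isUnivClosedMor_of_comp f' q' hq' hp'
    have hf' : LocP (@LocallyOfFiniteType ⊓ @FormallyUnramified) f'.hom :=
      Groth.Agent.S9984.result (@LocallyOfFiniteType ⊓ @FormallyUnramified)
        (Or.inr (Or.inr (Or.inr (Or.inr (Or.inr (Or.inr (fun A B g => Iff.rfl)))))))
        f gY gX f' sq2 hf
    have hft' : LocP @LocallyOfFiniteType f'.hom := fun U V a b h ha hb c => (hf' a b h ha hb c).1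
    have hΔ' : RepWith @IsOpenImmersion (pullback.diagonal f'.hom) :=
      Groth.Agent.H51.repWith_isOpenImmersion_diagonal_of_unramified X'.property Y'.property
        f'.hom hf'
    have sqΔ := isPullback_diagonal_kmap sq2
    have sqπ := isPullback_kmap_proj sq2 sq1
    have hsurj : Function.Surjective (Points.map (pullback.diagonal f'.hom)) := by
      intro t'
      have hπt : Points.map (pullback.fst f.hom f.hom ≫ f.hom ≫ q.hom) (Points.map (kmap sq2) t') =
          Points.map g.hom (Points.map (pullback.fst f'.hom f'.hom ≫ f'.hom ≫ q'.hom) t') := by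
        rw [← Points.map_comp, ← Points.map_comp, sqπ.w]
      have htT : Points.map (kmap sq2) t' ∈ Set.range (Points.map (pullback.diagonal f.hom)) := by
        by_contra hcon
        exact hg ⟨_, rfl⟩ ⟨_, hcon, hπt⟩
      obtain ⟨x, hx⟩ := htT
      obtain ⟨x', hx'1, -⟩ := exists_point_of_isPullback sqΔ t' x hx.symm
      exact ⟨x', hx'1⟩
    haveI : IsIso (pullback.diagonal f'.hom) :=
      isIso_of_repWith_isOpenImmersion_of_surjective _ hΔ' hsurj
    have hm : Mono f'.hom := mono_of_isIso_diagonal f'.hom
    exact Groth.Agent.S10614.closedImmersion_of f' huc' hft' hm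
  · intro H
    obtain ⟨Y', gY, q', X', gX, f', sq1, sq2⟩ := Groth.Agent.H50.exists_baseChange_data f q g
    have hci := H Y' gY q' sq1 X' gX f' sq2
    haveI hm : Mono f'.hom := (Groth.Agent.S10614.of_closedImmersion f' hci).2.2
    have sqΔ := isPullback_diagonal_kmap sq2
    have sqπ := isPullback_kmap_proj sq2 sq1
    rintro _ ⟨z', rfl⟩ ⟨t, htT, htz⟩
    obtain ⟨t', ht'1, -⟩ := exists_point_of_isPullback sqπ t z' htz
    apply htT
    refine ⟨Points.map gX.hom (Points.map (pullback.fst f'.hom f'.hom) t'), ?_⟩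
    rw [← ht'1, ← Points.map_comp, ← Points.map_comp]
    have e : pullback.fst f'.hom f'.hom ≫ gX.hom ≫ pullback.diagonal f.hom = kmap sq2 := by
      rw [← diagonal_kmap sq2, ← Category.assoc, fst_diagonal_of_mono, Category.id_comp]
    rw [e]

end Groth.Agent.H50.WhereCI
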