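import Groth.Agent.H50.ImmFactor
import Groth.Agent.H50.ThickFlat
import Groth.Agent.H50.WhereCI
import Groth.Agent.H51.Thick
import Groth.Agent.S10587
import Groth.Agent.S10583
import Groth.Agent.S10194
import Groth.Agent.S10614

/-!
# helper50: closed immersions and immersions along a cartesian morphism of thickenings of algebraic spaces
-/

set_option autoImplicit false
universe u
open CategoryTheory CategoryTheory.Limits AlgebraicGeometry Opposite Topology

namespace Groth.Agent.H50

open AlgSp

variable {S : Scheme.{u}}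

/-- closed immersions correspond along a morphism of thickenings as soon as unramifiedness does. -/
theorem ci_iff_of_thick {X X' Y Y' : AlgSp.Space S} (i : X ⟶ X') (j : Y ⟶ Y')
    (f : X ⟶ Y) (f' : X' ⟶ Y') (hi : IsThickMor i.hom) (hj : IsThickMor j.hom)
    (w : i ≫ f' = f ≫ j)
    (hunr : LocP (@LocallyOfFiniteType ⊓ @FormallyUnramified) f.hom ↔
      LocP (@LocallyOfFiniteType ⊓ @FormallyUnramified) f'.hom) :
    RepWith @IsClosedImmersion f.hom ↔ RepWith @IsClosedImmersion f'.hom := by
  obtain ⟨-, -, hUC, hUI, -⟩ := Groth.Agent.S10587.result i j f f' hi hj w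
  rw [(Groth.Agent.S10614.result f).2.1, (Groth.Agent.S10614.result f').2.1, hUC, hunr, hUI]

/-- immersions ascend along a cartesian morphism of thickenings, given that unramifiedness of closed
immersions into open subspaces does. -/
theorem imm_of_imm_thick {X X' Y Y' : AlgSp.Space S} (i : X ⟶ X') (j : Y ⟶ Y')
    (f : X ⟶ Y) (f' : X' ⟶ Y') (hi : IsThickMor i.hom) (hj : IsThickMor j.hom)
    (hcart : IsPullback i.hom f.hom f'.hom j.hom)
    (hU : ∀ {V V' : AlgSp.Space S} (k : V ⟶ V') (c : X ⟶ V) (c' : X' ⟶ V') (v' : V' ⟶ Y'),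
      IsThickMor k.hom → i ≫ c' = c ≫ k → IsPullback i.hom c.hom c'.hom k.hom →
      RepWith @IsOpenImmersion v'.hom → c'.hom ≫ v'.hom = f'.hom →
      RepWith @IsClosedImmersion c.hom →
      (LocP (@LocallyOfFiniteType ⊓ @FormallyUnramified) c.hom ↔
        LocP (@LocallyOfFiniteType ⊓ @FormallyUnramified) c'.hom))
    (h : RepWith @IsImmersion f.hom) : RepWith @IsImmersion f'.hom := by
  obtain ⟨V, c, v, hcv, hc, hv⟩ := exists_closed_open_factorization f h
  obtain ⟨⟨V', v', k, hv', sqV⟩, -⟩ := Groth.Agent.S10583.result j hj v hv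
  have hkT : IsThickMor k.hom := isThickMor_of_isPullback sqV.flip hj
  have hcvh : c.hom ≫ v.hom = f.hom := by rw [← hcv]; rfl
  have hsub : Set.range (Points.map f'.hom) ⊆ Set.range (Points.map v'.hom) := by
    rintro _ ⟨x', rfl⟩
    obtain ⟨x, rfl⟩ := (Groth.Agent.H51.isSurjectiveMor_of_isThickMor i hi) x'
    refine ⟨Points.map k.hom (Points.map c.hom x), ?_⟩
    rw [← Points.map_comp, ← Points.map_comp, ← Points.map_comp]
    congr 1
    rw [hcart.w, ← hcvh, Category.assoc, sqV.w]
  obtain ⟨c', hc'⟩ := (Groth.Agent.S10194.result v' hv' f').2 hsub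
  have hc'h : c'.hom ≫ v'.hom = f'.hom := by rw [← hc']; rfl
  haveI : Mono v'.hom :=
    mono_of_repWith (fun _ _ g (hg : IsOpenImmersion g) => (inferInstance : Mono g)) hv'
  have wsq : i.hom ≫ c'.hom = c.hom ≫ k.hom := by
    rw [← cancel_mono v'.hom, Category.assoc, hc'h, hcart.w, Category.assoc, ← sqV.w,
      ← Category.assoc, hcvh]
  have outer : IsPullback (c.hom ≫ v.hom) i.hom j.hom (c'.hom ≫ v'.hom) := by
    rw [hcvh, hc'h]; exact hcart.flip
  have sqc : IsPullback i.hom c.hom c'.hom k.hom := (IsPullback.of_right outer wsq.symm sqV).flip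
  have wS : i ≫ c' = c ≫ k := ObjectProperty.hom_ext _ wsq
  have hc'CI : RepWith @IsClosedImmersion c'.hom :=
    (ci_iff_of_thick i k c c' hi hkT wS (hU k c c' v' hkT wS sqc hv' hc'h hc)).1 hc
  have hcomp : RepWith @IsImmersion (c'.hom ≫ v'.hom) :=
    (RepWith @IsImmersion).comp_mem _ _
      (repWith_mono (fun _ _ g (hg : IsClosedImmersion g) => (inferInstance : IsImmersion g)) hc'CI)
      (repWith_mono (fun _ _ g (hg : IsOpenImmersion g) => (inferInstance : IsImmersion g)) hv')
  rwa [hc'h] at hcomp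

/-- local finite type passes to the first factor of a factorization through an open immersion. -/
theorem locP_lft_of_comp_openImmersion {F G H : Sp S} {c : F ⟶ G} {v : G ⟶ H} {f : F ⟶ H}
    (hv : RepWith @IsOpenImmersion v) (hcv : c ≫ v = f) (hf : LocP @LocallyOfFiniteType f) :
    LocP @LocallyOfFiniteType c := by
  intro U W a b h ha hb comm
  have hb' : RepWith @Etale (b ≫ v) :=
    (RepWith @Etale).comp_mem _ _ hb
      (repWith_mono (fun _ _ g (hg : IsOpenImmersion g) => (inferInstance : Etale g)) hv)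
  exact hf a (b ≫ v) h ha hb' (by rw [← hcv, ← Category.assoc, comm, Category.assoc])

end Groth.Agent.H50
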