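import Groth.Agent.H50.ThickFlat
import Groth.Agent.H52.FibProd
import Groth.Agent.S1309

/-!
# helper50: locally of finite type ascends along a cartesian morphism of thickenings whose SOURCE thickening has finite order
-/

set_option autoImplicit false
universe u
open CategoryTheory CategoryTheory.Limits AlgebraicGeometry Opposite

namespace Groth.Agent.H50

open AlgSp

theorem lft_of_isPullback_of_finiteOrder_source {U U' V V' : Scheme.{u}} {iU : U ⟶ U'}
    {iV : V ⟶ V'} {k : U ⟶ V} {k' : U' ⟶ V'} (sq : IsPullback iU k k' iV)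
    (hV : MoreMor.IsThickening iV) (hU : MoreMor.IsFiniteOrderThickening iU)
    [LocallyOfFiniteType k] : LocallyOfFiniteType k' := by
  obtain ⟨hcV, hsV⟩ := hV
  haveI := hcV
  obtain ⟨-, n, hn⟩ := hU
  have hn' : iU.ker ^ (n + 1) = ⊥ := by
    rw [pow_succ, hn, zero_mul]; rfl
  have hker : iU.ker = iV.ker.comap k' := ker_eq_comap_of_isClosedImmersion sq.flip
  obtain ⟨J, hJ⟩ : ∃ J : V'.IdealSheafData, J = iV.ker ^ (n + 1) := ⟨_, rfl⟩
  have hJc : J.comap k' = ⊥ := by rw [hJ, comap_pow_succ, ← hker, hn']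
  have hJk : J ≤ k'.ker := by
    have h1 : J ≤ (⊥ : U'.IdealSheafData).map k' :=
      Scheme.IdealSheafData.le_map_iff_comap_le.2 hJc.le
    rwa [Scheme.IdealSheafData.map_bot] at h1
  have hJV : J ≤ iV.ker := by
    rw [hJ]
    exact pow_le_of_le_one (show (0 : V'.IdealSheafData) ≤ iV.ker from bot_le)
      (show iV.ker ≤ (1 : V'.IdealSheafData) from le_top) n.succ_ne_zero
  have hιk : J.subschemeι.ker = J := J.ker_subschemeι
  obtain ⟨k'', hk''⟩ : ∃ k'' : U' ⟶ J.subscheme, k'' ≫ J.subschemeι = k' :=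
    ⟨IsClosedImmersion.lift J.subschemeι k' (by rw [hιk]; exact hJk),
      IsClosedImmersion.lift_fac _ _ _⟩
  obtain ⟨iV'', hiV''⟩ : ∃ iV'' : V ⟶ J.subscheme, iV'' ≫ J.subschemeι = iV :=
    ⟨IsClosedImmersion.lift J.subschemeι iV (by rw [hιk]; exact hJV),
      IsClosedImmersion.lift_fac _ _ _⟩
  have sq'' : IsPullback iU k k'' iV'' :=
    Groth.Agent.H52.isPullback_of_comp_mono J.subschemeι (by rw [hk'', hiV'']; exact sq)
  haveI : IsClosedImmersion (iV'' ≫ J.subschemeι) := by rw [hiV'']; exact hcV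
  haveI hc'' : IsClosedImmersion iV'' := IsClosedImmersion.of_comp_isClosedImmersion iV'' J.subschemeι
  have hsurj'' : Surjective iV'' := by
    refine ⟨fun y => ?_⟩
    obtain ⟨v, hv⟩ := hsV.surj (J.subschemeι y)
    refine ⟨v, J.subschemeι.isEmbedding.injective ?_⟩
    rw [← Scheme.Hom.comp_apply, hiV'', hv]
  have sqid : IsPullback (𝟙 V) iV'' iV J.subschemeι := by
    have h0 : IsPullback (𝟙 V) iV'' (iV'' ≫ J.subschemeι) J.subschemeι :=
      IsPullback.of_horiz_isIso_mono ⟨by simp⟩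
    rwa [hiV''] at h0
  have hkerV'' : iV''.ker = iV.ker.comap J.subschemeι := ker_eq_comap_of_isClosedImmersion sqid
  have hbot : J.comap J.subschemeι = ⊥ := by
    have h1 := Scheme.IdealSheafData.comap_map_le (⊥ : J.subscheme.IdealSheafData) J.subschemeι
    rw [Scheme.IdealSheafData.map_bot, hιk] at h1
    exact le_bot_iff.1 h1
  have hfin'' : MoreMor.IsFiniteOrderThickening iV'' := by
    refine ⟨⟨hc'', hsurj''⟩, n + 1, ?_⟩
    rw [hkerV'', ← comap_pow_succ, ← hJ, hbot]
    rfl
  haveI : LocallyOfFiniteType k'' := (Groth.Agent.S1309.result iU iV'' k k'' hfin'' sq'').1 inferInstance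
  rw [← hk'']
  infer_instance

end Groth.Agent.H50
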