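import Groth.Agent.H50.Where
import Groth.Agent.H50.Lfp
import Groth.Agent.H52.EtLocalInst
import Groth.Agent.H56.LciAlgSp
import Groth.Agent.S9962

/-!
# helper50: more pieces for the "where a base change has a property" results
-/

set_option autoImplicit false
universe u
open CategoryTheory CategoryTheory.Limits AlgebraicGeometry Opposite

namespace Groth.Agent.H50

open AlgSp Groth.Agent.H52

variable {S : Scheme.{u}}

/-- The open subspace attached to an open subset of the points of an algebraic space, with its universal property. -/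
theorem exists_openSub_space (Z : AlgSp.Space S) (Wset : Set (AlgSp.Points Z.obj)) (hW : IsOpen Wset) :
    ∃ (W : AlgSp.Space S) (w : W ⟶ Z), AlgSp.RepWith @IsOpenImmersion w.hom ∧
      ∀ (Z' : AlgSp.Space S) (g : Z' ⟶ Z),
        (∃ k : Z' ⟶ W, k ≫ w = g) ↔ Set.range (AlgSp.Points.map g.hom) ⊆ Wset := by
  let Wsp : AlgSp.Space S := ⟨openSub Z.obj Wset, isAlgSpace_openSub hW Z.property⟩
  let w : Wsp ⟶ Z := ObjectProperty.homMk (openSubι Z.obj Wset)
  have hw : AlgSp.RepWith @IsOpenImmersion w.hom := repWith_isOpenImmersion_openSubι hW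
  refine ⟨Wsp, w, hw, fun Z' g => ?_⟩
  rw [Groth.Agent.S10194.result w hw g]
  have hr : Set.range (AlgSp.Points.map w.hom) = Wset := range_map_openSubι Z.obj Wset
  rw [hr]

/-- Canonical base change data of `X ⟶ Y ⟶ Z` along `Z' ⟶ Z`. -/
theorem exists_baseChange_data {X Y Z Z' : AlgSp.Space S} (f : X ⟶ Y) (q : Y ⟶ Z) (g : Z' ⟶ Z) :
    ∃ (Y' : AlgSp.Space S) (gY : Y' ⟶ Y) (q' : Y' ⟶ Z') (X' : AlgSp.Space S) (gX : X' ⟶ X)
      (f' : X' ⟶ Y'),
      IsPullback gY.hom q'.hom q.hom g.hom ∧ IsPullback gX.hom f'.hom f.hom gY.hom := by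
  have sq1 := IsPullback.of_hasPullback q.hom g.hom
  have hY' : AlgSp.IsAlgSpace (pullback q.hom g.hom) :=
    isAlgSpace_of_isPullback sq1 Z.property.diag Y.property Z'.property
  let Y' : AlgSp.Space S := ⟨pullback q.hom g.hom, hY'⟩
  let gY : Y' ⟶ Y := ObjectProperty.homMk (pullback.fst q.hom g.hom)
  let q' : Y' ⟶ Z' := ObjectProperty.homMk (pullback.snd q.hom g.hom)
  have sq2 := IsPullback.of_hasPullback f.hom (pullback.fst q.hom g.hom)
  have hX' : AlgSp.IsAlgSpace (pullback f.hom (pullback.fst q.hom g.hom)) :=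
    isAlgSpace_of_isPullback sq2 Y.property.diag X.property hY'
  let X' : AlgSp.Space S := ⟨pullback f.hom (pullback.fst q.hom g.hom), hX'⟩
  let gX : X' ⟶ X := ObjectProperty.homMk (pullback.fst f.hom (pullback.fst q.hom g.hom))
  let f' : X' ⟶ Y' := ObjectProperty.homMk (pullback.snd f.hom (pullback.fst q.hom g.hom))
  exact ⟨Y', gY, q', X', gX, f', sq1, sq2⟩

/-- In base change data, the points of `X'` surject onto `|X| ×_{|Z|} |Z'|`. -/
theorem exists_point_baseChange {X Y Z Z' Y' X' : AlgSp.Space S} {f : X ⟶ Y} {q : Y ⟶ Z} {g : Z' ⟶ Z}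
    {gY : Y' ⟶ Y} {q' : Y' ⟶ Z'} {gX : X' ⟶ X} {f' : X' ⟶ Y'}
    (sq1 : IsPullback gY.hom q'.hom q.hom g.hom) (sq2 : IsPullback gX.hom f'.hom f.hom gY.hom)
    (x : AlgSp.Points X.obj) (z' : AlgSp.Points Z'.obj)
    (h : AlgSp.Points.map q.hom (AlgSp.Points.map f.hom x) = AlgSp.Points.map g.hom z') :
    ∃ x' : AlgSp.Points X'.obj, AlgSp.Points.map gX.hom x' = x ∧
      AlgSp.Points.map q'.hom (AlgSp.Points.map f'.hom x') = z' := by
  have sq3 : IsPullback gX.hom (f'.hom ≫ q'.hom) (f.hom ≫ q.hom) g.hom := sq2.paste_vert sq1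
  obtain ⟨x', hx', hz'⟩ := exists_point_of_isPullback sq3 x z'
    (by rw [AlgSp.Points.map_comp]; exact h)
  exact ⟨x', hx', by rw [← AlgSp.Points.map_comp]; exact hz'⟩

/-- The pointwise criterion behind `where_of_locus`, for arbitrary base change data. -/
theorem range_subset_compl_image_iff {X Y Z Z' Y' X' : AlgSp.Space S} {f : X ⟶ Y} {q : Y ⟶ Z}
    {g : Z' ⟶ Z} {gY : Y' ⟶ Y} {q' : Y' ⟶ Z'} {gX : X' ⟶ X} {f' : X' ⟶ Y'}
    (sq1 : IsPullback gY.hom q'.hom q.hom g.hom) (sq2 : IsPullback gX.hom f'.hom f.hom gY.hom)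
    (T : Set (AlgSp.Points X.obj)) :
    Set.range (AlgSp.Points.map g.hom) ⊆ (AlgSp.Points.map (f ≫ q).hom '' Tᶜ)ᶜ ↔
      ∀ x', AlgSp.Points.map gX.hom x' ∈ T := by
  have hpe : (f ≫ q).hom = f.hom ≫ q.hom := rfl
  constructor
  · intro hg x'
    by_contra hx
    have h1 : AlgSp.Points.map (f ≫ q).hom (AlgSp.Points.map gX.hom x') ∈
        AlgSp.Points.map (f ≫ q).hom '' Tᶜ := ⟨_, hx, rfl⟩
    have h2 : AlgSp.Points.map (f ≫ q).hom (AlgSp.Points.map gX.hom x') =
        AlgSp.Points.map g.hom (AlgSp.Points.map q'.hom (AlgSp.Points.map f'.hom x')) := by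
      have e : gX.hom ≫ (f ≫ q).hom = f'.hom ≫ q'.hom ≫ g.hom := by
        rw [hpe, ← Category.assoc, sq2.w, Category.assoc, sq1.w]
      rw [← AlgSp.Points.map_comp, e, AlgSp.Points.map_comp, AlgSp.Points.map_comp]
    exact hg ⟨_, h2.symm⟩ h1
  · intro hall z hz
    obtain ⟨z', rfl⟩ := hz
    rintro ⟨x, hxT, hx⟩
    obtain ⟨x', hx', -⟩ := exists_point_baseChange sq1 sq2 x z'
      (by rw [← AlgSp.Points.map_comp]; exact hx)
    exact hxT (hx' ▸ hall x')

/-- `LocP P` is preserved by precomposition with a representable etale morphism. -/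
theorem locP_repEtale_comp {P : MorphismProperty Scheme.{u}} {X' X Y : AlgSp.Sp S} {f : X ⟶ Y}
    (hf : AlgSp.LocP P f) (j : X' ⟶ X) (hj : AlgSp.RepWith @Etale j) : AlgSp.LocP P (j ≫ f) := by
  intro U V a b h ha hb comm
  have := AlgSp.repWith_isMultiplicative (S := S) @Etale
  exact hf (a ≫ j) b h ((AlgSp.RepWith @Etale).comp_mem _ _ ha hj) hb
    (by rw [Category.assoc, comm])

/-- A representable open immersion is representable etale. -/
theorem repWith_etale_of_isOpenImmersion {F G : AlgSp.Sp S} {j : F ⟶ G}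
    (hj : AlgSp.RepWith @IsOpenImmersion j) : AlgSp.RepWith @Etale j :=
  repWith_mono (fun _ _ g hg => by haveI : IsOpenImmersion g := hg; infer_instance) hj

/-- `f` is flat on an open subspace contained in its flat locus. -/
theorem locP_flat_openSub_of_subset {X Y : AlgSp.Sp S} (f : X ⟶ Y) {W₀ : Set (AlgSp.Points X)}
    (hW₀ : IsOpen W₀) (hT : ∀ x ∈ W₀, AlgSp.IsFlatAtMor f x) :
    AlgSp.LocP @Flat (openSubι X W₀ ≫ f) := by
  rw [locP_flat_iff_forall]
  intro ξ U V a b h u ha hb comm hu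
  have hj : AlgSp.RepWith @Etale (openSubι X W₀) :=
    repWith_etale_of_isOpenImmersion (repWith_isOpenImmersion_openSubι hW₀)
  have := AlgSp.repWith_isMultiplicative (S := S) @Etale
  have ha' : AlgSp.RepWith @Etale (a ≫ openSubι X W₀) :=
    (AlgSp.RepWith @Etale).comp_mem _ _ ha hj
  have hmem : AlgSp.Points.map (openSubι X W₀) ξ ∈ W₀ :=
    (range_map_openSubι X W₀).subset ⟨ξ, rfl⟩
  exact hT _ hmem (a ≫ openSubι X W₀) b h u ha' hb (by rw [Category.assoc, comm])
    (by rw [← AlgSp.Points.map_ofPt, hu])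

/-- Cancellation: `f ≫ q` locally of finite presentation and `q` locally of finite type give `f` locally of finite
presentation. -/
theorem locP_lfp_of_comp {X Y Z : AlgSp.Space S} (f : X ⟶ Y) (q : Y ⟶ Z)
    (hp : AlgSp.LocP @LocallyOfFinitePresentation (f ≫ q).hom)
    (hq : AlgSp.LocP @LocallyOfFiniteType q.hom) :
    AlgSp.LocP @LocallyOfFinitePresentation f.hom := by
  obtain ⟨T, c, hce, hcs⟩ := Z.property.atlas
  exact Groth.Agent.H56.LciAlgSp.locP_of_comp_cancel (P := @LocallyOfFinitePresentation)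
    (Q := @LocallyOfFiniteType)
    (fun A B C k l hl hkl => lfp_of_comp_of_lft k l hkl hl)
    (fun A B C k l hl hk => by
      haveI : Etale l := hl
      haveI : LocallyOfFinitePresentation k := hk
      exact (inferInstance : LocallyOfFinitePresentation (k ≫ l)))
    srcLocal_lfp f.hom q.hom c hce hcs hq hp

/-- The image of an open subset of the flat locus of a morphism locally of finite presentation is open. -/
theorem isOpen_image_of_flat {X Y : AlgSp.Space S} (f : X ⟶ Y)
    (hfp : AlgSp.LocP @LocallyOfFinitePresentation f.hom) {O : Set (AlgSp.Points X.obj)}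
    (hO : IsOpen O) (hOT : ∀ x ∈ O, AlgSp.IsFlatAtMor f.hom x) :
    IsOpen (AlgSp.Points.map f.hom '' O) := by
  let XO : AlgSp.Space S := ⟨openSub X.obj O, isAlgSpace_openSub hO X.property⟩
  let fO : XO ⟶ Y := ObjectProperty.homMk (openSubι X.obj O ≫ f.hom)
  have hfl : AlgSp.LocP @Flat fO.hom := locP_flat_openSub_of_subset f.hom hO hOT
  have hfp' : AlgSp.LocP @LocallyOfFinitePresentation fO.hom :=
    locP_repEtale_comp hfp _ (repWith_etale_of_isOpenImmersion (repWith_isOpenImmersion_openSubι hO))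
  have hUO := Groth.Agent.S9962.result fO hfl hfp'
  have hopen : IsOpenMap (AlgSp.Points.map fO.hom) :=
    hUO Y.property (𝟙 _) (𝟙 _) fO.hom IsPullback.of_id_fst
  have e : AlgSp.Points.map f.hom '' O = Set.range (AlgSp.Points.map fO.hom) := by
    have h1 : AlgSp.Points.map fO.hom =
        AlgSp.Points.map f.hom ∘ AlgSp.Points.map (openSubι X.obj O) :=
      funext fun x => AlgSp.Points.map_comp _ _ x
    rw [h1, Set.range_comp, range_map_openSubι]
  rw [e]
  exact hopen.isOpen_range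

end Groth.Agent.H50
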