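import Groth.Agent.H50.WhereCI
import Groth.Agent.H50.RepIso
import Groth.Agent.H50.Descent
import Groth.Agent.S10194

/-! Flat surjective closed immersions are isomorphisms (helper50). -/

set_option autoImplicit false
universe u
open CategoryTheory CategoryTheory.Limits AlgebraicGeometry Opposite

namespace Groth.Agent.H50.WhereIso

/-- A flat surjective closed immersion of schemes is an isomorphism. -/
theorem isIso_of_isClosedImmersion_of_flat_of_surjective {V T : Scheme.{u}} (i : V ⟶ T)
    [IsClosedImmersion i] [Flat i] [Surjective i] : IsIso i := by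
  show MorphismProperty.isomorphisms Scheme i
  rw [IsZariskiLocalAtTarget.iff_of_openCover (P := MorphismProperty.isomorphisms Scheme)
    T.affineCover]
  intro j
  show IsIso (pullback.snd i (T.affineCover.f j))
  haveI : IsAffine (T.affineCover.X j) := inferInstance
  haveI : IsAffine (pullback i (T.affineCover.f j)) :=
    (IsClosedImmersion.isAffine_surjective_of_isAffine (pullback.snd i (T.affineCover.f j))).1
  apply IsClosedImmersion.isIso_of_injective_of_isAffine
  have hff := (Flat.flat_and_surjective_iff_faithfullyFlat_of_isAffine
    (f := pullback.snd i (T.affineCover.f j))).1 ⟨inferInstance, inferInstance⟩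
  exact hff.injective

open AlgSp Groth.Agent.H52

variable {S : Scheme.{u}}

/-- A flat surjective closed immersion of algebraic spaces is an isomorphism. -/
theorem isIso_of_ci_flat_surj {X Y : AlgSp.Space S} (f : X ⟶ Y)
    (hci : RepWith @IsClosedImmersion f.hom) (hs : IsSurjectiveMor f.hom)
    (hfl : LocP @Flat f.hom) : IsIso f.hom := by
  have hflat : RepWith @Flat f.hom :=
    Groth.Agent.H50.repWith_of_locP Groth.Agent.H50.flat_descendsAlong_fppf hci.1
      Y.property.atlas hfl
  apply isIso_of_representable_of_forall_isIso f.hom hci.1
  intro T V g fst snd sq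
  haveI h1 : IsClosedImmersion snd.left := hci.2 _ _ _ sq
  haveI h3 : Flat snd.left := hflat.2 _ _ _ sq
  haveI h2 : Surjective snd.left := ⟨fun t => by
    obtain ⟨x, hx⟩ := hs (Points.ofPt g t)
    rw [Points.ofPt_eq_map_ofScheme] at hx
    obtain ⟨z, -, hz⟩ := exists_point_of_isPullback sq x _ hx
    obtain ⟨v, rfl⟩ := (Points.schemeEquiv V).surjective z
    change Points.map _ (Points.ofScheme V v) = _ at hz
    rw [map_yon_map_ofScheme] at hz
    exact ⟨v, ofScheme_injective T hz⟩⟩
  have h4 : IsIso ((Over.forget S).map snd) :=
    isIso_of_isClosedImmersion_of_flat_of_surjective snd.left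
  exact isIso_of_reflects_iso snd (Over.forget S)

end Groth.Agent.H50.WhereIso
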